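import Cfsg.Agent.Lib.Walter8.Quot

/-!
One line and the torus Sylow property from the shape of the centralisers.
-/

set_option autoImplicit false
set_option linter.style.haveILetI false
set_option linter.unusedSectionVars false

namespace Cfsg.Agent.Walter8

open Subgroup
open Cfsg.Agent.ClosedAbelian (core)

universe u

variable {G : Type u} [Group G] [Finite G] {S : Subgroup G}

theorem LType.oneLine (hE : Eight S) (hL : LType S) : OneLine S := by
  intro a ha ha1 b hb hb1 hba c hc hc1 hca hcb hcab R hRC hRo hSR x hx y hy hxb hyc hxi hyi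
  obtain ⟨Y, _, _, Lb, π, hM⟩ := hL.exists_mod hE ha ha1
  have hbC := hE.mem_cen ha hb
  have hcC := hE.mem_cen ha hc
  set D := (R.subgroupOf (cen a)).map π with hD
  have hDo : Odd (Nat.card D) := by
    have h : Odd (Nat.card R) := by rwa [← Nat.not_even_iff_odd, even_iff_two_dvd]
    refine h.of_dvd_nat ((card_map_dvd _ _).trans (dvd_of_eq ?_))
    exact Nat.card_congr (subgroupOfEquivOfLe hRC).toEquiv
  have hn : ∀ s (hs : s ∈ S), ∀ d ∈ D,
      π ⟨s, hE.mem_cen ha hs⟩ * d * (π ⟨s, hE.mem_cen ha hs⟩)⁻¹ ∈ D := by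
    rintro s hs _ ⟨g, hg, rfl⟩
    refine ⟨⟨s, hE.mem_cen ha hs⟩ * g * ⟨s, hE.mem_cen ha hs⟩⁻¹, ?_, by simp⟩
    exact (mem_normalizer_iff.1 (hSR hs) _).1 hg
  have hxD : π ⟨x, hRC hx⟩ ∈ D := ⟨_, (show (⟨x, hRC hx⟩ : cen a) ∈ R.subgroupOf (cen a) from hx), rfl⟩
  have hyD : π ⟨y, hRC hy⟩ ∈ D := ⟨_, (show (⟨y, hRC hy⟩ : cen a) ∈ R.subgroupOf (cen a) from hy), rfl⟩
  have hbx : π ⟨b, hbC⟩ * π ⟨x, hRC hx⟩ = π ⟨x, hRC hx⟩ * π ⟨b, hbC⟩ := by
    rw [← map_mul, ← map_mul]; exact congrArg π (Subtype.ext hxb.symm)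
  have hcy : π ⟨c, hcC⟩ * π ⟨y, hRC hy⟩ = π ⟨y, hRC hy⟩ * π ⟨c, hcC⟩ := by
    rw [← map_mul, ← map_mul]; exact congrArg π (Subtype.ext hyc.symm)
  have hxo := ClosedAbelian.odd_orderOf_of_mem hRo hx
  have hyo := ClosedAbelian.odd_orderOf_of_mem hRo hy
  haveI := hM.facts.normal
  haveI := hM.facts.simple
  have hshape : GW.Shape Y :=
    Or.inr (Or.inr ⟨Lb, hM.facts.normal, hM.facts.simple, hM.facts.noncomm, hM.target, hM.cent⟩)
  rcases GW.four_odd hM.dih hshape (hM.order hE ha hb hbC hb1 hba) (hM.order hE ha hc hcC hc1 hca)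
      (hM.ne hE ha hb hc hbC hcC hcb hcab) (hM.comm hE hb hc hbC hcC) hDo (hn b hb) (hn c hc)
    with h | h | h
  · exact Or.inr (hM.mem_core_of_fixed hE ha hb hc hb1 hba hc1 hca hcb hcab (hRC hy) hyo hyi
      (h _ hyD) hcy)
  · exact Or.inl (hM.mem_core_of_fixed hE ha hb hc hb1 hba hc1 hca hcb hcab (hRC hx) hxo hxi
      hbx (h _ hxD))
  · refine Or.inl (hM.mem_core_of_fixed hE ha hb hc hb1 hba hc1 hca hcb hcab (hRC hx) hxo hxi hbx ?_)
    have h1 := h _ hxD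
    set vb := π ⟨b, hbC⟩
    set vc := π ⟨c, hcC⟩
    have hvb : vb * vb = 1 := hM.sq hE hb hbC
    calc vc * π ⟨x, hRC hx⟩ = vb * (vb * vc * π ⟨x, hRC hx⟩) := by
          rw [mul_assoc vb vc, ← mul_assoc vb vb, hvb, one_mul]
      _ = vb * π ⟨x, hRC hx⟩ * (vb * vc) := by rw [h1, mul_assoc]
      _ = π ⟨x, hRC hx⟩ * vb * (vb * vc) := by rw [hbx]
      _ = π ⟨x, hRC hx⟩ * vc := by rw [mul_assoc, ← mul_assoc vb vb, hvb, one_mul]

theorem LType.torusSylow (hE : Eight S) (hL : LType S) : TorusSylow S := by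
  intro a ha ha1 b hb hb1 hba K hKC hSK r hr z hzK hzr hzb hzi hzO
  haveI : Fact r.Prime := ⟨hr⟩
  haveI : Fact (Nat.Prime 2) := ⟨Nat.prime_two⟩
  by_cases hr2 : r = 2
  · subst hr2
    refine ⟨S, hSK, hE.isPGroup, fun h => hE.sixteen ?_, le_sup_of_le_right
      (le_inf (hE.le_cen ha) (hE.le_cen hb))⟩
    have h16 : 16 ∣ Nat.card K := by
      rw [← (S.subgroupOf K).card_mul_index, Nat.card_congr (subgroupOfEquivOfLe hSK).toEquiv, hE.card]
      exact Nat.mul_dvd_mul (dvd_refl 8) h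
    exact h16.trans (card_subgroup_dvd_card K)
  obtain ⟨Y, _, _, Lb, π, hM⟩ := hL.exists_mod hE ha ha1
  have haa := hE.sq a ha
  have hbC := hE.mem_cen ha hb
  obtain ⟨k, hk⟩ := hzr
  obtain ⟨P, hP⟩ := (IsPGroup.of_card (p := r) (n := k) (by
    rw [Nat.card_zpowers, Subgroup.orderOf_mk, hk]) :
      IsPGroup r (zpowers (⟨z, hzK⟩ : K))).exists_le_sylow
  set Q := (P : Subgroup K).map K.subtype with hQ
  have hQK : Q ≤ K := map_subtype_le _
  have hQp : IsPGroup r Q := P.isPGroup'.map _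
  have hzQ : z ∈ Q := ⟨⟨z, hzK⟩, hP (mem_zpowers _), rfl⟩
  refine ⟨Q, hQK, hQp, ?_, ?_⟩
  · rw [hQ, relIndex, subgroupOf, comap_map_eq_self_of_injective K.subtype_injective]
    exact P.not_dvd_index
  have hodd : ∀ {X : Type u} [Group X] {H : Subgroup X} [Finite X], IsPGroup r H → ∀ y ∈ H, Odd (orderOf y) :=
    fun {X} _ {H} _ hH y hy => by
      obtain ⟨j, hj⟩ := IsPGroup.iff_orderOf.1 hH ⟨y, hy⟩
      rw [Subgroup.orderOf_mk] at hj
      rw [hj]
      exact (hr.odd_of_ne_two hr2).pow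
  have hzC : z ∈ cen a := hKC hzK
  set vb := π ⟨b, hbC⟩ with hvb
  set zb := π ⟨z, hzC⟩ with hzb'
  set Qb := (Q.subgroupOf (cen a)).map π with hQb
  have hQbp : IsPGroup r Qb := (hQp.comap_subtype (K := cen a)).map π
  have hzQb : zb ∈ Qb := ⟨_, (show (⟨z, hzC⟩ : cen a) ∈ Q.subgroupOf (cen a) from hzQ), rfl⟩
  have hzo : Odd (orderOf zb) := hodd hQbp _ hzQb
  have hz1 : zb ≠ 1 := fun e => hzO (hM.map_eq_one_core haa e (hodd hQp z hzQ))
  have hzL : zb ∈ Lb := by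
    obtain ⟨u, hu, hux⟩ := hzi
    refine hM.facts.inverted_mem (π ⟨u, hE.mem_cen ha hu⟩) zb (hM.sq hE hu _) hzo ?_
    rw [← map_mul, ← map_inv, ← map_mul, ← map_inv]
    exact congrArg π (Subtype.ext hux)
  have hvo : orderOf vb = 2 := hM.order hE ha hb hbC hb1 hba
  have hvL : vb ∈ Lb := hM.invol_mem (hM.sq hE hb hbC)
  have hvz : vb * zb = zb * vb := by
    rw [← map_mul, ← map_mul]; exact congrArg π (Subtype.ext hzb.symm)
  set R := Qb ⊓ Lb with hR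
  have hRp : IsPGroup r R := hQbp.to_le inf_le_left
  haveI : Nontrivial R := ⟨⟨zb, mem_inf.2 ⟨hzQb, hzL⟩⟩, 1, fun e => hz1 (congrArg Subtype.val e)⟩
  obtain ⟨⟨⟨w, hwR⟩, hwc⟩, hw1⟩ := @exists_ne _ hRp.center_nontrivial 1
  have hw1' : w ≠ 1 := fun e => hw1 (Subtype.ext (Subtype.ext e))
  have hwcomm : ∀ y ∈ R, y * w = w * y := fun y hy =>
    congrArg Subtype.val (Subgroup.mem_center_iff.1 hwc ⟨y, hy⟩)
  have hvw : vb * w = w * vb :=
    hM.facts.torus vb zb w hvo hzL hz1 hzo hvz hwR.2 (hwcomm zb ⟨hzQb, hzL⟩).symm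
  have hvR : ∀ y ∈ R, vb * y = y * vb := fun y hy =>
    hM.facts.torus vb w y hvo hwR.2 hw1' (hodd hRp w hwR) hvw hy.2 (hwcomm y hy)
  haveI := hM.facts.normal
  have hQv : ∀ q ∈ Qb, q * vb * q⁻¹ = vb := by
    intro q hq
    set v' := q * vb * q⁻¹ with hv'
    have hv'o : orderOf v' = 2 := by rw [hv', Invol.order_conj, hvo]
    have hv'L : v' ∈ Lb := hM.facts.normal.conj_mem _ hvL q
    have hv'z : v' * zb = zb * v' := by
      have h1 := hvR (q⁻¹ * zb * q) (mem_inf.2 ⟨mul_mem (mul_mem (inv_mem hq) hzQb) hq, by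
        simpa using hM.facts.normal.conj_mem _ hzL q⁻¹⟩)
      calc v' * zb = q * (vb * (q⁻¹ * zb * q)) * q⁻¹ := by rw [hv']; group
        _ = q * (q⁻¹ * zb * q * vb) * q⁻¹ := by rw [h1]
        _ = zb * v' := by rw [hv']; group
    by_contra hne
    exact hz1 (hM.facts.klein_cent vb v' zb hvL hv'L hvo hv'o (Ne.symm hne)
      (hM.facts.torus_comm vb zb vb v' hvo hzL hz1 hzo hvz hvL hvz hv'L hv'z) hzL hzo hvz hv'z)
  intro q hq
  have hqC : q ∈ cen a := hKC (hQK hq)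
  set O := core (cen a) with hO
  have haC : a ∈ cen a := mem_centralizer_singleton_iff.2 rfl
  have hm : q * b * q⁻¹ * b⁻¹ ∈ O ⊔ zpowers a := (hM.ker (⟨q, hqC⟩ * ⟨b, hbC⟩ * ⟨q, hqC⟩⁻¹ * ⟨b, hbC⟩⁻¹)).1 (by
    rw [map_mul, map_mul, map_mul, map_inv, map_inv,
      hQv _ ⟨⟨q, hqC⟩, (show (⟨q, hqC⟩ : cen a) ∈ Q.subgroupOf (cen a) from hq), rfl⟩, mul_inv_cancel])
  -- the square centralises `b` modulo the core
  have hsq : q * q * b * (q * q)⁻¹ * b⁻¹ ∈ O := by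
    rcases mem_sup_cases haa hm with h | ⟨o, ho, h⟩
    · rw [show q * q * b * (q * q)⁻¹ * b⁻¹ = q * (q * b * q⁻¹ * b⁻¹) * q⁻¹ * (q * b * q⁻¹ * b⁻¹) by group]
      exact mul_mem (ClosedAbelian.conj_mem_core hqC h) h
    · have hqa : q * a * q⁻¹ = a := by
        rw [mem_centralizer_singleton_iff.1 hqC, mul_inv_cancel_right]
      rw [show q * q * b * (q * q)⁻¹ * b⁻¹ = q * (q * b * q⁻¹ * b⁻¹) * q⁻¹ * (q * b * q⁻¹ * b⁻¹) by group, h,
        show q * (o * a) * q⁻¹ * (o * a) = q * o * q⁻¹ * (q * a * q⁻¹) * o * a by group, hqa,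
        mul_assoc _ a o, ← mem_centralizer_singleton_iff.1 (core_le_cen a ho), ← mul_assoc, mul_assoc _ a a,
        haa, mul_one]
      exact mul_mem (ClosedAbelian.conj_mem_core hqC ho) ho
  obtain ⟨o, ho, hoq⟩ := exists_lift_normalizer (A := zpowers b) (O := O) (y := q * q)
    (IsPGroup.of_card (n := 1) (by rw [Nat.card_zpowers, hE.order_two hb hb1, pow_one]))
    (by rw [← Nat.not_even_iff_odd, even_iff_two_dvd]; exact ClosedAbelian.core_odd _)
    (zpowers_le.2 (ClosedAbelian.core_normalized _ hbC))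
    (fun x hx => by
      obtain ⟨i, rfl⟩ := mem_zpowers_iff.1 hx
      rw [← conj_zpow, show q * q * b * (q * q)⁻¹ = q * q * b * (q * q)⁻¹ * b⁻¹ * b by group]
      exact zpow_mem (mul_mem (mem_sup_left hsq) (mem_sup_right (mem_zpowers b))) i)
  have hfix : o * (q * q) * b * (o * (q * q))⁻¹ = b := by
    obtain ⟨i, hi⟩ := mem_zpowers_iff.1 ((mem_normalizer_iff.1 hoq b).1 (mem_zpowers b))
    rcases Int.even_or_odd i with ⟨j, rfl⟩ | ⟨j, rfl⟩
    · rw [← two_mul, zpow_mul, zpow_two, hE.sq b hb, one_zpow] at hi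
      exact absurd (conj_eq_one_iff.1 hi.symm) hb1
    · rw [zpow_add, zpow_mul, zpow_two, hE.sq b hb, one_zpow, one_mul, zpow_one] at hi
      exact hi.symm
  refine ClosedAbelian.mem_of_sq_mem ?_ (hodd hQp q hq)
  rw [show q * q = o⁻¹ * (o * (q * q)) by group]
  exact mul_mem (mem_sup_left (inv_mem ho)) (mem_sup_right
    (mem_inf.2 ⟨mul_mem (core_le_cen a ho) (mul_mem hqC hqC),
      mem_centralizer_singleton_iff.2 (mul_inv_eq_iff_eq_mul.1 hfix)⟩))

end Cfsg.Agent.Walter8
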