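import Cfsg.Agent.Lib.Walter8.Quot
import Cfsg.Agent.Lib.SEMain.Main
import Cfsg.Agent.Lib.GW.FieldPart
import Cfsg.Agent.Lib.SolvCores.Main

/-!
A subgroup of the socle over `PSL₂(q)` containing the centralisers of the involutions of a four-group,
one of which centralises a nontrivial element of odd order, is the socle.
-/

set_option autoImplicit false
set_option linter.style.haveILetI false
set_option linter.unusedSectionVars false

namespace Cfsg.Agent.Walter8

open Subgroup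
open Cfsg.Agent.ClosedAbelian (core)
open scoped Pointwise

universe u

/-- A subgroup containing a Sylow 2-subgroup and the elements of odd order is everything. -/
theorem eq_of_odd_mem {G : Type u} [Group G] [Finite G] {K D : Subgroup G} (hKD : K ≤ D)
    (h2 : ∃ P : Sylow 2 D, (P : Subgroup D).map D.subtype ≤ K)
    (hodd : ∀ g ∈ D, Odd (orderOf g) → g ∈ K) : K = D := by
  classical
  refine eq_of_le_of_card_ge hKD (Nat.le_of_dvd Nat.card_pos
    ((Nat.dvd_iff_prime_pow_dvd_dvd _ _).2 fun p k hp hpk => ?_))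
  haveI : Fact p.Prime := ⟨hp⟩
  obtain ⟨P0, hP0⟩ := Sylow.exists_subgroup_card_pow_prime p hpk
  by_cases hp2 : p = 2
  · subst hp2
    obtain ⟨P, hP⟩ := h2
    obtain ⟨R, hR⟩ := (IsPGroup.of_card (p := 2) (n := k) hP0).exists_le_sylow
    refine dvd_trans ?_ (card_dvd_of_le hP)
    rw [card_map_of_injective D.subtype_injective, Nat.card_congr (P.equiv R).toEquiv, ← hP0]
    exact card_dvd_of_le hR
  · have hle : P0.map D.subtype ≤ K := by
      rintro _ ⟨g, hg, rfl⟩
      refine hodd _ g.2 ?_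
      obtain ⟨j, hj⟩ := IsPGroup.iff_orderOf.1 (IsPGroup.of_card (p := p) (n := k) hP0) ⟨g, hg⟩
      rw [Subgroup.orderOf_mk] at hj
      show Odd (orderOf ((g : D) : G))
      rw [Subgroup.orderOf_coe, hj]
      exact (hp.odd_of_ne_two hp2).pow
    refine dvd_trans (dvd_of_eq ?_) (card_dvd_of_le hle)
    rw [card_map_of_injective D.subtype_injective, hP0]

variable {G : Type u} [Group G] [Finite G] {S : Subgroup G} {a : G} {Y : Type u} [Group Y] [Finite Y]
  {Lb : Subgroup Y} {π : ↥(cen a) →* Y}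

/-- The image of the Sylow subgroup. -/
abbrev img (S : Subgroup G) {a : G} {Y : Type u} [Group Y] (π : ↥(cen a) →* Y) : Subgroup Y :=
  (S.subgroupOf (cen a)).map π

theorem Mod.two_card (hM : Mod a Lb π) {P : Subgroup Y} (hP : IsPGroup 2 P) : Nat.card P ≤ 4 := by
  haveI : Fact (Nat.Prime 2) := ⟨Nat.prime_two⟩
  obtain ⟨k, hk⟩ := IsPGroup.iff_card.1 hP
  rcases Nat.lt_or_ge k 3 with h | h
  · rw [hk]; exact (Nat.pow_le_pow_right (by norm_num) (by omega : k ≤ 2)).trans (by norm_num)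
  · refine absurd ((?_ : 8 ∣ _).trans (card_subgroup_dvd_card P)) hM.eight
    rw [hk]; exact (show 8 = 2 ^ 3 by norm_num) ▸ pow_dvd_pow 2 h

theorem mem_img {s : G} (hs : s ∈ S) (hsC : s ∈ cen a) : π ⟨s, hsC⟩ ∈ img S π :=
  ⟨_, (show (⟨s, hsC⟩ : cen a) ∈ S.subgroupOf (cen a) from hs), rfl⟩

theorem Mod.img_two (_hM : Mod a Lb π) (hE : Eight S) : IsPGroup 2 (img S π) :=
  (hE.isPGroup.comap_subtype (K := cen a)).map π

theorem Mod.img_sq (hM : Mod a Lb π) (hE : Eight S) {e : Y} (he : e ∈ img S π) : e * e = 1 := by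
  obtain ⟨s, hs, rfl⟩ := he
  exact hM.sq hE hs s.2

theorem Mod.img_comm (hM : Mod a Lb π) (hE : Eight S) {e e' : Y} (he : e ∈ img S π) (he' : e' ∈ img S π) :
    e * e' = e' * e := by
  obtain ⟨s, hs, rfl⟩ := he
  obtain ⟨t, ht, rfl⟩ := he'
  exact hM.comm hE hs ht s.2 t.2

theorem Mod.img_le (hM : Mod a Lb π) (hE : Eight S) : img S π ≤ Lb := fun _ he =>
  hM.invol_mem (hM.img_sq hE he)

theorem Mod.img_card (hM : Mod a Lb π) (hE : Eight S) (ha : a ∈ S) : Nat.card (img S π) = 4 := by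
  obtain ⟨b, hb, c, hc, hb1, hba, hc1, hca, hcb, hcab⟩ := hE.exists_basis a
  have hbC := hE.mem_cen ha hb
  have hcC := hE.mem_cen ha hc
  refine le_antisymm (hM.two_card (hM.img_two hE)) ?_
  set vb := π ⟨b, hbC⟩ with hvb
  set vc := π ⟨c, hcC⟩ with hvc
  have h1 : vb ≠ 1 := Invol.ne_one (hM.order hE ha hb hbC hb1 hba)
  have h2 : vc ≠ 1 := Invol.ne_one (hM.order hE ha hc hcC hc1 hca)
  have h4 : vb ≠ vc := hM.ne hE ha hb hc hbC hcC hcb hcab
  have h3 : vb * vc ≠ 1 := fun e => h4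
    ((eq_inv_of_mul_eq_one_left e).trans (inv_eq_of_mul_eq_one_right (hM.sq hE hc hcC)))
  have hsub : ({1, vb, vc, vb * vc} : Set Y) ⊆ (img S π : Set Y) := by
    rintro x (rfl | rfl | rfl | rfl)
    exacts [one_mem _, mem_img hb hbC, mem_img hc hcC, mul_mem (mem_img hb hbC) (mem_img hc hcC)]
  have hcard : ({1, vb, vc, vb * vc} : Set Y).ncard = 4 := by
    rw [Set.ncard_insert_of_notMem (by simp [Ne.symm h1, Ne.symm h2, Ne.symm h3]),
      Set.ncard_insert_of_notMem (by simp [h4, h2]), Set.ncard_pair (by simp [h1])]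
  have := Set.ncard_le_ncard hsub (Set.toFinite _)
  rw [hcard, ← Nat.card_coe_set_eq] at this
  exact this

theorem Mod.img_isFour (hM : Mod a Lb π) (hE : Eight S) (ha : a ∈ S) : SEBrick.IsFour (img S π) :=
  ⟨⟨.of_setLike_mul_comm fun _ h _ h' => hM.img_comm hE h h',
    fun _ h => by rw [pow_two]; exact hM.img_sq hE h⟩, (hM.img_card hE ha).ge⟩

/-- Every 2-element squares to one. -/
theorem Mod.sq_of_two (hM : Mod a Lb π) (hE : Eight S) (ha : a ∈ S) {u : Y}
    (hu : IsPGroup 2 (zpowers u)) : u * u = 1 := by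
  haveI : Fact (Nat.Prime 2) := ⟨Nat.prime_two⟩
  obtain ⟨P, hP⟩ := hu.exists_le_sylow
  obtain ⟨R, hR⟩ := (hM.img_two hE).exists_le_sylow
  have hRe : img S π = (R : Subgroup Y) :=
    eq_of_le_of_card_ge hR (by rw [hM.img_card hE ha]; exact hM.two_card R.isPGroup')
  obtain ⟨g, hg⟩ := MulAction.exists_smul_eq Y P R
  have hm : g * u * g⁻¹ ∈ img S π := by
    rw [hRe, ← hg, Sylow.coe_subgroup_smul]
    exact ⟨u, hP (mem_zpowers u), rfl⟩
  have h := hM.img_sq hE hm
  rw [conj_mul] at h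
  exact conj_eq_one_iff.1 h

/-- The Sylow subgroup of the socle. -/
theorem Mod.exists_sylow (hM : Mod a Lb π) (hE : Eight S) (ha : a ∈ S) :
    ∃ T : Sylow 2 Lb, (T : Subgroup Lb).map Lb.subtype = img S π := by
  haveI : Fact (Nat.Prime 2) := ⟨Nat.prime_two⟩
  obtain ⟨T, hT⟩ := ((hM.img_two hE).comap_subtype (K := Lb)).exists_le_sylow
  have hle : img S π ≤ (T : Subgroup Lb).map Lb.subtype := fun e he =>
    ⟨⟨e, hM.img_le hE he⟩, hT he, rfl⟩
  refine ⟨T, (eq_of_le_of_card_ge hle ?_).symm⟩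
  rw [hM.img_card hE ha]
  exact hM.two_card (T.isPGroup'.map _)

/-- The normaliser of the four-group in the socle is transitive on its involutions. -/
theorem Mod.exists_move (hM : Mod a Lb π) (hE : Eight S) (ha : a ∈ S) {v e : Y} (hv : v ∈ img S π)
    (hv1 : v ≠ 1) (he : e ∈ img S π) (he1 : e ≠ 1) :
    ∃ n ∈ Lb, n ∈ normalizer (img S π : Set Y) ∧ n * v * n⁻¹ = e := by
  haveI : Fact (Nat.Prime 2) := ⟨Nat.prime_two⟩
  obtain ⟨T, hT⟩ := hM.exists_sylow hE ha
  have hTmem : ∀ z : Lb, z ∈ (T : Subgroup Lb) ↔ (z : Y) ∈ img S π := fun z => by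
    rw [← hT]; exact (mem_map_iff_mem Lb.subtype_injective).symm
  haveI : IsMulCommutative (T : Subgroup Lb) := ⟨⟨fun x y =>
    Subtype.ext (Subtype.ext (hM.img_comm hE ((hTmem x).1 x.2) ((hTmem y).1 y.2)))⟩⟩
  obtain ⟨g, hg, hge⟩ := hM.facts.one_class v e (hM.img_le hE hv) (hM.img_le hE he)
    (Invol.order_two_of_sq (hM.img_sq hE hv) hv1) (Invol.order_two_of_sq (hM.img_sq hE he) he1)
  obtain ⟨n, hn, he'⟩ := T.conj_eq_normalizer_conj_of_mem (⟨v, hM.img_le hE hv⟩ : Lb) (⟨g, hg⟩⁻¹)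
    ((hTmem _).2 hv) ((hTmem _).2 (by simpa [hge] using he))
  refine ⟨(n : Y)⁻¹, inv_mem n.2, inv_mem (SEBrick.mem_normalizer_of fun x hx =>
    (hTmem _).1 (SEBrick.conj_mem_of (G := Lb) hn ((hTmem ⟨x, hM.img_le hE hx⟩).2 hx))), ?_⟩
  have e' := congrArg Subtype.val he'
  simp only [inv_inv, Subgroup.coe_mul, Subgroup.coe_inv] at e' ⊢
  rw [← e', hge]

/-- A subgroup with the centralisers of the involutions of the four-group contains the socle. -/
theorem Mod.socle_le (h : SEMain.Stmt.{u}) (hM : Mod a Lb π) (hE : Eight S) (ha : a ∈ S)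
    {H : Subgroup Y} (hC : ∀ e ∈ img S π, e ≠ 1 → Lb ⊓ cen e ≤ H)
    (hN : Lb ⊓ normalizer (img S π : Set Y) ≤ H) {v z : Y} (hv : v ∈ img S π) (hv1 : v ≠ 1)
    (hz : z ∈ Lb) (hzo : Odd (orderOf z)) (hz1 : z ≠ 1) (hvz : v * z = z * v) : Lb ≤ H := by
  haveI : Fact (Nat.Prime 2) := ⟨Nat.prime_two⟩
  haveI := hM.facts.simple
  haveI := hM.facts.normal
  obtain ⟨T, hT⟩ := hM.exists_sylow hE ha
  set H' := H.subgroupOf Lb with hH'
  by_contra hle
  have hne : H' ≠ ⊤ := fun e => hle (subgroupOf_eq_top.1 e)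
  have hTmem : ∀ x : Lb, x ∈ (T : Subgroup Lb) ↔ (x : Y) ∈ img S π := fun x => by
    rw [← hT]; exact (mem_map_iff_mem Lb.subtype_injective).symm
  have hTH : (T : Subgroup Lb) ≤ H' := fun x hx =>
    hN (mem_inf.2 ⟨x.2, le_normalizer ((hTmem x).1 hx)⟩)
  have hvH : (⟨v, hM.img_le hE hv⟩ : Lb) ∈ H' := hTH ((hTmem _).2 hv)
  have hse : Cfsg.IsStronglyEmbedded H' := by
    refine Invol.se_of_centralizers hne (T.subtype hTH)
      (Invol.even_of_invol_mem (t := (⟨v, hM.img_le hE hv⟩ : Lb))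
        (by rw [Subgroup.orderOf_mk]; exact Invol.order_two_of_sq (hM.img_sq hE hv) hv1) hvH) ?_ ?_
    · rw [Sylow.coe_subtype, subgroupOf_map_subtype, inf_eq_left.2 hTH]
      intro n hn
      exact hN (mem_inf.2 ⟨n.2, SEBrick.mem_normalizer_of fun x hx =>
        (hTmem _).1 (SEBrick.conj_mem_of (G := Lb) hn ((hTmem ⟨x, hM.img_le hE hx⟩).2 hx))⟩)
    · intro t htH ht
      obtain ⟨g, hgH, hg⟩ := SolvCores.exists_conj_le hTH (IsPGroup.of_card (n := 1) (p := 2)
        (by rw [Nat.card_zpowers, ht, pow_one] : Nat.card (zpowers t) = 2 ^ 1)) (zpowers_le.2 htH)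
      have hgt : g * t * g⁻¹ ∈ (T : Subgroup Lb) := hg ⟨t, mem_zpowers t, rfl⟩
      intro x hx
      have hxt := mem_centralizer_singleton_iff.1 hx
      have hx' : g * x * g⁻¹ ∈ H' := by
        refine hC _ ((hTmem _).1 hgt) (fun e => Invol.ne_one ht (conj_eq_one_iff.1
          (Subtype.ext e : g * t * g⁻¹ = 1))) (mem_inf.2 ⟨(g * x * g⁻¹).2, mem_centralizer_singleton_iff.2 ?_⟩)
        exact congrArg Subtype.val (show g * x * g⁻¹ * (g * t * g⁻¹) = g * t * g⁻¹ * (g * x * g⁻¹) by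
          calc g * x * g⁻¹ * (g * t * g⁻¹) = g * (x * t) * g⁻¹ := by group
            _ = g * (t * x) * g⁻¹ := by rw [hxt]
            _ = _ := by group)
      have := mul_mem (mul_mem (inv_mem hgH) hx') hgH
      rwa [show g⁻¹ * (g * x * g⁻¹) * g = x by group] at this
  have hcore : H'.normalCore = ⊥ :=
    (IsSimpleGroup.eq_bot_or_eq_top_of_normal H'.normalCore H'.normalCore_normal).resolve_right
      fun e => hne (top_le_iff.1 (e.symm.le.trans H'.normalCore_le))
  have hT4 : SEBrick.IsFour (T : Subgroup Lb) := by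
    refine ⟨⟨.of_setLike_mul_comm fun x hx y hy =>
      Subtype.ext (hM.img_comm hE ((hTmem x).1 hx) ((hTmem y).1 hy)), fun x hx => Subtype.ext ?_⟩, ?_⟩
    · rw [pow_two]; exact hM.img_sq hE ((hTmem x).1 hx)
    · rw [← card_map_of_injective Lb.subtype_injective, hT, hM.img_card hE ha]
  obtain ⟨Q, hQ⟩ := SEMain.exists_reg h hse hcore (SEMain.HasPair.of_four ⟨_, hTH, hT4⟩)
  have hTQ : (T : Subgroup Lb) ≤ Q := fun x hx => by
    by_cases hx1 : x = 1
    · rw [hx1]; exact one_mem _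
    refine hQ.invol_mem hse (hTH hx) (Invol.order_two_of_sq (Subtype.ext (hM.img_sq hE ((hTmem x).1 hx))) hx1)
  have hQT : Q = (T : Subgroup Lb) := (T.is_maximal' hQ.two hTQ)
  have hzH : (⟨z, hz⟩ : Lb) ∈ H' :=
    hC v hv hv1 (mem_inf.2 ⟨hz, mem_centralizer_singleton_iff.2 hvz.symm⟩)
  have hzN : ∀ e ∈ img S π, z * e * z⁻¹ ∈ img S π := fun e he => by
    have h1 := hQ.conj_mem hzH (q := ⟨e, hM.img_le hE he⟩) (by rw [hQT]; exact (hTmem _).2 he)
    rw [hQT, hTmem] at h1
    exact h1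
  have hz2 : ∀ e ∈ img S π, z * z * e = e * (z * z) := by
    intro e he
    by_cases he1 : e = 1
    · rw [he1, one_mul, mul_one]
    by_cases hev : e = v
    · rw [hev]; exact ((show Commute v z from hvz).mul_right (show Commute v z from hvz)).symm.eq
    have hz' : z * e * z⁻¹ ≠ 1 := fun h' => he1 (conj_eq_one_iff.1 h')
    have hzv : z * e * z⁻¹ ≠ v := fun h' => hev (by
      calc e = z⁻¹ * (z * e * z⁻¹) * z := by group
        _ = z⁻¹ * (v * z) := by rw [h', mul_assoc]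
        _ = v := by rw [hvz, inv_mul_cancel_left])
    have hvv := hM.img_sq hE hv
    refine mul_inv_eq_iff_eq_mul.1 ?_
    rw [show z * z * e * (z * z)⁻¹ = z * (z * e * z⁻¹) * z⁻¹ by group]
    rcases GW.comm_involution_cases hM.dih (Invol.order_two_of_sq hvv hv1)
        (Invol.order_two_of_sq (hM.img_sq hE he) he1) (Invol.order_two_of_sq (hM.img_sq hE (hzN e he)) hz')
        (Ne.symm hev) (hM.img_comm hE hv he) (hM.img_comm hE hv (hzN e he)) (hM.img_comm hE he (hzN e he))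
      with h1 | h1 | h1
    · exact absurd h1 hzv
    · rw [h1, h1]
    · rw [h1, show z * (v * e) * z⁻¹ = z * v * z⁻¹ * (z * e * z⁻¹) by group, h1, ← hvz,
        mul_inv_cancel_right, ← mul_assoc, hvv, one_mul]
  have hzc : ∀ e ∈ img S π, e * z = z * e := fun e he => by
    obtain ⟨k, hk⟩ := hzo
    have e4 : z = (z * z) ^ (k + 1) := by
      rw [← pow_two, ← pow_mul, show 2 * (k + 1) = orderOf z + 1 by omega, pow_succ,
        pow_orderOf_eq_one, one_mul]
    rw [e4]
    exact ((show Commute (z * z) e from hz2 e he).pow_left _).symm.eq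
  obtain ⟨w, hw, hw1, hwv⟩ : ∃ w ∈ img S π, w ≠ 1 ∧ w ≠ v := by
    by_contra hno
    push Not at hno
    have hsub : (img S π : Set Y) ⊆ {1, v} := fun x hx => by
      by_cases hx1 : x = 1
      · exact Or.inl hx1
      · exact Or.inr (hno x hx hx1)
    have h1 := Set.ncard_le_ncard hsub (Set.toFinite _)
    have h2 := Set.ncard_insert_le (1 : Y) {v}
    rw [Set.ncard_singleton] at h2
    rw [← Nat.card_coe_set_eq] at h1
    change Nat.card (img S π) ≤ _ at h1
    rw [hM.img_card hE ha] at h1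
    omega
  exact hz1 (hM.facts.klein_cent v w z (hM.img_le hE hv) (hM.img_le hE hw)
    (Invol.order_two_of_sq (hM.img_sq hE hv) hv1) (Invol.order_two_of_sq (hM.img_sq hE hw) hw1)
    (Ne.symm hwv) (hM.img_comm hE hv hw) hz hzo hvz (hzc w hw))

/-- An element of odd order centralising the four-group and a torus is trivial. -/
theorem Mod.eq_one_of_fixes (h : SEMain.Stmt.{u}) (hM : Mod a Lb π) (hE : Eight S) (ha : a ∈ S)
    {y v z : Y} (hyo : Odd (orderOf y)) (hyE : ∀ e ∈ img S π, y * e = e * y) (hv : v ∈ img S π)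
    (hv1 : v ≠ 1) (hyT : ∀ x ∈ Lb, Odd (orderOf x) → v * x = x * v → y * x = x * y)
    (hz : z ∈ Lb) (hzo : Odd (orderOf z)) (hz1 : z ≠ 1) (hvz : v * z = z * v) : y = 1 := by
  haveI : Fact (Nat.Prime 2) := ⟨Nat.prime_two⟩
  haveI := hM.facts.normal
  set H := Lb ⊓ cen y with hH
  have hNH : Lb ⊓ normalizer (img S π : Set Y) ≤ H := by
    intro g hg
    obtain ⟨hgL, hgN⟩ := mem_inf.1 hg
    obtain ⟨w, hw, hw1, hwv⟩ : ∃ w ∈ img S π, w ≠ 1 ∧ w ≠ v := by
      by_contra hno
      push Not at hno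
      have hsub : (img S π : Set Y) ⊆ {1, v} := fun x hx => by
        by_cases hx1 : x = 1
        · exact Or.inl hx1
        · exact Or.inr (hno x hx hx1)
      have h1 := Set.ncard_le_ncard hsub (Set.toFinite _)
      have h2 := Set.ncard_insert_le (1 : Y) {v}
      rw [Set.ncard_singleton] at h2
      rw [← Nat.card_coe_set_eq] at h1
      change Nat.card (img S π) ≤ _ at h1
      rw [hM.img_card hE ha] at h1
      omega
    have hvo := Invol.order_two_of_sq (hM.img_sq hE hv) hv1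
    have hwo := Invol.order_two_of_sq (hM.img_sq hE hw) hw1
    have hcl : (Subgroup.closure {v, w} : Subgroup Y) = img S π := by
      obtain ⟨E, hEk, hvE, hwE⟩ := BrauerSuzuki.exists_klein hvo hwo (hM.img_comm hE hv hw) (Ne.symm hwv)
      haveI := hEk
      refine eq_of_le_of_card_ge ((closure_le _).2 (by rintro x (rfl | rfl) <;> assumption)) ?_
      rw [hM.img_card hE ha]
      have hsub : ({1, v, w, v * w} : Set Y) ⊆ (Subgroup.closure {v, w} : Subgroup Y) := by
        rintro x (rfl | rfl | rfl | rfl)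
        exacts [one_mem _, subset_closure (Set.mem_insert _ _), subset_closure (Or.inr rfl),
          mul_mem (subset_closure (Set.mem_insert _ _)) (subset_closure (Or.inr rfl))]
      have h3 : v * w ≠ 1 := fun e => hwv (by
        rw [← inv_eq_of_mul_eq_one_right (hM.img_sq hE hv)]; exact eq_inv_of_mul_eq_one_right e)
      have hcard : ({1, v, w, v * w} : Set Y).ncard = 4 := by
        rw [Set.ncard_insert_of_notMem (by simp [Ne.symm hv1, Ne.symm hw1, Ne.symm h3]),
          Set.ncard_insert_of_notMem (by simp [Ne.symm hwv, hw1]), Set.ncard_pair (by simp [hv1])]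
      have := Set.ncard_le_ncard hsub (Set.toFinite _)
      rw [hcard, ← Nat.card_coe_set_eq] at this
      exact this
    exact mem_inf.2 ⟨hgL, mem_centralizer_singleton_iff.2 (hM.facts.klein_norm v w y g (hM.img_le hE hv)
      (hM.img_le hE hw) hvo hwo (Ne.symm hwv) (hM.img_comm hE hv hw) hyo (hyE v hv) (hyE w hw) hgL
      (by rw [hcl]; exact hgN)).symm⟩
  -- the centraliser of `v`
  have hCv : Lb ⊓ cen v ≤ H := by
    have hED : img S π ≤ Lb ⊓ cen v := fun e he =>
      mem_inf.2 ⟨hM.img_le hE he, mem_centralizer_singleton_iff.2 (hM.img_comm hE he hv)⟩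
    obtain ⟨P, hP⟩ := ((hM.img_two hE).comap_subtype (K := Lb ⊓ cen v)).exists_le_sylow
    have hPe : img S π = (P : Subgroup ↥(Lb ⊓ cen v)).map (Lb ⊓ cen v).subtype := by
      refine eq_of_le_of_card_ge (fun e he => ⟨⟨e, hED he⟩, hP he, rfl⟩) ?_
      rw [hM.img_card hE ha]
      exact hM.two_card (P.isPGroup'.map _)
    have heq : (Lb ⊓ cen v) ⊓ H = Lb ⊓ cen v := eq_of_odd_mem inf_le_left
      ⟨P, by
        rw [← hPe]
        exact fun e he => mem_inf.2 ⟨hED he, mem_inf.2 ⟨hM.img_le hE he,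
          mem_centralizer_singleton_iff.2 (hyE e he).symm⟩⟩⟩
      fun x hx hxo => mem_inf.2 ⟨hx, mem_inf.2 ⟨(mem_inf.1 hx).1, mem_centralizer_singleton_iff.2
        (hyT x (mem_inf.1 hx).1 hxo (mem_centralizer_singleton_iff.1 (mem_inf.1 hx).2).symm).symm⟩⟩
    exact heq ▸ inf_le_right
  have hle := hM.socle_le h hE ha (H := H) ?_ hNH hv hv1 hz hzo hz1 hvz
  · have hmem : y ∈ centralizer (Lb : Set Y) := mem_centralizer_iff.2 fun x hx =>
      mem_centralizer_singleton_iff.1 (mem_inf.1 (hle hx)).2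
    rw [hM.cent] at hmem
    exact mem_bot.1 hmem
  intro e he he1 x hx
  obtain ⟨n, hnL, hnN, hne⟩ := hM.exists_move hE ha hv hv1 he he1
  have hnH : n ∈ H := hNH (mem_inf.2 ⟨hnL, hnN⟩)
  have h1 : n⁻¹ * x * n ∈ H := hCv (mem_inf.2 ⟨mul_mem (mul_mem (inv_mem hnL) (mem_inf.1 hx).1) hnL,
    mem_centralizer_singleton_iff.2 (by
      have hxe := mem_centralizer_singleton_iff.1 (mem_inf.1 hx).2
      rw [← hne] at hxe
      calc n⁻¹ * x * n * v = n⁻¹ * (x * (n * v * n⁻¹)) * n := by group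
        _ = n⁻¹ * (n * v * n⁻¹ * x) * n := by rw [hxe]
        _ = v * (n⁻¹ * x * n) := by group)⟩)
  have h2 := mul_mem (mul_mem hnH h1) (inv_mem hnH)
  rwa [show n * (n⁻¹ * x * n) * n⁻¹ = x by group] at h2

theorem card_ringAut_eq_one {F : Type} [Field F] [Fintype F] {p : ℕ} (hp : p.Prime)
    (h : Fintype.card F = p) (σ : F ≃+* F) : σ = 1 := by
  haveI := Fact.mk hp
  haveI : CharP F p := charP_of_card_eq_prime h
  refine RingEquiv.ext fun x => ?_
  obtain ⟨n, rfl⟩ := (ZMod.castHom_bijective F h).2 x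
  exact RingHom.congr_fun (Subsingleton.elim ((σ : F →+* F).comp (ZMod.castHom (dvd_refl p) F))
    (ZMod.castHom (dvd_refl p) F)) n

/-- Without elements of odd order centralised by an involution of the socle, what commutes with an
involution squares to one. -/
theorem Mod.sq_of_no_torus (hM : Mod a Lb π) (hE : Eight S) (ha : a ∈ S)
    (hno : ∀ v z : Y, orderOf v = 2 → z ∈ Lb → Odd (orderOf z) → v * z = z * v → z = 1)
    {x y : Y} (hx : x * x = 1) (hx1 : x ≠ 1) (hyx : y * x = x * y) : y * y = 1 := by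
  classical
  haveI : Fact (Nat.Prime 2) := ⟨Nat.prime_two⟩
  haveI := hM.facts.simple
  haveI := hM.facts.normal
  have hxo : orderOf x = 2 := Invol.order_two_of_sq hx hx1
  have hxL := hM.invol_mem hx
  -- the centraliser in the socle is a four-group
  obtain ⟨v, hv, hv1⟩ := SESolv.IsFour.exists_ne (hM.img_isFour hE ha)
  obtain ⟨g, hgL, hgv⟩ := hM.facts.one_class x v hxL (hM.img_le hE hv) hxo
    (Invol.order_two_of_sq (hM.img_sq hE hv) hv1)
  -- reduce to the odd part
  obtain ⟨u, w, hu, hw, hwu, huo, hwo⟩ := ClosedAbelian.exists_parts y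
  have huw : Commute u w := by
    obtain ⟨i, rfl⟩ := mem_zpowers_iff.1 hw
    obtain ⟨j, rfl⟩ := mem_zpowers_iff.1 hwu
    exact ((Commute.refl y).zpow_left i).zpow_right j
  suffices hw1 : w = 1 by
    rw [← hu, hw1, mul_one]
    exact hM.sq_of_two hE ha huo.isPGroup
  obtain ⟨j, hj⟩ := mem_zpowers_iff.1 hwu
  have hwx : w * x = x * w := by
    rw [← hj]; exact ((show Commute y x from hyx).zpow_left j).eq
  -- move to the four-group
  set w' := g * w * g⁻¹ with hw'
  have hw'o : Odd (orderOf w') := by rw [hw', Invol.order_conj]; exact hwo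
  have hw'v : w' * v = v * w' := by
    rw [← hgv, hw']
    calc g * w * g⁻¹ * (g * x * g⁻¹) = g * (w * x) * g⁻¹ := by group
      _ = g * (x * w) * g⁻¹ := by rw [hwx]
      _ = _ := by group
  suffices h1 : w' = 1 by exact conj_eq_one_iff.1 (hw' ▸ h1)
  have hvo := Invol.order_two_of_sq (hM.img_sq hE hv) hv1
  have hD : ∀ d ∈ Lb ⊓ cen v, d * d = 1 := by
    intro d hd
    obtain ⟨p, q, hpq, hp, hq, hpo, hqo⟩ := ClosedAbelian.exists_parts d
    obtain ⟨i, hi⟩ := mem_zpowers_iff.1 hq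
    have hqd : q ∈ Lb ⊓ cen v := hi ▸ zpow_mem hd i
    have hq1 : q = 1 := hno v q hvo (mem_inf.1 hqd).1 hqo
      (mem_centralizer_singleton_iff.1 (mem_inf.1 hqd).2).symm
    rw [← hpq, hq1, mul_one]
    exact hM.sq_of_two hE ha hpo.isPGroup
  have hDc : IsPGroup 2 ↥(Lb ⊓ cen v) := fun d => ⟨1, Subtype.ext (by
    rw [pow_one, SubmonoidClass.coe_pow, pow_two]; exact hD d d.2)⟩
  have hDeq : img S π = Lb ⊓ cen v := eq_of_le_of_card_ge
    (fun e he => mem_inf.2 ⟨hM.img_le hE he, mem_centralizer_singleton_iff.2 (hM.img_comm hE he hv)⟩)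
    (by rw [hM.img_card hE ha]; exact hM.two_card hDc)
  -- the field
  rcases GW.psl_data hM.dih Lb hM.facts.noncomm hM.cent hM.target with
    ⟨⟨e7⟩⟩ | ⟨F, _, _, _, ι, hnc, hodd, h3, hι, hL, hfld⟩
  · refine absurd ?_ hM.eight
    rw [Nat.card_congr e7.toEquiv, nat_card_alternatingGroup]
    simp [Nat.factorial]
  have h2 := two_ne_zero_of_odd hodd
  obtain ⟨p, hp⟩ : ι v ∈ Cfsg.Inn (Matrix.ProjectiveSpecialLinearGroup (Fin 2) F) :=
    hL ▸ mem_map_of_mem ι (hM.img_le hE hv)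
  have hpp : p * p = 1 := GW.conj_injective hnc (by
    rw [map_mul, hp, ← map_mul, hM.img_sq hE hv, map_one, map_one])
  have hp1 : p ≠ 1 := fun e => hv1 (hι (by rw [← hp, e, map_one, map_one]))
  have hmap : (Lb ⊓ cen v).map ι = (centralizer ({p} : Set _)).map MulAut.conj := by
    ext β
    simp only [Subgroup.mem_map, Subgroup.mem_inf, mem_centralizer_singleton_iff]
    constructor
    · rintro ⟨d, ⟨hd, hdv⟩, rfl⟩
      obtain ⟨r, hr⟩ := (hL ▸ mem_map_of_mem ι hd : ι d ∈ Cfsg.Inn _)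
      refine ⟨r, GW.conj_injective hnc ?_, hr⟩
      rw [map_mul, map_mul, hr, hp, ← map_mul, ← map_mul, hdv]
    · rintro ⟨r, hr, rfl⟩
      obtain ⟨d, hd, hdr⟩ := Subgroup.mem_map.1 (show MulAut.conj r ∈ Lb.map ι by rw [hL]; exact ⟨r, rfl⟩)
      refine ⟨d, ⟨hd, hι ?_⟩, hdr⟩
      rw [map_mul, map_mul, hdr, ← hp, ← map_mul, ← map_mul, hr]
  have hcard : Nat.card (centralizer ({p} : Set (Matrix.ProjectiveSpecialLinearGroup (Fin 2) F))) = 4 := by
    rw [← card_map_of_injective (GW.conj_injective hnc), ← hmap, card_map_of_injective hι, ← hDeq,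
      hM.img_card hE ha]
  have hq5 : Fintype.card F = 5 := by
    obtain ⟨c, hc⟩ := isConj_iff.1 (PSL2Inv.isConj_pr_w h2 hpp hp1)
    obtain ⟨e⟩ := AutPSL.centralizer_conj_equiv (⊤ : Subgroup (Matrix.ProjectiveSpecialLinearGroup (Fin 2) F))
      (PSL2Inv.pr SL2Inv.w) c trivial
    rw [hc, top_inf_eq, top_inf_eq] at e
    rw [Nat.card_congr e.toEquiv, PSL2Inv.card_centralizer h2, SL2Inv.card_C h2,
      Nat.card_eq_fintype_card] at hcard
    split_ifs at hcard <;> omega
  have hfw : ι w' ∈ Cfsg.inndiagPSL 2 F := by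
    rw [GW.mem_inndiag_iff_fld]
    exact card_ringAut_eq_one (by norm_num) hq5 _
  have hwL : w' ∈ Lb := by
    have := GW.mem_inn_of_odd hodd hfw (by rwa [orderOf_injective _ hι])
    rw [← hL, mem_map_iff_mem hι] at this
    exact this
  exact hno v w' hvo hwL hw'o hw'v.symm

end Cfsg.Agent.Walter8
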