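import Cfsg.Agent.Lib.Walter8.SmallCores
import Cfsg.Agent.Lib.Walter8.Socle
import Cfsg.Agent.Lib.Walter8.LType

/-!
The odd cores of the centralisers of the involutions are trivial.

Either a centraliser has no torus of odd order, and then the closure of the cores is normalised by all
centralisers by `small_cores`, or the signalizer theorem gives balance and the normaliser of the closure
contains the socle of each centraliser.
-/

set_option autoImplicit false
set_option linter.style.haveILetI false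
set_option linter.unusedSectionVars false

namespace Cfsg.Agent.Walter8

open Subgroup Cfsg.Agent.Signalizer Cfsg.Agent.Signalizer.SFT
open Cfsg.Agent.ClosedAbelian (core)
open scoped Pointwise

universe u

variable {G : Type u} [Group G] [Finite G] {S : Subgroup G}

theorem conj_sq_mem_core {a g b : G} (ha : a * a = 1) (hg : g ∈ cen a)
    (h : g * b * g⁻¹ * b⁻¹ ∈ core (cen a) ⊔ zpowers a) :
    g * g * b * (g * g)⁻¹ * b⁻¹ ∈ core (cen a) := by
  rw [show g * g * b * (g * g)⁻¹ * b⁻¹ = g * (g * b * g⁻¹ * b⁻¹) * g⁻¹ * (g * b * g⁻¹ * b⁻¹) by group]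
  rcases mem_sup_cases ha h with h' | ⟨o, ho, he⟩
  · exact mul_mem (ClosedAbelian.conj_mem_core hg h') h'
  · have hga : g * a * g⁻¹ = a := by rw [mem_centralizer_singleton_iff.1 hg, mul_inv_cancel_right]
    rw [he, show g * (o * a) * g⁻¹ * (o * a) = g * o * g⁻¹ * (g * a * g⁻¹) * o * a by group, hga,
      mul_assoc _ a o, ← mem_centralizer_singleton_iff.1 (core_le_cen a ho), ← mul_assoc, mul_assoc _ a a,
      ha, mul_one]
    exact mul_mem (ClosedAbelian.conj_mem_core hg ho) ho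

/-- Lifting an element normalising the image of a subgroup of `S`. -/
theorem Mod.lift {a : G} {Y : Type u} [Group Y] [Finite Y] {Lb : Subgroup Y} {π : ↥(cen a) →* Y}
    (hM : Mod a Lb π) (hE : Eight S) {A : Subgroup G} (hAS : A ≤ S) (haA : a ∈ A) {g : G} (hg : g ∈ cen a)
    (hn : π ⟨g, hg⟩ ∈ normalizer ((A.subgroupOf (cen a)).map π : Set Y)) :
    ∃ o ∈ core (cen a), o * g ∈ normalizer (A : Set G) := by
  have hAC : A ≤ cen a := hAS.trans (hE.le_cen (hAS haA))
  refine exists_lift_normalizer (hE.isPGroup.to_le hAS) (core_card_odd a)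
    (hAC.trans (ClosedAbelian.core_normalized _)) fun x hx => ?_
  have hxm : π ⟨x, hAC hx⟩ ∈ (A.subgroupOf (cen a)).map π :=
    ⟨_, (show (⟨x, hAC hx⟩ : cen a) ∈ A.subgroupOf (cen a) from hx), rfl⟩
  obtain ⟨x', hx', he⟩ := (mem_normalizer_iff.1 hn _).1 hxm
  have h1 : (g * x * g⁻¹) * (x' : G)⁻¹ ∈ core (cen a) ⊔ zpowers a :=
    (hM.ker (⟨g, hg⟩ * ⟨x, hAC hx⟩ * ⟨g, hg⟩⁻¹ * x'⁻¹)).1 (by
      rw [map_mul, map_mul, map_mul, map_inv, map_inv, ← he, mul_inv_cancel])
  have h2 : core (cen a) ⊔ zpowers a ≤ core (cen a) ⊔ A := sup_le_sup_left (zpowers_le.2 haA) _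
  rw [show g * x * g⁻¹ = g * x * g⁻¹ * (x' : G)⁻¹ * x' by group]
  exact mul_mem (h2 h1) (mem_sup_right (mem_subgroupOf.1 hx'))

theorem Eight.exists_hyp8 [IsSimpleGroup G] (hE : Eight S) (hL : LType S) :
    ∃ P : Sylow 2 G, (P : Subgroup G) = S ∧ Hyp8 P := by
  haveI : Fact (Nat.Prime 2) := ⟨Nat.prime_two⟩
  obtain ⟨P, hP⟩ := hE.isPGroup.exists_le_sylow
  have hPS : (P : Subgroup G) = S := by
    refine (eq_of_le_of_card_ge hP ?_).symm
    rw [hE.card]
    obtain ⟨k, hk⟩ := IsPGroup.iff_card.1 P.isPGroup'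
    rcases Nat.lt_or_ge k 4 with h | h
    · rw [hk]; exact (Nat.pow_le_pow_right (by norm_num) (by omega : k ≤ 3)).trans (by norm_num)
    · refine absurd ((?_ : 16 ∣ _).trans (card_subgroup_dvd_card (P : Subgroup G))) hE.sixteen
      rw [hk]; exact (show 16 = 2 ^ 4 by norm_num) ▸ pow_dvd_pow 2 h
  refine ⟨P, hPS, by rw [hPS]; exact hE.card, fun s hs => hE.sq s (hPS ▸ hs), ?_, ?_, ?_⟩
  · have hinto : ∀ x : G, orderOf x = 2 → ∃ s ∈ S, s ≠ 1 ∧ IsConj x s := by
      intro x hx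
      obtain ⟨R, hR⟩ := (isPGroup_zpowers hx).exists_le_sylow
      obtain ⟨g, hg⟩ := MulAction.exists_smul_eq G R P
      refine ⟨g * x * g⁻¹, ?_, fun e => Invol.ne_one hx (conj_eq_one_iff.1 e), isConj_iff.2 ⟨g, rfl⟩⟩
      rw [← hPS, ← hg, Sylow.coe_subgroup_smul]
      exact ⟨x, hR (mem_zpowers x), rfl⟩
    intro x y hx hy
    obtain ⟨s, hs, hs1, hxs⟩ := hinto x hx
    obtain ⟨t, ht, ht1, hyt⟩ := hinto y hy
    obtain ⟨g, -, hg⟩ := hE.trans s hs hs1 t ht ht1
    exact hxs.trans ((isConj_iff.2 ⟨g, hg⟩).trans hyt.symm)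
  · refine (IsSimpleGroup.eq_bot_or_eq_top_of_normal (Cfsg.oddCore G) inferInstance).resolve_right fun e => ?_
    have h := oddCore_card G
    rw [e, card_top] at h
    refine Nat.not_even_iff_odd.2 h (even_iff_two_dvd.2 ((show 2 ∣ 8 by norm_num).trans ?_))
    rw [← hE.card]
    exact card_subgroup_dvd_card S
  · obtain ⟨s, hs, hs'⟩ := hE.exists_out (T := {1}) (by rw [Set.ncard_singleton]; norm_num)
    have hs1 : s ≠ 1 := fun e => hs' e
    obtain ⟨Y, _, _, Lb, π, hM⟩ := hL.exists_mod hE hs hs1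
    refine ⟨s, hE.order_two hs hs1, fun h => hM.facts.noncomm ?_⟩
    haveI := h
    haveI : Group.IsSolvable Y := Group.isSolvable_of_surjective hM.surj
    haveI := hM.facts.simple
    exact ⟨⟨fun x y => IsSimpleGroup.comm_iff_isSolvable.2 (inferInstance : Group.IsSolvable Lb) x y⟩⟩

/-- Balance on all of `O(C(a)) ∩ C(b)` from balance on the inverted elements. -/
theorem balance_full (h : SEMain.Stmt.{u}) (hE : Eight S) (hB : Balanced S) {a b : G} (ha : a ∈ S)
    (ha1 : a ≠ 1) (hb : b ∈ S) (hb1 : b ≠ 1) (hab : a ≠ b) {Y : Type u} [Group Y] [Finite Y]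
    {Lb : Subgroup Y} {π : ↥(cen b) →* Y} (hM : Mod b Lb π)
    (htor : ∀ v ∈ img S π, v ≠ 1 → ∃ z ∈ Lb, Odd (orderOf z) ∧ z ≠ 1 ∧ v * z = z * v) :
    core (cen a) ⊓ cen b ≤ core (cen b) := by
  intro w hw
  have hbb := hE.sq b hb
  have hY : ∀ x ∈ core (cen a) ⊓ cen b, ∀ (hx : x ∈ cen b), ∀ e ∈ img S π,
      π ⟨x, hx⟩ * e = e * π ⟨x, hx⟩ := by
    rintro x hxY hx _ ⟨s, hs, rfl⟩
    have hsS : (s : G) ∈ S := hs
    have hss : (s : G) * s = 1 := hE.sq _ hsS
    obtain ⟨hxa, -⟩ := mem_inf.1 hxY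
    set i := x⁻¹ * ((s : G) * x * (s : G)⁻¹) with hi
    have hia : i ∈ core (cen a) :=
      mul_mem (inv_mem hxa) (ClosedAbelian.conj_mem_core (hE.mem_cen ha hsS) hxa)
    have hib : i ∈ cen b := mul_mem (inv_mem hx) (mul_mem (mul_mem s.2 hx) (inv_mem s.2))
    have hii : (s : G) * i * (s : G)⁻¹ = i⁻¹ := by
      calc (s : G) * i * (s : G)⁻¹ = (s : G) * x⁻¹ * (s : G)⁻¹ * (((s : G) * s) * x * ((s : G) * s)⁻¹) := by
            rw [hi]; group
        _ = i⁻¹ := by rw [hss, hi]; group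
    have h1 := hB a ha ha1 b hb hb1 i hia (mem_centralizer_singleton_iff.1 hib) ⟨s, hsS, hii⟩
    have h2 : π ⟨i, hib⟩ = 1 := (hM.ker _).2 (mem_sup_left h1)
    have h3 : (⟨i, hib⟩ : cen b) = ⟨x, hx⟩⁻¹ * (s * ⟨x, hx⟩ * s⁻¹) := rfl
    rw [h3, map_mul, map_inv, map_mul, map_mul, map_inv, inv_mul_eq_one, eq_mul_inv_iff_mul_eq] at h2
    exact h2
  have hwb : w ∈ cen b := (mem_inf.1 hw).2
  have hwo : Odd (orderOf w) := odd_of_mem_core (mem_inf.1 hw).1
  have hao : orderOf (π ⟨a, hE.mem_cen hb ha⟩) = 2 := hM.order hE hb ha _ ha1 hab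
  set v := π ⟨a, hE.mem_cen hb ha⟩ with hv
  have hvE : v ∈ img S π := mem_img ha _
  obtain ⟨z0, hz0, hz0o, hz01, hvz0⟩ := htor v hvE (Invol.ne_one hao)
  obtain ⟨e2, he2, he21, he2v⟩ : ∃ e ∈ img S π, e ≠ 1 ∧ e ≠ v := by
    by_contra hno
    push Not at hno
    have hsub : (img S π : Set Y) ⊆ {1, v} := fun x hx => by
      by_cases hx1 : x = 1
      · exact Or.inl hx1
      · exact Or.inr (hno x hx hx1)
    have h1 := Set.ncard_le_ncard hsub (Set.toFinite _)
    have h2 := Set.ncard_insert_le (1 : Y) {v}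
    rw [Set.ncard_singleton] at h2
    rw [← Nat.card_coe_set_eq] at h1
    change Nat.card (img S π) ≤ _ at h1
    rw [hM.img_card hE hb] at h1
    omega
  have hwT : ∀ z ∈ Lb, Odd (orderOf z) → v * z = z * v → π ⟨w, hwb⟩ * z = z * π ⟨w, hwb⟩ := by
    intro z hz hzo hvz
    obtain ⟨⟨g, hgb⟩, rfl⟩ := hM.surj z
    have hc : g * a * g⁻¹ * a⁻¹ ∈ core (cen b) ⊔ zpowers b :=
      (hM.ker (⟨g, hgb⟩ * ⟨a, hE.mem_cen hb ha⟩ * ⟨g, hgb⟩⁻¹ * ⟨a, hE.mem_cen hb ha⟩⁻¹)).1 (by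
        rw [map_mul, map_mul, map_mul, map_inv, map_inv, ← hvz, mul_inv_cancel_right, mul_inv_cancel])
    have hsq := conj_sq_mem_core hbb hgb hc
    obtain ⟨o, ho, hog⟩ := exists_lift_centralizer (A := zpowers a) (O := core (cen b)) (y := g * g)
      (isPGroup_zpowers (hE.order_two ha ha1)) (core_card_odd b)
      (zpowers_le.2 (ClosedAbelian.core_normalized _ (hE.mem_cen hb ha)))
      (fun x hx => by
        obtain ⟨i, rfl⟩ := mem_zpowers_iff.1 hx
        rcases Int.even_or_odd i with ⟨j, rfl⟩ | ⟨j, rfl⟩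
        · rw [← two_mul, zpow_mul, zpow_two, hE.sq a ha, one_zpow]; simp
        · rw [zpow_add, zpow_mul, zpow_two, hE.sq a ha, one_zpow, one_mul, zpow_one]; exact hsq)
    set g' := o * (g * g) with hg'
    have hg'b : g' ∈ cen b := mul_mem (core_le_cen b ho) (mul_mem hgb hgb)
    have hg'a : g' ∈ cen a :=
      mem_centralizer_singleton_iff.2 (mem_centralizer_iff.1 hog a (mem_zpowers a)).symm
    have hπg : π ⟨g', hg'b⟩ = π ⟨g, hgb⟩ * π ⟨g, hgb⟩ := by
      rw [show (⟨g', hg'b⟩ : cen b) = ⟨o, core_le_cen b ho⟩ * (⟨g, hgb⟩ * ⟨g, hgb⟩) from rfl, map_mul,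
        map_mul, (hM.ker _).2 (mem_sup_left ho), one_mul]
    set m := w * (g' * w⁻¹ * g'⁻¹) with hm
    have hmY : m ∈ core (cen a) ⊓ cen b := mem_inf.2
      ⟨mul_mem (mem_inf.1 hw).1 (ClosedAbelian.conj_mem_core hg'a (inv_mem (mem_inf.1 hw).1)),
        mul_mem hwb (mul_mem (mul_mem hg'b (inv_mem hwb)) (inv_mem hg'b))⟩
    have hmE := hY m hmY (mem_inf.1 hmY).2
    set M := π ⟨m, (mem_inf.1 hmY).2⟩ with hM'
    have hMeq : M = π ⟨w, hwb⟩ * π ⟨g', hg'b⟩ * (π ⟨w, hwb⟩)⁻¹ * (π ⟨g', hg'b⟩)⁻¹ := by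
      rw [hM', ← map_mul, ← map_inv, ← map_mul, ← map_inv, ← map_mul]
      refine congrArg π (Subtype.ext ?_)
      simp only [hm, Subgroup.coe_mul, Subgroup.coe_inv]
      group
    haveI := hM.facts.normal
    have hzz : π ⟨g', hg'b⟩ ∈ Lb := by rw [hπg]; exact mul_mem hz hz
    have hM1 : M = 1 := hM.facts.klein_cent v e2 M (hM.img_le hE hvE) (hM.img_le hE he2) hao
      (Invol.order_two_of_sq (hM.img_sq hE he2) he21) (Ne.symm he2v) (hM.img_comm hE hvE he2)
      (by rw [hMeq]; exact mul_mem (hM.facts.normal.conj_mem _ hzz _) (inv_mem hzz))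
      ((odd_of_mem_core (mem_inf.1 hmY).1).of_dvd_nat
        ((orderOf_map_dvd π _).trans (by rw [Subgroup.orderOf_mk])))
      (hmE v hvE).symm (hmE e2 he2).symm
    rw [hMeq, mul_inv_eq_one, mul_inv_eq_iff_eq_mul, hπg] at hM1
    obtain ⟨k, hk⟩ := hzo
    have e4 : π ⟨g, hgb⟩ = (π ⟨g, hgb⟩ * π ⟨g, hgb⟩) ^ (k + 1) := by
      rw [← pow_two, ← pow_mul, show 2 * (k + 1) = orderOf (π ⟨g, hgb⟩) + 1 by omega, pow_succ,
        pow_orderOf_eq_one, one_mul]
    rw [e4]
    exact ((show Commute (π ⟨w, hwb⟩) (π ⟨g, hgb⟩ * π ⟨g, hgb⟩) from hM1).pow_right _).eq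
  have hw1 := hM.eq_one_of_fixes h hE hb (y := π ⟨w, hwb⟩)
    (hwo.of_dvd_nat ((orderOf_map_dvd π _).trans (by rw [Subgroup.orderOf_mk])))
    (hY w hw hwb) hvE (Invol.ne_one hao) hwT hz0 hz0o hz01 hvz0
  exact hM.map_eq_one_core hbb hw1 hwo

/-- A subgroup containing the lifts of the four-group data contains the centraliser. -/
theorem cen_le_of_lifts (h : SEMain.Stmt.{u}) (hE : Eight S) {a : G} (ha : a ∈ S) (ha1 : a ≠ 1)
    {Y : Type u} [Group Y] [Finite Y] {Lb : Subgroup Y} {π : ↥(cen a) →* Y} (hM : Mod a Lb π)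
    (htor : ∀ v ∈ img S π, v ≠ 1 → ∃ z ∈ Lb, Odd (orderOf z) ∧ z ≠ 1 ∧ v * z = z * v)
    {M : Subgroup G} (hO : core (cen a) ≤ M) (hN : normalizer (S : Set G) ≤ M)
    (hF : ∀ E ≤ S, SEBrick.IsFour E → normalizer (E : Set G) ≤ M) : cen a ≤ M := by
  haveI : Fact (Nat.Prime 2) := ⟨Nat.prime_two⟩
  haveI := hM.facts.normal
  set H := (M.subgroupOf (cen a)).map π with hH
  have hNH : normalizer (img S π : Set Y) ≤ H := by
    intro y hy
    obtain ⟨⟨g, hg⟩, rfl⟩ := hM.surj y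
    obtain ⟨o, ho, hog⟩ := hM.lift hE le_rfl ha hg hy
    refine ⟨⟨g, hg⟩, mem_subgroupOf.2 ?_, rfl⟩
    show g ∈ M
    rw [show g = o⁻¹ * (o * g) by group]
    exact mul_mem (inv_mem (hO ho)) (hN hog)
  obtain ⟨v0, hv0, hv01⟩ := SESolv.IsFour.exists_ne (hM.img_isFour hE ha)
  obtain ⟨z, hz, hzo, hz1, hvz⟩ := htor v0 hv0 hv01
  have hLH : Lb ≤ H := by
    refine hM.socle_le h hE ha ?_ (inf_le_right.trans hNH) hv0 hv01 hz hzo hz1 hvz
    rintro _ ⟨⟨s, hs⟩, hsS, rfl⟩ hs1 y hy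
    replace hsS : s ∈ S := hsS
    obtain ⟨⟨g, hg⟩, rfl⟩ := hM.surj y
    have hgs := mem_centralizer_singleton_iff.1 (mem_inf.1 hy).2
    have hs1' : s ≠ 1 := fun e => hs1 (by subst e; exact map_one π)
    have hsa : s ≠ a := fun e => hs1 ((hM.ker _).2 (mem_sup_right (by
      show s ∈ zpowers a
      rw [e]; exact mem_zpowers a)))
    set A := zpowers a ⊔ zpowers s with hA
    have hAS : A ≤ S := sup_le (zpowers_le.2 ha) (zpowers_le.2 hsS)
    have hA4 : SEBrick.IsFour A := by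
      refine ⟨⟨.of_setLike_mul_comm fun x hx y hy => hE.comm (hAS hx) (hAS hy),
        fun x hx => by rw [pow_two]; exact hE.sq x (hAS hx)⟩, ?_⟩
      have hsub : ({1, a, s, a * s} : Set G) ⊆ (A : Set G) := by
        intro x hx
        simp only [Set.mem_insert_iff, Set.mem_singleton_iff] at hx
        rcases hx with h | h | h | h <;> rw [h]
        exacts [one_mem _, mem_sup_left (mem_zpowers a), mem_sup_right (mem_zpowers s),
          mul_mem (mem_sup_left (mem_zpowers a)) (mem_sup_right (mem_zpowers s))]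
      have h3 : a * s ≠ 1 := fun e => hsa (by
        rw [← inv_eq_of_mul_eq_one_right (hE.sq a ha)]; exact eq_inv_of_mul_eq_one_right e)
      have hcard : ({1, a, s, a * s} : Set G).ncard = 4 := by
        rw [Set.ncard_insert_of_notMem (by simp [Ne.symm ha1, Ne.symm hs1', Ne.symm h3]),
          Set.ncard_insert_of_notMem (by simp [Ne.symm hsa, hs1']), Set.ncard_pair (by simp [ha1])]
      have := Set.ncard_le_ncard hsub (Set.toFinite _)
      rw [hcard, ← Nat.card_coe_set_eq] at this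
      exact this
    have hn : π ⟨g, hg⟩ ∈ normalizer ((A.subgroupOf (cen a)).map π : Set Y) := by
      refine SEBrick.mem_normalizer_of ?_
      rintro _ ⟨⟨x, hx⟩, hxA, rfl⟩
      have hle : (A.subgroupOf (cen a)).map π ≤ cen (π ⟨g, hg⟩) := by
        rw [map_le_iff_le_comap]
        intro t ht
        have hAle : A ≤ ((cen (π ⟨g, hg⟩)).comap π).map (cen a).subtype := by
          refine sup_le (zpowers_le.2 ⟨⟨a, hE.mem_cen ha ha⟩, ?_, rfl⟩) (zpowers_le.2 ⟨⟨s, hs⟩, ?_, rfl⟩)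
          · show π _ ∈ cen _
            rw [(hM.ker ⟨a, hE.mem_cen ha ha⟩).2 (mem_sup_right (mem_zpowers a))]
            exact one_mem _
          · exact mem_centralizer_singleton_iff.2 hgs.symm
        obtain ⟨t', ht', he⟩ := hAle (mem_subgroupOf.1 ht)
        rwa [Subtype.ext he] at ht'
      have hx' : π ⟨x, hx⟩ ∈ (A.subgroupOf (cen a)).map π := ⟨_, hxA, rfl⟩
      rw [(mem_centralizer_singleton_iff.1 (hle hx')).symm, mul_inv_cancel_right]
      exact hx'
    obtain ⟨o, ho, hog⟩ := hM.lift hE hAS (mem_sup_left (mem_zpowers a)) hg hn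
    refine ⟨⟨g, hg⟩, mem_subgroupOf.2 ?_, rfl⟩
    show g ∈ M
    rw [show g = o⁻¹ * (o * g) by group]
    exact mul_mem (inv_mem (hO ho)) (hF A hAS hA4 hog)
  intro g hg
  -- Frattini over the socle
  set y := π ⟨g, hg⟩ with hy
  have hyH : y ∈ H := by
    obtain ⟨T, hT⟩ := hM.exists_sylow hE ha
    obtain ⟨k, hk, hkn⟩ := SEMain.frattini_local (L := ⊤) (K := Lb)
      (by rw [normalizer_eq_top_iff.2 hM.facts.normal]) T (mem_top y)
    rw [hT] at hkn
    rw [show y = k * (k⁻¹ * y) by group]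
    exact mul_mem (hLH hk) (hNH hkn)
  obtain ⟨⟨g', hg'⟩, hg'M, he⟩ := hyH
  replace hg'M : g' ∈ M := hg'M
  have h1 : g'⁻¹ * g ∈ core (cen a) ⊔ zpowers a := (hM.ker (⟨g', hg'⟩⁻¹ * ⟨g, hg⟩)).1 (by
    rw [map_mul, map_inv, he, inv_mul_cancel])
  have haM : a ∈ M := hN (le_normalizer ha)
  rw [show g = g' * (g'⁻¹ * g) by group]
  exact mul_mem hg'M ((sup_le hO (zpowers_le.2 haM)) h1)

/-- The odd cores of the involution centralisers are trivial. -/
theorem core_eq_bot {G : Type u} [Group G] [Finite G] [IsSimpleGroup G] {S : Subgroup G}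
    (_hna : ¬ IsMulCommutative G) (hE : Eight S) (hL : LType S) (hT : ThetaStmt.{u})
    (hM : SEMain.Stmt.{u}) : ∀ a ∈ S, a ≠ 1 → core (cen a) = ⊥ := by
  classical
  haveI : Fact (Nat.Prime 2) := ⟨Nat.prime_two⟩
  intro a0 ha0 ha01
  obtain ⟨P, rfl, hS⟩ := hE.exists_hyp8 hL
  by_cases hsm : ∀ t : G, orderOf t = 2 → Small t
  · exact small_cores hM _ G rfl P hS hsm a0 (hE.order_two ha0 ha01)
  -- otherwise every line has a torus
  have htor : ∀ a ∈ (P : Subgroup G), a ≠ 1 → ∀ (Y : Type u) [Group Y] [Finite Y] (Lb : Subgroup Y)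
      (π : ↥(cen a) →* Y), Mod a Lb π → ∀ v ∈ img (P : Subgroup G) π, v ≠ 1 →
        ∃ z ∈ Lb, Odd (orderOf z) ∧ z ≠ 1 ∧ v * z = z * v := by
    intro a ha ha1 Y _ _ Lb π hMd v hv hv1
    by_contra hno
    push Not at hno
    refine hsm fun t ht => hS.small_all (hS.order ha ha1) ?_ ht
    intro x y hx hy hx2 hx1 hxa hyx
    have hno' : ∀ u z : Y, orderOf u = 2 → z ∈ Lb → Odd (orderOf z) → u * z = z * u → z = 1 := by
      intro u z hu hz hzo huz
      haveI := hMd.facts.normal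
      have huu : u * u = 1 := by rw [← pow_two, ← hu, pow_orderOf_eq_one]
      obtain ⟨g, hg, hgv⟩ := hMd.facts.one_class u v (hMd.invol_mem huu) (hMd.img_le hE hv) hu
        (Invol.order_two_of_sq (hMd.img_sq hE hv) hv1)
      by_contra hz1
      refine hno (g * z * g⁻¹) (hMd.facts.normal.conj_mem z hz g) (by rw [Invol.order_conj]; exact hzo)
        (fun e => hz1 (conj_eq_one_iff.1 e)) ?_
      rw [← hgv]
      calc g * u * g⁻¹ * (g * z * g⁻¹) = g * (u * z) * g⁻¹ := by group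
        _ = g * (z * u) * g⁻¹ := by rw [huz]
        _ = _ := by group
    have hxC : x ∈ cen a := mem_centralizer_singleton_iff.2 hx
    have hyC : y ∈ cen a := mem_centralizer_singleton_iff.2 hy
    have hX2 : π ⟨x, hxC⟩ * π ⟨x, hxC⟩ = 1 := by
      rw [← map_mul, show (⟨x, hxC⟩ : cen a) * ⟨x, hxC⟩ = 1 from Subtype.ext hx2, map_one]
    have hX1 : π ⟨x, hxC⟩ ≠ 1 := fun e => by
      rcases mem_sup_cases (hE.sq a ha) ((hMd.ker _).1 e) with h' | ⟨o, ho, he⟩
      · exact hx1 (ClosedAbelian.TwoEl.eq_one_of_odd (ClosedAbelian.twoEl_of_sq hx2) (odd_of_mem_core h'))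
      · have hoo : o * o = 1 := by
          have hoa : o * a = a * o := mem_centralizer_singleton_iff.1 (core_le_cen a ho)
          have := hx2
          rw [show x = o * a from he, mul_assoc, ← mul_assoc a o a, ← hoa, mul_assoc o a a, hE.sq a ha,
            mul_one] at this
          exact this
        exact hxa (by rw [show x = o * a from he, ClosedAbelian.TwoEl.eq_one_of_odd
          (ClosedAbelian.twoEl_of_sq hoo) (odd_of_mem_core ho), one_mul])
    have h2 := hMd.sq_of_no_torus hE ha hno' hX2 hX1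
      (show π ⟨y, hyC⟩ * π ⟨x, hxC⟩ = π ⟨x, hxC⟩ * π ⟨y, hyC⟩ by
        rw [← map_mul, ← map_mul]; exact congrArg π (Subtype.ext hyx))
    rw [← map_mul, hMd.ker] at h2
    exact h2
  have hB : Balanced (P : Subgroup G) := hT G P hE (LType.oneLine hE hL) (LType.torusSylow hE hL)
  have Θ := hS.equivariant fun a ha b hb ha1 hb1 => by
    by_cases hab : a = b
    · subst hab; exact inf_le_left
    obtain ⟨Y, _, _, Lb, π, hMd⟩ := hL.exists_mod hE hb hb1
    exact balance_full hM hE hB ha ha1 hb hb1 hab hMd (htor b hb hb1 Y Lb π hMd)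
  by_contra hne
  have hWne : closureCore P ≠ ⊥ := fun e => hne (le_bot_iff.1 ((core_le_closure ha0 ha01).trans e.le))
  refine false_of_centralizer_le hS hM (normalizer_closure_ne_top hS Θ hWne) (normalizer_sylow_le hS Θ)
    fun a ha ha1 => ?_
  obtain ⟨Y, _, _, Lb, π, hMd⟩ := hL.exists_mod hE ha ha1
  exact cen_le_of_lifts hM hE ha ha1 hMd (htor a ha ha1 Y Lb π hMd)
    ((core_le_closure ha ha1).trans le_normalizer) (normalizer_sylow_le hS Θ)
    (fun E hES hE4 => normalizer_four_le hS Θ hE4 hES)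

end Cfsg.Agent.Walter8
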