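import Cfsg.Agent.Lib.Walter8.Base
import Cfsg.Agent.Lib.GW.Main
import Cfsg.Agent.Lib.GW.Consequences
import Cfsg.Agent.Lib.SEBrick.Common
import Cfsg.Agent.Lib.Small.Orders3640.Eight
import Cfsg.Agent.Lib.Classical.DicksonProper
import Cfsg.Agent.S3188

/-!
# Simple groups with Sylow 2-subgroups of order 8: the reduction

A simple group with Sylow 2-subgroups of order 8 is `PSL(2, 8)`, `PSL(2, q)` with `q = 7, 9 (mod 16)`, `A₇`,
or has an elementary Sylow 2-subgroup as in `Eight` with centralisers of involutions as in `LType`.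
-/

set_option autoImplicit false
set_option linter.style.haveILetI false
set_option linter.unusedSectionVars false

namespace Cfsg.Agent.Walter8

open Subgroup
open Cfsg.Agent.ClosedAbelian (core)

universe u

/-- The order of `PSL(2, q)`, `q` odd. -/
theorem two_mul_card_psl {F : Type} [Field F] [Fintype F] (hodd : Odd (Fintype.card F)) :
    2 * Nat.card (Matrix.ProjectiveSpecialLinearGroup (Fin 2) F) =
      Fintype.card F * (Fintype.card F ^ 2 - 1) := by
  obtain ⟨k, hk⟩ := hodd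
  have h := Dickson.gcd_mul_card_psl (K := F)
  rw [Nat.card_eq_fintype_card (α := F)] at h
  rwa [show Nat.gcd 2 (Fintype.card F - 1) = 2 from
    Nat.gcd_eq_left (by rw [hk, Nat.add_sub_cancel]; exact dvd_mul_right 2 k)] at h

/-- The `2`-part `16` of `q² - 1`. -/
theorem mod_sixteen {q m : ℕ} (hq : Odd q) (h : q * (q ^ 2 - 1) = 2 * (8 * m)) (hm : Odd m) :
    q % 16 = 7 ∨ q % 16 = 9 := by
  have key : ∀ r < 32, r % 2 = 1 → r * (r * r + 31) % 32 = 16 → r % 16 = 7 ∨ r % 16 = 9 := by decide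
  obtain ⟨k, hk⟩ := hm
  have h1 : 1 ≤ q * q := Nat.one_le_iff_ne_zero.2 (Nat.mul_ne_zero hq.pos.ne' hq.pos.ne')
  have h2 : q * (q * q + 31) % 32 = 16 := by
    rw [show q * q + 31 = (q ^ 2 - 1) + 32 by rw [pow_two]; omega, mul_add, h, hk]
    omega
  rw [Nat.mul_mod, Nat.add_mod, Nat.mul_mod q q] at h2
  have h3 := key (q % 32) (Nat.mod_lt _ (by norm_num)) (by rw [Nat.odd_iff] at hq; omega) (by
    rw [Nat.mul_mod, Nat.add_mod, Nat.mul_mod (q % 32) (q % 32), Nat.mod_mod]
    exact h2)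
  omega

/-- `q² - 1` is divisible by `16` only for `q = 1, 7 (mod 8)`. -/
theorem mod_eight {q : ℕ} (h : 16 ∣ q * (q ^ 2 - 1)) (hq : q % 8 = 3 ∨ q % 8 = 5) : False := by
  have key : ∀ r < 16, (r % 8 = 3 ∨ r % 8 = 5) → r * (r * r + 15) % 16 ≠ 0 := by decide
  have h1 : 1 ≤ q * q := Nat.one_le_iff_ne_zero.2 (Nat.mul_ne_zero (by omega) (by omega))
  have h2 : q * (q * q + 15) % 16 = 0 := by
    rw [show q * q + 15 = (q ^ 2 - 1) + 16 by rw [pow_two]; omega, mul_add]
    obtain ⟨c, hc⟩ := h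
    rw [hc]
    omega
  rw [Nat.mul_mod, Nat.add_mod, Nat.mul_mod q q] at h2
  refine key (q % 16) (Nat.mod_lt _ (by norm_num)) (by omega) ?_
  rw [Nat.mul_mod, Nat.add_mod, Nat.mul_mod (q % 16) (q % 16), Nat.mod_mod]
  exact h2

/-- A group with a normal `2`-complement is solvable. -/
theorem solvable_of_hasNormalPComplement {C : Type u} [Group C] [Finite C]
    (h : Cfsg.HasNormalPComplement 2 C) : Group.IsSolvable C := by
  haveI : Fact (Nat.Prime 2) := ⟨Nat.prime_two⟩
  haveI := SEBrick.solvable_of_odd (Y := Cfsg.pPrimeCore 2 C)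
    (Nat.coprime_two_right.1 (PBasic.pPrimeCore_coprime 2 C))
  haveI := (PBasic.quotient_pPrimeCore_isPGroup h).isNilpotent
  exact Group.isSolvable_of_ker_le_range (Cfsg.pPrimeCore 2 C).subtype
    (QuotientGroup.mk' (Cfsg.pPrimeCore 2 C))
    (by rw [QuotientGroup.ker_mk', Subgroup.range_subtype])

/-- The centraliser of an involution, inside itself. -/
theorem shape_inner {C : Type u} [Group C] [Finite C] (P : Sylow 2 C)
    (hP : Nat.card (P : Subgroup C) = 8) (hsq : ∀ x ∈ (P : Subgroup C), x * x = 1) {a : C}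
    (haP : a ∈ (P : Subgroup C)) (ha1 : a ≠ 1) (hcen : ∀ g : C, g * a = a * g)
    (hns : ¬ Group.IsSolvable C) :
    ∃ L : Subgroup C, L.Normal ∧ Cfsg.oddCore C ≤ L ∧
      ∃ (F : Type) (_ : Field F) (_ : Fintype F)
        (φ : L →* Matrix.ProjectiveSpecialLinearGroup (Fin 2) F),
        Odd (Fintype.card F) ∧ 3 < Fintype.card F ∧ Function.Surjective φ ∧
          φ.ker = (Cfsg.oddCore C).subgroupOf L ∧
          ∀ g : C, (∀ l ∈ L, g * l * g⁻¹ * l⁻¹ ∈ Cfsg.oddCore C) →
            g ∈ Cfsg.oddCore C ⊔ zpowers a := by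
  classical
  haveI : Fact (Nat.Prime 2) := ⟨Nat.prime_two⟩
  set O := Cfsg.oddCore C with hO
  haveI hOn : O.Normal := FittingCores.pPrimeCore_normal 2
  have hOodd : Odd (Nat.card O) := Nat.coprime_two_right.1 (PBasic.pPrimeCore_coprime 2 C)
  haveI hPcomm : IsMulCommutative (P : Subgroup C) := ⟨⟨fun x y => Subtype.ext (by
    have hinv : ∀ w ∈ (P : Subgroup C), w⁻¹ = w := fun w hw => inv_eq_of_mul_eq_one_right (hsq w hw)
    show (x : C) * y = y * x
    calc (x : C) * y = ((x : C) * y)⁻¹ := (hinv _ (mul_mem x.2 y.2)).symm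
      _ = y * x := by rw [mul_inv_rev, hinv _ x.2, hinv _ y.2])⟩⟩
  open scoped IsMulCommutative in
  let τ : C →* (P : Subgroup C) := MonoidHom.transfer (MonoidHom.id (P : Subgroup C))
  have hao : a ^ 2 = 1 := by rw [pow_two]; exact hsq a haP
  have hτa : ((τ a : (P : Subgroup C)) : C) = a := by
    have hkey : ∀ (k : ℕ) (g₀ : C), g₀⁻¹ * a ^ k * g₀ ∈ (P : Subgroup C) → g₀⁻¹ * a ^ k * g₀ = a ^ k := by
      intro k g₀ _
      have h : Commute g₀ (a ^ k) := Commute.pow_right (hcen g₀) k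
      rw [mul_assoc, ← h.eq, inv_mul_cancel_left]
    have htr : ((τ a : (P : Subgroup C)) : C) = a ^ (P : Subgroup C).index := by
      open scoped IsMulCommutative in
      exact congrArg Subtype.val
        (MonoidHom.transfer_eq_pow (MonoidHom.id (P : Subgroup C)) a hkey)
    obtain ⟨k, hk⟩ : Odd (P : Subgroup C).index := Nat.odd_iff.2 (Nat.two_dvd_ne_zero.1 P.not_dvd_index)
    rw [htr, hk, pow_add, pow_mul, hao, one_pow, one_mul, pow_one]
  set Z := zpowers a with hZ
  haveI hZn : Z.Normal := ⟨fun z hz g => by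
    obtain ⟨i, rfl⟩ := Subgroup.mem_zpowers_iff.1 hz
    rw [((Commute.zpow_right (hcen g) i) : Commute g (a ^ i)).eq, mul_inv_cancel_right]
    exact zpow_mem (mem_zpowers a) i⟩
  have hZ2 : Nat.card Z = 2 := by rw [Nat.card_zpowers]; exact orderOf_eq_prime hao ha1
  have hZτ : ∀ z ∈ Z, τ z = 1 → z = 1 := by
    intro z hz h
    obtain ⟨i, rfl⟩ := Subgroup.mem_zpowers_iff.1 hz
    have : ((τ (a ^ i) : (P : Subgroup C)) : C) = a ^ i := by rw [map_zpow, SubgroupClass.coe_zpow, hτa]
    rw [h, OneMemClass.coe_one] at this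
    exact this.symm
  have hcardC : Nat.card (C ⧸ Z) * 2 = Nat.card C := by
    rw [← hZ2, ← Subgroup.card_eq_card_quotient_mul_card_subgroup]
  have h16 : ¬ 16 ∣ Nat.card C := by
    intro h
    rw [← (P : Subgroup C).card_mul_index, hP, show 16 = 8 * 2 from rfl] at h
    exact P.not_dvd_index (Nat.dvd_of_mul_dvd_mul_left (by norm_num) h)
  have hdih : GW.DihSylow (C ⧸ Z) := by
    let Q : Sylow 2 (C ⧸ Z) := P.mapSurjective (QuotientGroup.mk'_surjective Z)
    have hQ4 : Nat.card (Q : Subgroup (C ⧸ Z)) = 4 := by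
      rw [Q.card_eq_multiplicity]
      have h4 : 4 ∣ Nat.card (C ⧸ Z) := by
        have : 8 ∣ Nat.card C := hP ▸ (P : Subgroup C).card_subgroup_dvd_card
        omega
      have h8 : ¬ 8 ∣ Nat.card (C ⧸ Z) := by omega
      have hne : Nat.card (C ⧸ Z) ≠ 0 := Nat.card_pos.ne'
      have h2 : (Nat.card (C ⧸ Z)).factorization 2 = 2 := le_antisymm
        (by
          by_contra hlt
          exact h8 ((Nat.prime_two.pow_dvd_iff_le_factorization hne (k := 3)).2 (by omega)))
        ((Nat.prime_two.pow_dvd_iff_le_factorization hne (k := 2)).1 h4)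
      rw [h2]
      norm_num
    have hexp : ∀ x ∈ (Q : Subgroup (C ⧸ Z)), x * x = 1 := by
      rw [Sylow.coe_mapSurjective]
      rintro _ ⟨w, hw, rfl⟩
      rw [← map_mul, hsq w hw, map_one]
    haveI : IsKleinFour (Q : Subgroup (C ⧸ Z)) := by
      refine ⟨hQ4, ?_⟩
      refine Nat.dvd_antisymm (Monoid.exponent_dvd_of_forall_pow_eq_one fun x =>
        Subtype.ext (by rw [SubmonoidClass.coe_pow, pow_two]; exact hexp x x.2)) ?_
      obtain ⟨x, hx⟩ := exists_prime_orderOf_dvd_card' (G := (Q : Subgroup (C ⧸ Z))) 2 (by rw [hQ4]; norm_num)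
      calc 2 = orderOf x := hx.symm
        _ ∣ _ := Monoid.order_dvd_exponent x
    exact ⟨Q, 2, le_rfl, IsKleinFour.nonempty_mulEquiv⟩
  set O1 := Cfsg.oddCore (C ⧸ Z) with hO1
  haveI hO1n : O1.Normal := FittingCores.pPrimeCore_normal 2
  have hO1odd : Odd (Nat.card O1) := Nat.coprime_two_right.1 (PBasic.pPrimeCore_coprime 2 (C ⧸ Z))
  set π : C →* (C ⧸ Z) ⧸ O1 := (QuotientGroup.mk' O1).comp (QuotientGroup.mk' Z) with hπ
  have hπs : Function.Surjective π :=
    (QuotientGroup.mk'_surjective O1).comp (QuotientGroup.mk'_surjective Z)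
  have hπker : ∀ x, π x = 1 ↔ QuotientGroup.mk' Z x ∈ O1 := fun x => by
    rw [hπ, MonoidHom.comp_apply]
    exact QuotientGroup.eq_one_iff _
  -- the kernel of `π` meets that of the transfer in the odd core
  have hWO : π.ker ⊓ τ.ker ≤ O := by
    refine PBasic.le_pPrimeCore inferInstance ?_
    let f : ↥(π.ker ⊓ τ.ker) →* O1 :=
      ((QuotientGroup.mk' Z).comp (π.ker ⊓ τ.ker).subtype).codRestrict O1
        (fun x => (hπker _).1 (Subgroup.mem_inf.1 x.2).1)
    have hf : Function.Injective f := by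
      rw [injective_iff_map_eq_one]
      intro x hx
      have h1 : (x : C) ∈ Z := (QuotientGroup.eq_one_iff _).1 (congrArg Subtype.val hx)
      exact Subtype.ext (hZτ _ h1 (Subgroup.mem_inf.1 x.2).2)
    exact Nat.coprime_two_right.2 (hO1odd.of_dvd_nat (Subgroup.card_dvd_of_injective f hf))
  have hOτ : ∀ x ∈ O, τ x = 1 := by
    intro x hx
    refine orderOf_eq_one_iff.1 (Nat.eq_one_of_dvd_coprimes (a := Nat.card O) (b := 2 ^ 3) ?_ ?_ ?_)
    · exact (Nat.coprime_two_right.2 hOodd).pow_right 3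
    · exact (orderOf_map_dvd τ x).trans (Subgroup.orderOf_dvd_natCard O hx)
    · exact (orderOf_dvd_natCard (τ x)).trans hP.dvd
  have hOπ : ∀ x ∈ O, π x = 1 := by
    intro x hx
    rw [hπker]
    refine (PBasic.le_pPrimeCore ((inferInstance : O.Normal).map _ (QuotientGroup.mk'_surjective Z))
      ?_) (Subgroup.mem_map_of_mem _ hx)
    exact (Nat.Coprime.coprime_dvd_left (Subgroup.card_map_dvd _ _) (Nat.coprime_two_right.2 hOodd))
  -- the kernel of `π`
  have hker : π.ker ≤ O ⊔ Z := by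
    intro x hx
    have hpow : ((τ x : (P : Subgroup C)) : C) ∈ Z := by
      have h1 : ∃ m : ℕ, Odd m ∧ x ^ m ∈ Z := by
        refine ⟨Nat.card O1, hO1odd, ?_⟩
        have h2 : (QuotientGroup.mk' Z x) ^ Nat.card O1 = 1 := by
          obtain ⟨d, hd⟩ := Subgroup.orderOf_dvd_natCard O1 ((hπker x).1 hx)
          rw [hd, pow_mul, pow_orderOf_eq_one, one_pow]
        rw [← map_pow] at h2
        exact (QuotientGroup.eq_one_iff _).1 h2
      obtain ⟨m, ⟨k, hk⟩, hm⟩ := h1
      obtain ⟨i, hi⟩ := Subgroup.mem_zpowers_iff.1 hm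
      have h3 : ((τ x : (P : Subgroup C)) : C) ^ m = a ^ i := by
        rw [← SubmonoidClass.coe_pow, ← map_pow, ← hi, map_zpow, SubgroupClass.coe_zpow, hτa]
      rw [hk, pow_add, pow_mul, pow_two, hsq _ (τ x).2, one_pow, one_mul, pow_one] at h3
      rw [h3]
      exact zpow_mem (mem_zpowers a) i
    obtain ⟨z, hz, hzx⟩ : ∃ z ∈ Z, τ z = τ x := by
      refine ⟨_, hpow, Subtype.ext ?_⟩
      obtain ⟨i, hi⟩ := Subgroup.mem_zpowers_iff.1 hpow
      conv_lhs => rw [← hi, map_zpow, SubgroupClass.coe_zpow, hτa, hi]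
    have hzπ : π z = 1 := by
      rw [hπker, show QuotientGroup.mk' Z z = 1 from (QuotientGroup.eq_one_iff _).2 hz]
      exact one_mem _
    rw [show x = x * z⁻¹ * z by group]
    refine mul_mem (Subgroup.mem_sup_left (hWO (Subgroup.mem_inf.2 ⟨?_, ?_⟩))) (Subgroup.mem_sup_right hz)
    · rw [MonoidHom.mem_ker, map_mul, map_inv, hzπ, MonoidHom.mem_ker.1 hx, inv_one, mul_one]
    · rw [MonoidHom.mem_ker, map_mul, map_inv, hzx, mul_inv_cancel]
  have hnsR : ¬ Group.IsSolvable ((C ⧸ Z) ⧸ O1) := by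
    intro h
    haveI := h
    refine hns ?_
    haveI : Group.IsSolvable Z := Group.isSolvable_of_comm fun x y => mul_comm' x y
    haveI : Group.IsSolvable O1 := SEBrick.solvable_of_odd hO1odd
    haveI : Group.IsSolvable (C ⧸ Z) := Group.isSolvable_of_ker_le_range O1.subtype (QuotientGroup.mk' O1)
      (by rw [QuotientGroup.ker_mk', Subgroup.range_subtype])
    exact Group.isSolvable_of_ker_le_range Z.subtype (QuotientGroup.mk' Z)
      (by rw [QuotientGroup.ker_mk', Subgroup.range_subtype])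
  obtain ⟨Lb, hLbn, hLbs, hLbnc, hLbt, hLbc⟩ := (GW.shape_solvable_or
    (GW.shape_mod_core (GW.knownBelow_of_simple GW.simpleDihedral _) hdih
      (Nat.lt_succ_self _))).resolve_left hnsR
  rcases hLbt with ⟨F, i1, i2, hFodd, hF3, ⟨e⟩⟩ | hA7
  swap
  · exfalso
    obtain ⟨e⟩ := hA7
    have h7 : Nat.card Lb = 2520 := by
      rw [Nat.card_congr e.toEquiv, nat_card_alternatingGroup, Nat.card_eq_fintype_card, Fintype.card_fin]
      decide
    have h1 : Nat.card Lb ∣ Nat.card (C ⧸ Z) :=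
      (Subgroup.card_subgroup_dvd_card Lb).trans (Subgroup.card_quotient_dvd_card _)
    rw [h7] at h1
    omega
  haveI := hLbn
  set L : Subgroup C := Lb.comap π ⊓ τ.ker with hL
  have hLn : L.Normal := Subgroup.normal_inf_normal _ _
  have hOL : O ≤ L := fun x hx => Subgroup.mem_inf.2
    ⟨by rw [Subgroup.mem_comap, hOπ x hx]; exact one_mem _, hOτ x hx⟩
  have hmap : L.map π = Lb := by
    refine le_antisymm ((Subgroup.map_mono inf_le_left).trans (Subgroup.map_comap_le _ _)) ?_
    have hperf : ⁅Lb, Lb⁆ = Lb := by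
      haveI := hLbs
      have h : commutator Lb = ⊤ := by
        refine ((inferInstance : (commutator Lb).Normal).eq_bot_or_eq_top).resolve_left fun h => hLbnc ⟨⟨fun x y => ?_⟩⟩
        have := Subgroup.commutator_mem_commutator (Subgroup.mem_top x) (Subgroup.mem_top y)
        rw [← _root_.commutator_def, h, Subgroup.mem_bot] at this
        exact commutatorElement_eq_one_iff_mul_comm.1 this
      have h' := congrArg (Subgroup.map Lb.subtype) h
      rwa [_root_.commutator_def, Subgroup.map_commutator, ← MonoidHom.range_eq_map, Subgroup.range_subtype] at h'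
    have hcle : ⁅Lb.comap π, Lb.comap π⁆ ≤ L := by
      refine le_inf ?_ ?_
      · exact Subgroup.commutator_le_left (Lb.comap π) (Lb.comap π)
      · rw [Subgroup.commutator_le]
        intro x _ y _
        rw [MonoidHom.mem_ker, map_commutatorElement, commutatorElement_eq_one_iff_mul_comm]
        exact mul_comm' _ _
    calc Lb = ⁅Lb, Lb⁆ := hperf.symm
      _ = ⁅(Lb.comap π).map π, (Lb.comap π).map π⁆ := by rw [Subgroup.map_comap_eq_self_of_surjective hπs]
      _ = (⁅Lb.comap π, Lb.comap π⁆).map π := (Subgroup.map_commutator _ _ _).symm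
      _ ≤ L.map π := Subgroup.map_mono hcle
  let φ : L →* Matrix.ProjectiveSpecialLinearGroup (Fin 2) F :=
    e.toMonoidHom.comp ((π.comp L.subtype).codRestrict Lb (fun x => (Subgroup.mem_inf.1 x.2).1))
  refine ⟨L, hLn, hOL, F, i1, i2, φ, hFodd, hF3, ?_, ?_, ?_⟩
  · refine e.surjective.comp fun y => ?_
    obtain ⟨x, hx, hxy⟩ : (y : (C ⧸ Z) ⧸ O1) ∈ L.map π := by rw [hmap]; exact y.2
    exact ⟨⟨x, hx⟩, Subtype.ext hxy⟩
  · ext x
    rw [MonoidHom.mem_ker, Subgroup.mem_subgroupOf]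
    constructor
    · intro h
      have h1 : π (x : C) = 1 := congrArg Subtype.val (e.injective (h.trans (map_one e).symm))
      exact hWO (Subgroup.mem_inf.2 ⟨h1, (Subgroup.mem_inf.1 x.2).2⟩)
    · intro h
      show e _ = 1
      rw [e.map_eq_one_iff]
      exact Subtype.ext (hOπ _ h)
  · intro g hg
    refine hker ?_
    rw [MonoidHom.mem_ker]
    have h1 : π g ∈ Subgroup.centralizer (Lb : Set ((C ⧸ Z) ⧸ O1)) := by
      rw [← hmap]
      rintro _ ⟨l, hl, rfl⟩
      have h2 := hOπ _ (hg l hl)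
      rw [map_mul, map_mul, map_mul, map_inv, map_inv, mul_inv_eq_one, mul_inv_eq_iff_eq_mul] at h2
      exact h2.symm
    rwa [hLbc, Subgroup.mem_bot] at h1

/-- The shape of the centraliser of an involution with non-solvable centraliser. -/
theorem lType_of_not_solvable {G : Type u} [Group G] [Finite G] (T : Sylow 2 G)
    (hT : Nat.card (T : Subgroup G) = 8) (hsq : ∀ x ∈ (T : Subgroup G), x * x = 1)
    (hab : ∀ x ∈ (T : Subgroup G), ∀ y ∈ (T : Subgroup G), x * y = y * x)
    (hns : ∀ a ∈ (T : Subgroup G), a ≠ 1 → ¬ Group.IsSolvable (cen a)) :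
    LType (T : Subgroup G) := by
  intro a ha ha1
  haveI : Fact (Nat.Prime 2) := ⟨Nat.prime_two⟩
  have hTC : (T : Subgroup G) ≤ cen a := fun s hs =>
    Subgroup.mem_centralizer_singleton_iff.2 (hab s hs a ha)
  let P : Sylow 2 (cen a) := T.subtype hTC
  have hPcoe : (P : Subgroup (cen a)) = (T : Subgroup G).subgroupOf (cen a) := T.coe_subtype hTC
  obtain ⟨L, hLn, hOL, F, i1, i2, φ, hodd, h3, hs, hk, hc⟩ := shape_inner P
    (by rw [hPcoe, Nat.card_congr (Subgroup.subgroupOfEquivOfLe hTC).toEquiv, hT])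
    (fun x hx => Subtype.ext (by rw [hPcoe] at hx; exact hsq _ (Subgroup.mem_subgroupOf.1 hx)))
    (a := ⟨a, hTC ha⟩) (by rw [hPcoe]; exact Subgroup.mem_subgroupOf.2 ha)
    (fun h => ha1 (congrArg Subtype.val h))
    (fun g => Subtype.ext (Subgroup.mem_centralizer_singleton_iff.1 g.2)) (hns a ha ha1)
  set e := L.equivMapOfInjective (cen a).subtype (cen a).subtype_injective with he
  refine ⟨L.map (cen a).subtype, F, i1, i2, φ.comp e.symm.toMonoidHom, hodd, h3,
    Subgroup.map_subtype_le L, ?_, hs.comp e.symm.surjective, Subgroup.map_mono hOL, ?_, ?_⟩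
  · haveI := hLn
    have h := Subgroup.le_normalizer_map (H := L) (cen a).subtype
    rwa [Subgroup.normalizer_eq_top, ← MonoidHom.range_eq_map, Subgroup.range_subtype] at h
  · ext x
    rw [MonoidHom.mem_ker, MonoidHom.comp_apply, Subgroup.mem_subgroupOf]
    show φ (e.symm x) = 1 ↔ _
    rw [← MonoidHom.mem_ker, hk, Subgroup.mem_subgroupOf]
    have hx : (((e.symm x : L) : cen a) : G) = x :=
      congrArg Subtype.val (e.apply_symm_apply x)
    rw [core, Subgroup.mem_map]
    constructor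
    · exact fun h => ⟨_, h, hx⟩
    · rintro ⟨y, hy, hyx⟩
      rwa [show ((e.symm x : L) : cen a) = y from Subtype.ext (hx.trans hyx.symm)]
  · intro g hg hl
    have h1 := hc ⟨g, hg⟩ fun l hlL => by
      obtain ⟨y, hy, hye⟩ := hl _ (Subgroup.mem_map_of_mem _ hlL)
      rwa [show y = (⟨g, hg⟩ : cen a) * l * (⟨g, hg⟩ : cen a)⁻¹ * l⁻¹ from Subtype.ext hye] at hy
    have h2 := Subgroup.mem_map_of_mem (cen a).subtype h1
    rw [Subgroup.map_sup, MonoidHom.map_zpowers] at h2
    exact h2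

/-- The reduction for simple groups with Sylow 2-subgroups of order 8. -/
theorem cases {G : Type u} [Group G] [Finite G] [IsSimpleGroup G] (hG : ¬ IsMulCommutative G)
    (T : Sylow 2 G) (hT : Nat.card (T : Subgroup G) = 8) :
    (∃ (F : Type) (_ : Field F) (_ : Fintype F), Fintype.card F = 8 ∧
        Nonempty (G ≃* Matrix.ProjectiveSpecialLinearGroup (Fin 2) F)) ∨
      (∃ (F : Type) (_ : Field F) (_ : Fintype F), (Fintype.card F % 16 = 7 ∨ Fintype.card F % 16 = 9) ∧
        Nonempty (G ≃* Matrix.ProjectiveSpecialLinearGroup (Fin 2) F)) ∨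
      Nonempty (G ≃* alternatingGroup (Fin 7)) ∨
      (Eight (T : Subgroup G) ∧ LType (T : Subgroup G)) := by
  classical
  haveI : Fact (Nat.Prime 2) := ⟨Nat.prime_two⟩
  obtain ⟨m, hm, hG8⟩ : ∃ m, Odd m ∧ Nat.card G = 8 * m :=
    ⟨(T : Subgroup G).index, Nat.odd_iff.2 (Nat.two_dvd_ne_zero.1 T.not_dvd_index),
      by rw [← hT, Subgroup.card_mul_index]⟩
  rcases Ord3640.eight_cases hG T hT with e | ⟨hab, hord, -, htr⟩
  · rcases GW.simpleDihedral G T 4 (by norm_num) e with ⟨F, i1, i2, hodd, -, ⟨e'⟩⟩ | h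
    · refine Or.inr (Or.inl ⟨F, i1, i2, mod_sixteen hodd ?_ hm, ⟨e'⟩⟩)
      rw [← hG8, Nat.card_congr e'.toEquiv, two_mul_card_psl hodd]
    · exact Or.inr (Or.inr (Or.inl h))
  have hsq : ∀ x ∈ (T : Subgroup G), x * x = 1 := fun x hx => by
    by_cases h : x = 1
    · rw [h, one_mul]
    · rw [← pow_two, ← hord x hx h, pow_orderOf_eq_one]
  by_cases hsol : ∃ a ∈ (T : Subgroup G), a ≠ 1 ∧ Group.IsSolvable (cen a)
  · obtain ⟨a, ha, ha1, hs⟩ := hsol
    have hall : ∀ t : G, orderOf t = 2 → Group.IsSolvable (Subgroup.centralizer ({t} : Set G)) := by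
      intro t ht
      obtain ⟨U, hU⟩ := (IsPGroup.of_card (p := 2) (n := 1)
        (by rw [Nat.card_zpowers, ht, pow_one] : Nat.card (zpowers t) = 2 ^ 1)).exists_le_sylow
      obtain ⟨g, hg⟩ := MulAction.exists_smul_eq G U T
      have htT : g * t * g⁻¹ ∈ (T : Subgroup G) := by
        rw [← hg, Sylow.coe_subgroup_smul]
        exact ⟨t, hU (mem_zpowers t), by simp⟩
      obtain ⟨n, -, hn⟩ := htr a ha _ htT ha1
        (fun h => by rw [conj_eq_one_iff] at h; rw [h, orderOf_one] at ht; omega)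
      have hcong : t = (g⁻¹ * n) * a * (g⁻¹ * n)⁻¹ := by
        rw [show (g⁻¹ * n) * a * (g⁻¹ * n)⁻¹ = g⁻¹ * (n * a * n⁻¹) * g by group, hn]
        group
      haveI := hs
      have hle : Subgroup.centralizer ({t} : Set G) ≤
          (cen a).map (MulAut.conj (g⁻¹ * n)).toMonoidHom := by
        intro y hy
        refine ⟨(g⁻¹ * n)⁻¹ * y * (g⁻¹ * n), ?_, by simp [mul_assoc]⟩
        rw [SetLike.mem_coe, Subgroup.mem_centralizer_singleton_iff]
        rw [Subgroup.mem_centralizer_singleton_iff, hcong] at hy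
        calc (g⁻¹ * n)⁻¹ * y * (g⁻¹ * n) * a
            = (g⁻¹ * n)⁻¹ * (y * ((g⁻¹ * n) * a * (g⁻¹ * n)⁻¹)) * (g⁻¹ * n) := by group
          _ = a * ((g⁻¹ * n)⁻¹ * y * (g⁻¹ * n)) := by rw [hy]; group
      haveI : Group.IsSolvable ((cen a).map (MulAut.conj (g⁻¹ * n)).toMonoidHom) :=
        Group.isSolvable_of_surjective ((MulAut.conj (g⁻¹ * n)).toMonoidHom.subgroupMap_surjective (cen a))
      exact Group.isSolvable_of_isSolvable_injective (Subgroup.inclusion_injective hle)
    haveI : IsMulCommutative (T : Subgroup G) := ⟨⟨fun x y => Subtype.ext (hab _ x.2 _ y.2)⟩⟩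
    rcases S3188.result T inferInstance hall with h | ⟨F, i1, i2, hF, N, hN, ⟨e⟩, hNc⟩
    · exfalso
      haveI := h
      have h1 := Group.IsSolvable.commutator_lt_top_of_nontrivial G
      rcases (inferInstance : (commutator G).Normal).eq_bot_or_eq_top with h2 | h2
      · refine hG ⟨⟨fun x y => ?_⟩⟩
        have := Subgroup.commutator_mem_commutator (Subgroup.mem_top x) (Subgroup.mem_top y)
        rw [← _root_.commutator_def, h2, Subgroup.mem_bot] at this
        exact commutatorElement_eq_one_iff_mul_comm.1 this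
      · exact h1.ne h2
    haveI hOn : (Cfsg.oddCore G).Normal := FittingCores.pPrimeCore_normal 2
    have hO : Cfsg.oddCore G = ⊥ := by
      refine hOn.eq_bot_or_eq_top.resolve_right fun h => ?_
      have h1 : (Nat.card (Cfsg.oddCore G)).Coprime 2 := PBasic.pPrimeCore_coprime 2 G
      rw [h, Subgroup.card_top, hG8, Nat.coprime_two_right, Nat.odd_iff] at h1
      omega
    let ψ : G ⧸ Cfsg.oddCore G ≃* G := (QuotientGroup.quotientMulEquivOfEq hO).trans QuotientGroup.quotientBot
    have hNtop : N = ⊤ := by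
      haveI := hN
      haveI : IsSimpleGroup (G ⧸ Cfsg.oddCore G) := ψ.isSimpleGroup
      refine hN.eq_bot_or_eq_top.resolve_left fun h => ?_
      have hc : Subgroup.centralizer ((⊥ : Subgroup (G ⧸ Cfsg.oddCore G)) : Set (G ⧸ Cfsg.oddCore G)) = ⊤ := by
        rw [eq_top_iff]
        intro x _ y hy
        rw [SetLike.mem_coe, Subgroup.mem_bot] at hy
        rw [hy, one_mul, mul_one]
      rw [h, hc] at hNc
      exact top_ne_bot hNc
    subst hNtop
    let e' : G ≃* Matrix.ProjectiveSpecialLinearGroup (Fin 2) F :=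
      ψ.symm.trans (Subgroup.topEquiv.symm.trans e)
    have hc := Dickson.gcd_mul_card_psl (K := F)
    rw [← Nat.card_congr e'.toEquiv, hG8, Nat.card_eq_fintype_card (α := F)] at hc
    refine Or.inl ⟨F, i1, i2, ?_, ⟨e'⟩⟩
    rcases hF with ⟨h8, -⟩ | ⟨n, hn, hq⟩
    · exfalso
      refine mod_eight ?_ h8
      rw [← hc, show Nat.gcd 2 (Fintype.card F - 1) = 2 from Nat.gcd_eq_left (by omega)]
      exact ⟨m, by ring⟩
    · have hev : Nat.gcd 2 (Fintype.card F - 1) = 1 := by
        obtain ⟨n', rfl⟩ : ∃ n', n = n' + 1 := ⟨n - 1, by omega⟩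
        have h2 : 2 ≤ Fintype.card F := Fintype.one_lt_card
        refine (Nat.prime_two.coprime_iff_not_dvd).2 ?_
        rw [hq, pow_succ]
        omega
      rw [hev, one_mul, hq] at hc
      have hodd2 : Odd ((2 ^ n) ^ 2 - 1) := by
        rw [← pow_mul]
        refine Nat.Even.sub_odd (Nat.one_le_two_pow) ?_ odd_one
        exact (Nat.even_pow.2 ⟨even_two, by omega⟩)
      rw [hq]
      have hd1 : 8 ∣ 2 ^ n := by
        have h : 8 ∣ 2 ^ n * ((2 ^ n) ^ 2 - 1) := hc ▸ dvd_mul_right 8 m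
        refine Nat.Coprime.dvd_of_dvd_mul_right ?_ h
        exact (Nat.coprime_two_left.2 hodd2).pow_left 3
      have hd2 : 2 ^ n ∣ 8 := by
        have h : 2 ^ n ∣ 8 * m := hc ▸ dvd_mul_right _ _
        exact Nat.Coprime.dvd_of_dvd_mul_right ((Nat.coprime_two_left.2 hm).pow_left n) h
      exact Nat.dvd_antisymm hd2 hd1
  push Not at hsol
  refine Or.inr (Or.inr (Or.inr ⟨⟨hT, hsq, ?_, fun a ha ha1 b hb hb1 => htr a ha b hb ha1 hb1, ?_⟩,
    lType_of_not_solvable T hT hsq hab hsol⟩))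
  · intro h
    obtain ⟨k, hk⟩ := hm
    omega
  · intro a ha ha1
    by_contra hno
    push Not at hno
    refine hsol a ha ha1 (solvable_of_hasNormalPComplement ?_)
    have hTC : (T : Subgroup G) ≤ cen a := fun s hs =>
      Subgroup.mem_centralizer_singleton_iff.2 (hab s hs a ha)
    refine Fusion.hasNormalPComplement_of_normalizer_le_centralizer (T.subtype hTC) fun y hy => ?_
    rw [← Sylow.coe_coe, T.coe_subtype hTC] at hy
    rw [← Sylow.coe_coe, T.coe_subtype hTC]
    have hyN : (y : G) ∈ normalizer ((T : Subgroup G) : Set G) := by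
      have h := Subgroup.mem_map_of_mem (cen a).subtype hy
      have h' := Subgroup.le_normalizer_map (cen a).subtype h
      rwa [Subgroup.map_subgroupOf_eq_of_le hTC] at h'
    have hyC := hno (y : G) hyN (Subgroup.mem_centralizer_singleton_iff.1 y.2)
    intro s hs
    exact Subtype.ext (hyC _ (Subgroup.mem_subgroupOf.1 hs))

end Cfsg.Agent.Walter8
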