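import Cfsg.Agent.Lib.Solvable.Coprime
import Cfsg.Agent.Lib.Signalizer.Transitivity

/-!
# Maximal invariant `r`-subgroups and maximal intersections

For a subgroup `S`, the maximal `S`-invariant `r`-subgroups; two of them which are not conjugate under the
centraliser of `S` and have a largest intersection `I` do not have their normalisers of `I` inside one
`S`-invariant solvable subgroup of order prime to `|S|`.
-/

set_option autoImplicit false
set_option linter.style.haveILetI false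

namespace Cfsg.Agent.Walter8

open Subgroup

variable {G : Type*} [Group G] {r : ℕ} {S : Subgroup G}

/-- A maximal `S`-invariant `r`-subgroup. -/
def IsMaxInv (r : ℕ) (S P : Subgroup G) : Prop :=
  S ≤ normalizer (P : Set G) ∧ IsPGroup r P ∧
    ∀ R : Subgroup G, S ≤ normalizer (R : Set G) → IsPGroup r R → P ≤ R → R = P

/-- Conjugate by an element centralising `S`. -/
def CentConj (S P Q : Subgroup G) : Prop :=
  ∃ c ∈ centralizer (S : Set G), P.map (MulAut.conj c).toMonoidHom = Q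

theorem mem_map_conj {c x : G} {P : Subgroup G} :
    x ∈ P.map (MulAut.conj c).toMonoidHom ↔ c⁻¹ * x * c ∈ P := by
  constructor
  · rintro ⟨y, hy, rfl⟩
    simpa [mul_assoc] using hy
  · intro h
    exact ⟨c⁻¹ * x * c, h, by simp [mul_assoc]⟩

theorem map_conj_conj (c d : G) (P : Subgroup G) :
    (P.map (MulAut.conj d).toMonoidHom).map (MulAut.conj c).toMonoidHom =
      P.map (MulAut.conj (c * d)).toMonoidHom := by
  ext x
  simp only [mem_map_conj, mul_inv_rev, mul_assoc]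

theorem map_conj_one (P : Subgroup G) : P.map (MulAut.conj (1 : G)).toMonoidHom = P := by
  ext x
  simp only [mem_map_conj, inv_one, one_mul, mul_one]

theorem CentConj.refl (S P : Subgroup G) : CentConj S P P :=
  ⟨1, one_mem _, map_conj_one P⟩

theorem CentConj.symm {P Q : Subgroup G} (h : CentConj S P Q) : CentConj S Q P := by
  obtain ⟨c, hc, rfl⟩ := h
  exact ⟨c⁻¹, inv_mem hc, by rw [map_conj_conj, inv_mul_cancel, map_conj_one]⟩

theorem CentConj.trans {P Q R : Subgroup G} (h : CentConj S P Q) (h' : CentConj S Q R) :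
    CentConj S P R := by
  obtain ⟨c, hc, rfl⟩ := h
  obtain ⟨d, hd, rfl⟩ := h'
  exact ⟨d * c, mul_mem hd hc, (map_conj_conj d c P).symm⟩

theorem le_normalizer_map_conj [Finite G] {P : Subgroup G} {c : G} (hc : c ∈ centralizer (S : Set G))
    (hP : S ≤ normalizer (P : Set G)) :
    S ≤ normalizer ((P.map (MulAut.conj c).toMonoidHom : Subgroup G) : Set G) := by
  rw [Signalizer.le_normalizer_iff_conj_mem] at hP ⊢
  intro a ha x hx
  rw [mem_map_conj] at hx ⊢
  have e : c⁻¹ * (a * x * a⁻¹) * c = a * (c⁻¹ * x * c) * a⁻¹ := by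
    have hca : a * c = c * a := hc a ha
    have hca' : c⁻¹ * a = a * c⁻¹ := by rw [eq_mul_inv_iff_mul_eq, mul_assoc, hca]; group
    have hca'' : a⁻¹ * c = c * a⁻¹ := by rw [eq_mul_inv_iff_mul_eq, mul_assoc, ← hca]; group
    simp only [← mul_assoc, hca']
    simp only [mul_assoc, hca'']
  rw [e]
  exact hP a ha _ hx

theorem IsMaxInv.map_conj [Finite G] {P : Subgroup G} (hP : IsMaxInv r S P) {c : G}
    (hc : c ∈ centralizer (S : Set G)) : IsMaxInv r S (P.map (MulAut.conj c).toMonoidHom) := by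
  refine ⟨le_normalizer_map_conj hc hP.1, hP.2.1.map _, fun R hR hRp hle => ?_⟩
  have hle' : P ≤ R.map (MulAut.conj c⁻¹).toMonoidHom := by
    have h := Subgroup.map_mono (f := (MulAut.conj c⁻¹).toMonoidHom) hle
    rwa [map_conj_conj, inv_mul_cancel, map_conj_one] at h
  have h := hP.2.2 _ (le_normalizer_map_conj (inv_mem hc) hR) (hRp.map _) hle'
  rw [← h, map_conj_conj, mul_inv_cancel, map_conj_one]

theorem exists_maxInv_ge [Finite G] {U : Subgroup G} (hU : S ≤ normalizer (U : Set G))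
    (hr : IsPGroup r U) : ∃ P, U ≤ P ∧ IsMaxInv r S P := by
  obtain ⟨P, hle, ⟨h1, h2⟩, hmax⟩ := Finite.exists_le_maximal
    (p := fun R : Subgroup G => S ≤ normalizer (R : Set G) ∧ IsPGroup r R) ⟨hU, hr⟩
  exact ⟨P, hle, h1, h2, fun R hR hRp hPR => le_antisymm (hmax ⟨hR, hRp⟩ hPR) hPR⟩

/-- If two maximal invariant `r`-subgroups through `P₀` are not conjugate under `C(S)`, some such pair has
a largest intersection. -/
theorem exists_max_pair [Finite G] {P0 P Q : Subgroup G} (hP : IsMaxInv r S P) (hQ : IsMaxInv r S Q)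
    (h0P : P0 ≤ P) (h0Q : P0 ≤ Q) (hne : ¬ CentConj S P Q) :
    ∃ P' Q' : Subgroup G, IsMaxInv r S P' ∧ IsMaxInv r S Q' ∧ P0 ≤ P' ⊓ Q' ∧ ¬ CentConj S P' Q' ∧
      ∀ P'' Q'' : Subgroup G, IsMaxInv r S P'' → IsMaxInv r S Q'' → P0 ≤ P'' ⊓ Q'' →
        ¬ CentConj S P'' Q'' → Nat.card (P'' ⊓ Q'' : Subgroup G) ≤ Nat.card (P' ⊓ Q' : Subgroup G) := by
  classical
  let X : Set (Subgroup G × Subgroup G) :=
    {z | IsMaxInv r S z.1 ∧ IsMaxInv r S z.2 ∧ P0 ≤ z.1 ⊓ z.2 ∧ ¬ CentConj S z.1 z.2}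
  obtain ⟨⟨P', Q'⟩, ⟨h1, h2, h3, h4⟩, hmax⟩ := Set.exists_max_image X
    (fun z => Nat.card (z.1 ⊓ z.2 : Subgroup G)) (Set.toFinite X)
    ⟨(P, Q), hP, hQ, le_inf h0P h0Q, hne⟩
  exact ⟨P', Q', h1, h2, h3, h4, fun A B hA hB h0 hn => hmax (A, B) ⟨hA, hB, h0, hn⟩⟩

/-- The normalisers of a largest intersection in the two subgroups are not in one invariant solvable
subgroup of order prime to `|S|`. -/
theorem no_common_overgroup [Finite G] [Fact r.Prime] {P0 P Q H : Subgroup G} (hP : IsMaxInv r S P)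
    (hQ : IsMaxInv r S Q) (h0 : P0 ≤ P ⊓ Q) (hne : ¬ CentConj S P Q)
    (hmax : ∀ P' Q' : Subgroup G, IsMaxInv r S P' → IsMaxInv r S Q' → P0 ≤ P' ⊓ Q' →
      ¬ CentConj S P' Q' → Nat.card (P' ⊓ Q' : Subgroup G) ≤ Nat.card (P ⊓ Q : Subgroup G))
    (hH : S ≤ normalizer (H : Set G)) (hcop : (Nat.card S).Coprime (Nat.card H))
    (hsolv : Group.IsSolvable H)
    (hPH : normalizer ((P ⊓ Q : Subgroup G) : Set G) ⊓ P ≤ H)
    (hQH : normalizer ((P ⊓ Q : Subgroup G) : Set G) ⊓ Q ≤ H) : False := by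
  set I := P ⊓ Q with hI
  have hIS : S ≤ normalizer (I : Set G) := Signalizer.le_normalizer_inf hP.1 hQ.1
  have hNP : S ≤ normalizer ((normalizer (I : Set G) ⊓ P : Subgroup G) : Set G) :=
    Signalizer.le_normalizer_inf (hIS.trans le_normalizer) hP.1
  have hNQ : S ≤ normalizer ((normalizer (I : Set G) ⊓ Q : Subgroup G) : Set G) :=
    Signalizer.le_normalizer_inf (hIS.trans le_normalizer) hQ.1
  obtain ⟨P1, hP1, hP1S⟩ := CoprimeAct.exists_invariant_sylow_ge hH hcop (Or.inr hsolv) hPH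
    (hP.2.1.to_le inf_le_right) hNP
  obtain ⟨Q1, hQ1, hQ1S⟩ := CoprimeAct.exists_invariant_sylow_ge hH hcop (Or.inr hsolv) hQH
    (hQ.2.1.to_le inf_le_right) hNQ
  obtain ⟨c, hc, hcQ⟩ := CoprimeAct.invariant_sylow_conj hH hcop (Or.inr hsolv) Q1 P1 hQ1S hP1S
  obtain ⟨M, hM, hMmax⟩ := exists_maxInv_ge hP1S (P1.isPGroup'.map H.subtype)
  have hQM : (normalizer (I : Set G) ⊓ Q).map (MulAut.conj (c : G)).toMonoidHom ≤ M := by
    rintro _ ⟨y, hy, rfl⟩
    obtain ⟨z, hz, rfl⟩ := hQ1 hy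
    refine hM ⟨c * z * c⁻¹, ?_, by simp⟩
    rw [← hcQ]
    exact ⟨z, hz, by simp⟩
  set M' := M.map (MulAut.conj (c : G)⁻¹).toMonoidHom with hM'
  have hM'max : IsMaxInv r S M' := hMmax.map_conj (inv_mem hc)
  have hQM' : normalizer (I : Set G) ⊓ Q ≤ M' := by
    have h := Subgroup.map_mono (f := (MulAut.conj (c : G)⁻¹).toMonoidHom) hQM
    rwa [map_conj_conj, inv_mul_cancel, map_conj_one] at h
  have key : ∀ A B : Subgroup G, IsMaxInv r S A → IsMaxInv r S B → I ≤ A → I ≠ A →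
      normalizer (I : Set G) ⊓ A ≤ B → CentConj S A B := by
    intro A B hA hB hIA hIne hle
    by_contra hn
    have h1 := hmax A B hA hB
      (le_inf (h0.trans hIA) (h0.trans ((le_inf le_normalizer hIA).trans hle))) hn
    have h2 : normalizer (I : Set G) ⊓ A ≤ I := by
      have h3 : I ≤ A ⊓ B := le_inf hIA ((le_inf le_normalizer hIA).trans hle)
      rw [eq_of_le_of_card_ge h3 h1]
      exact le_inf inf_le_right (eq_of_le_of_card_ge h3 h1 ▸ hle)
    exact Signalizer.normalizer_inf_not_le hA.2.1 hIA hIne h2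
  have hIP : I ≠ P := fun h => hne (by
    have : P ≤ Q := h ▸ inf_le_right
    rw [← hP.2.2 Q hQ.1 hQ.2.1 this]
    exact CentConj.refl S Q)
  have hIQ : I ≠ Q := fun h => hne (by
    have : Q ≤ P := h ▸ inf_le_left
    rw [hQ.2.2 P hP.1 hP.2.1 this]
    exact CentConj.refl S Q)
  refine hne ((key P M hP hMmax inf_le_left hIP (hP1.trans hM)).trans ?_)
  refine CentConj.trans ?_ (key Q M' hQ hM'max inf_le_right hIQ hQM').symm
  exact ⟨(c : G)⁻¹, inv_mem hc, rfl⟩

end Cfsg.Agent.Walter8
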