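import Cfsg.Agent.Lib.Walter8.Hom
import Cfsg.Agent.Lib.Walter8.Pair
import Cfsg.Agent.Lib.SEBrick.Common

/-!
The signalizer theorem: one line and the torus Sylow property give balance on inverted elements.

A bad element leads, through the climb, to a Sylow `r`-subgroup `P` with a mover at `t` in
`N(Z(J(P)))`. Two maximal `S`-invariant `r`-subgroups through a Sylow subgroup of `O(C(⟨t, b⟩))` with a
largest intersection then give a second such Sylow subgroup with its point off the line of the bad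
element, and the two sets of lines clash.
-/

set_option autoImplicit false
set_option linter.style.haveILetI false
set_option linter.unusedSectionVars false

namespace Cfsg.Agent.Walter8

open Subgroup
open Cfsg.Agent.ClosedAbelian (core core_le core_odd core_normalized le_core mem_of_sq_mem)

universe u

variable {G : Type u} [Group G] [Finite G] {S : Subgroup G}

/-- A point of the line `⟨t, b⟩`. -/
def OnLine (t b p : G) : Prop := p = t ∨ p = b ∨ p = t * b

theorem normalizer_map_conj (g : G) (X : Subgroup G) :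
    (normalizer (X : Set G)).map (MulAut.conj g).toMonoidHom =
      normalizer ((X.map (MulAut.conj g).toMonoidHom : Subgroup G) : Set G) :=
  Subgroup.map_equiv_normalizer_eq X (MulAut.conj g)

theorem zJ_conj (r : ℕ) (g : G) (P : Subgroup G) :
    (normalizer (ZJ.zJ r False P : Set G)).map (MulAut.conj g).toMonoidHom =
      normalizer (ZJ.zJ r False (P.map (MulAut.conj g).toMonoidHom) : Set G) := by
  rw [normalizer_map_conj, ZJ.zJ_map _ (MulAut.conj g).injective.injOn]

/-- Two subgroups containing `S` in their normalisers and conjugate are conjugate under `N(S)`. -/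
theorem Eight.exists_conj_N (hE : Eight S) {A B : Subgroup G} (hSA : S ≤ normalizer (A : Set G))
    (hSB : S ≤ normalizer (B : Set G)) {g : G} (h : A.map (MulAut.conj g).toMonoidHom = B) :
    ∃ n ∈ normalizer (S : Set G), A.map (MulAut.conj n).toMonoidHom = B := by
  haveI : Fact (Nat.Prime 2) := ⟨Nat.prime_two⟩
  set M := normalizer (B : Set G) with hM
  have hle : S.map (MulAut.conj g).toMonoidHom ≤ M := by
    rintro _ ⟨s, hs, rfl⟩
    rw [hM, ← h, ← normalizer_map_conj]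
    exact ⟨s, hSA hs, rfl⟩
  let T : Sylow 2 M :=
    (hE.isTwo.comap_subtype : IsPGroup 2 (S.subgroupOf M)).toSylow (hE.relIndex_odd hSB)
  obtain ⟨d, hd, hdle⟩ := LESylow.exists_conj_le_of_le hle (hE.isTwo.map _) T
  have hT : (T : Subgroup M).map M.subtype = S := map_subgroupOf_eq_of_le hSB
  rw [hT, LEBasic.map_conj_map_conj] at hdle
  refine ⟨d * g, LEBasic.map_conj_eq_iff_mem_normalizer.1
    (eq_of_le_of_card_ge hdle (LEBasic.card_map_conj _ _).ge), ?_⟩
  rw [← LEBasic.map_conj_map_conj, h]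
  exact LEBasic.map_conj_eq_iff_mem_normalizer.2 hd

variable (hE : Eight S)
include hE

theorem Eight.onLine_mem {t b p : G} (ht : t ∈ S) (ht1 : t ≠ 1) (hb : b ∈ S) (hb1 : b ≠ 1)
    (hbt : b ≠ t) (hp : OnLine t b p) : p ∈ S ∧ p ≠ 1 := by
  rcases hp with h | h | h <;> rw [h]
  · exact ⟨ht, ht1⟩
  · exact ⟨hb, hb1⟩
  · refine ⟨mul_mem ht hb, fun e => hbt ?_⟩
    rw [mul_eq_one_iff_inv_eq, hE.inv_eq ht] at e; exact e.symm

/-- Two points of a line generate it. -/
theorem Eight.onLine_comm {t b p q x : G} (ht : t ∈ S) (hb : b ∈ S) (hp : OnLine t b p)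
    (hq : OnLine t b q) (hqp : q ≠ p) (hxp : x * p = p * x) (hxq : x * q = q * x) :
    x * t = t * x ∧ x * b = b * x := by
  have c1 : Commute x p := hxp
  have c2 : Commute x q := hxq
  have c3 := c1.mul_right c2
  have st := hE.sq t ht
  have sb := hE.sq b hb
  rcases hp with h | h | h <;> rcases hq with g | g | g <;> rw [h] at hqp c1 c3 <;>
    rw [g] at hqp c2 c3
  · exact absurd rfl hqp
  · exact ⟨c1.eq, c2.eq⟩
  · exact ⟨c1.eq, by rw [← mul_assoc, st, one_mul] at c3; exact c3.eq⟩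
  · exact ⟨c2.eq, c1.eq⟩
  · exact absurd rfl hqp
  · refine ⟨?_, c1.eq⟩
    rw [hE.scomm ht hb, ← mul_assoc, sb, one_mul] at c3
    exact c3.eq
  · refine ⟨c2.eq, ?_⟩
    rw [hE.scomm ht hb, mul_assoc, st, mul_one] at c3
    exact c3.eq
  · refine ⟨?_, c2.eq⟩
    rw [mul_assoc, sb, mul_one] at c3
    exact c3.eq
  · exact absurd rfl hqp

/-- `S` normalises the powers of an inverted element of a line. -/
theorem Eight.normalizer_zpowers {a b x : G} (ha : a ∈ S) (ha1 : a ≠ 1) (hb : b ∈ S) (hb1 : b ≠ 1)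
    (hba : b ≠ a) (h : Tor S a b x) : S ≤ normalizer (zpowers x : Set G) := by
  intro s hs
  rw [← LEBasic.map_conj_eq_iff_mem_normalizer]
  refine eq_of_le_of_card_ge ?_ (LEBasic.card_map_conj _ _).ge
  rw [MonoidHom.map_zpowers, zpowers_le]
  rcases hE.dich ha ha1 hb hb1 hba h.2.2.2.1 h.ne h.1 h.2.1 h.2.2.1 hs with ⟨-, e⟩ | ⟨e, -⟩
  · show s * x * s⁻¹ ∈ _
    rw [e]; exact mem_zpowers x
  · show s * x * s⁻¹ ∈ _
    rw [e]; exact inv_mem (mem_zpowers x)

/-- A prime power part of a bad element is bad. -/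
theorem Eight.exists_bad_pgroup {t b x : G} (h : Bad S t b x) :
    ∃ r : ℕ, r.Prime ∧ ∃ x' : G, Bad S t b x' ∧ ∃ k, orderOf x' = r ^ k := by
  classical
  have hex : ∃ n, 0 < n ∧ x ^ n ∈ core (cen b) :=
    ⟨orderOf x, orderOf_pos x, by rw [pow_orderOf_eq_one]; exact one_mem _⟩
  set m0 := Nat.find hex with hm0
  obtain ⟨hm0p, hm0m⟩ := Nat.find_spec hex
  have hdvd : ∀ m : ℕ, x ^ m ∈ core (cen b) → m0 ∣ m := by
    intro m hm
    rw [Nat.dvd_iff_mod_eq_zero]
    by_contra hne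
    refine Nat.find_min hex (Nat.mod_lt m hm0p) ⟨Nat.pos_of_ne_zero hne, ?_⟩
    have e : x ^ m = (x ^ m0) ^ (m / m0) * x ^ (m % m0) := by
      rw [← pow_mul, ← pow_add, Nat.div_add_mod]
    rw [e] at hm
    exact (mul_mem_cancel_left (pow_mem hm0m _)).1 hm
  have hm1 : m0 ≠ 1 := fun e => h.2.2.2.2.2 (by rw [← hm0, e, pow_one] at hm0m; exact hm0m)
  obtain ⟨r, hr, hrd⟩ := Nat.exists_prime_and_dvd hm1
  haveI := Fact.mk hr
  set n := orderOf x with hn
  set m := n / r ^ n.factorization r with hm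
  have hmr : ¬ r ∣ m := Nat.not_dvd_ordCompl hr (orderOf_pos x).ne'
  refine ⟨r, hr, x ^ m, ⟨pow_mem h.1 _, ?_, ?_, ?_, ?_, ?_⟩, ?_⟩
  · exact (Commute.pow_left h.2.1 m).eq
  · exact (Commute.pow_left h.2.2.1 m).eq
  · obtain ⟨u, hu, e⟩ := h.2.2.2.1
    exact ⟨u, hu, by rw [← conj_pow, e, inv_pow]⟩
  · exact Odd.of_dvd_nat h.2.2.2.2.1 (orderOf_pow_dvd m)
  · exact fun e => hmr (hrd.trans (hdvd m e))
  · obtain ⟨k, -, hk⟩ := (Nat.dvd_prime_pow hr).1 (show orderOf (x ^ m) ∣ r ^ n.factorization r from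
      orderOf_dvd_of_pow_eq_one (by
        rw [← pow_mul, hm, mul_comm, Nat.ordProj_mul_ordCompl_eq_self, hn, pow_orderOf_eq_one]))
    exact ⟨k, hk⟩

omit hE in
/-- Choose the bad line with `b` on the hyperplane of `t`. -/
theorem Eight.exists_bad_inV (hE : Eight S) {t b x : G} (ht : t ∈ S) (ht1 : t ≠ 1) (hb : b ∈ S)
    (hb1 : b ≠ 1) (hbt : b ≠ t) (h : Bad S t b x) :
    ∃ t' b' x', t' ∈ S ∧ t' ≠ 1 ∧ b' ∈ S ∧ b' ≠ 1 ∧ b' ≠ t' ∧ InV S t' b' ∧ Bad S t' b' x' := by
  obtain ⟨y, hy, hyt, hyC⟩ := hE.moves t ht ht1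
  rcases hE.inV_or ht ht1 hy hyt hyC hb hb1 hbt with hV | hV
  · exact ⟨t, b, x, ht, ht1, hb, hb1, hbt, hV, h⟩
  obtain ⟨htb, htb1⟩ := hE.onLine_mem ht ht1 hb hb1 hbt (p := t * b) (Or.inr (Or.inr rfl))
  have htbt : t * b ≠ t := fun e => hb1 (mul_eq_left.1 e)
  have hxtb : x * (t * b) = (t * b) * x := ((show Commute x t from h.2.2.1).mul_right h.2.1).eq
  by_cases hc : x ∈ core (cen (t * b))
  · refine ⟨t * b, b, x, htb, htb1, hb, hb1, fun e => ht1 (mul_eq_right.1 e.symm), ?_, hc,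
      h.2.1, hxtb, h.2.2.2⟩
    obtain ⟨s, y', hs, hs1, hy', hys, hyC', hst, hcy⟩ := hE.exists_cycle ht ht1 hb hb1 hbt
    rcases hE.cycle_orbit hs hs1 hy' hys hyC' hst ht hcy with ⟨o1, o2, o3⟩ | ⟨o1, o2, o3⟩
    · have h1 := hE.inV_conj hy' (hE.inV_conj hy' hV)
      rwa [o1, o2, o3, o1] at h1
    · have h1 := hE.inV_conj hy' hV
      rwa [o1, o2] at h1
  · exact ⟨t, t * b, x, ht, ht1, htb, htb1, htbt, hV, h.1, hxtb, h.2.2.1, h.2.2.2.1, h.2.2.2.2.1, hc⟩

omit hE in
/-- The core of the proof: there is no bad element in a minimal situation. -/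
theorem Min.false_of_bad (hM : Min S) {r : ℕ} [Fact r.Prime] {t b x : G} (ht : t ∈ S) (ht1 : t ≠ 1)
    (hb : b ∈ S) (hb1 : b ≠ 1) (hbt : b ≠ t) (hV : InV S t b) (hbad : Bad S t b x)
    (hxr : ∃ k, orderOf x = r ^ k) : False := by
  haveI : Fact (Nat.Prime 2) := ⟨Nat.prime_two⟩
  have hE := hM.eight
  have hx1 : x ≠ 1 := hbad.2.ne
  have hxt : x * t = t * x := hbad.2.2.1
  have hxb : x * b = b * x := hbad.2.1
  obtain ⟨k0, hk0⟩ := hxr
  obtain ⟨s, y, hs, hs1, hy, hys, hyC, hst, hcyc⟩ := hE.exists_cycle ht ht1 hb hb1 hbt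
  have horb := hE.cycle_orbit hs hs1 hy hys hyC hst ht hcyc
  have hyn : ∀ {p}, OnLine t b p → OnLine t b (y * p * y⁻¹) := by
    intro p hp
    rcases horb with ⟨o1, o2, o3⟩ | ⟨o1, o2, o3⟩ <;> rcases hp with h | h | h <;> rw [h]
    exacts [Or.inr (Or.inl o1), Or.inr (Or.inr o2), Or.inl o3, Or.inr (Or.inr o1), Or.inl o3,
      Or.inr (Or.inl o2)]
  have hmem : ∀ {p}, OnLine t b p → p ∈ S ∧ p ≠ 1 := fun h => hE.onLine_mem ht ht1 hb hb1 hbt h
  -- torus elements at the three points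
  have htor : ∀ {p}, OnLine t b p → ∃ q z, OnLine t b q ∧ q ≠ p ∧ Tor S p q z ∧ orderOf z = r ^ k0 := by
    have h0 : ∃ q z, OnLine t b q ∧ q ≠ b ∧ Tor S b q z ∧ orderOf z = r ^ k0 :=
      ⟨t, x, Or.inl rfl, hbt.symm, hbad.2, hk0⟩
    have step : ∀ {p}, (∃ q z, OnLine t b q ∧ q ≠ p ∧ Tor S p q z ∧ orderOf z = r ^ k0) →
        ∃ q z, OnLine t b q ∧ q ≠ y * p * y⁻¹ ∧ Tor S (y * p * y⁻¹) q z ∧ orderOf z = r ^ k0 := by
      rintro p ⟨q, z, hq, hqp, hz, hzo⟩
      exact ⟨y * q * y⁻¹, y * z * y⁻¹, hyn hq, fun e => hqp (conj_cancel e), hz.conj hy,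
        (orderOf_cj y z).trans hzo⟩
    intro p hp
    rcases horb with ⟨o1, o2, o3⟩ | ⟨o1, o2, o3⟩
    · rcases hp with h | h | h <;> rw [h]
      · have := step (step h0); rwa [o2, o3] at this
      · exact h0
      · have := step h0; rwa [o2] at this
    · rcases hp with h | h | h <;> rw [h]
      · have := step h0; rwa [o3] at this
      · exact h0
      · have := step (step h0); rwa [o3, o1] at this
  set D := dee t b with hD
  have hSD : S ≤ normalizer (D : Set G) :=
    (le_inf (hE.le_cenS ht) (hE.le_cenS hb)).trans (core_normalized _)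
  have hDodd : ¬ 2 ∣ Nat.card D := core_odd _
  have hxD : x ∈ D := hE.mem_dee ht ht1 hb hb1 hbt hxt hxb hbad.2.2.2.2.1
  have hxP : IsPGroup r (zpowers x) := LESylow.isPGroup_zpowers hk0
  -- the Sylow subgroup `P0` of `D`
  obtain ⟨S0, hxS0, hS0S⟩ := CoprimeAct.exists_invariant_sylow_ge hSD (hE.coprime_odd hDodd)
    (Or.inl hE.solvable) (zpowers_le.2 hxD) hxP (hE.normalizer_zpowers hb hb1 ht ht1 hbt.symm hbad.2)
  set P0 := (S0 : Subgroup D).map D.subtype with hP0
  have hxP0 : x ∈ P0 := hxS0 (mem_zpowers x)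
  have hP0D : P0 ≤ D := map_subtype_le _
  have hP0p : IsPGroup r P0 := S0.isPGroup'.map _
  have htor0 : ∀ {p}, OnLine t b p → ∃ q z, OnLine t b q ∧ q ≠ p ∧ Tor S p q z ∧ z ∈ P0 := by
    intro p hp
    obtain ⟨q, z, hq, hqp, hz, hzo⟩ := htor hp
    obtain ⟨hpS, hp1⟩ := hmem hp
    obtain ⟨hqS, hq1⟩ := hmem hq
    obtain ⟨c1, c2⟩ := hE.onLine_comm ht hb hp hq hqp hz.1 hz.2.1
    have hzD : z ∈ D := hE.mem_dee ht ht1 hb hb1 hbt c1 c2 hz.2.2.2.1
    obtain ⟨S1, hzS1, hS1S⟩ := CoprimeAct.exists_invariant_sylow_ge hSD (hE.coprime_odd hDodd)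
      (Or.inl hE.solvable) (zpowers_le.2 hzD) (LESylow.isPGroup_zpowers hzo)
      (hE.normalizer_zpowers hpS hp1 hqS hq1 hqp hz)
    obtain ⟨c, hc, hcS⟩ := CoprimeAct.invariant_sylow_conj hSD (hE.coprime_odd hDodd)
      (Or.inl hE.solvable) S1 S0 hS1S hS0S
    refine ⟨q, (c : G) * z * (c : G)⁻¹, hq, hqp, ?_, ?_⟩
    · have h1 := hz.conj (centralizer_le_normalizer _ hc)
      rwa [comm_iff_conj.1 (mem_centralizer_iff.1 hc p hpS).symm,
        comm_iff_conj.1 (mem_centralizer_iff.1 hc q hqS).symm] at h1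
    · obtain ⟨w, hw, hwz⟩ := hzS1 (mem_zpowers z)
      refine ⟨c * w * c⁻¹, ?_, by simp [show (w : G) = z from hwz]⟩
      rw [← hcS]
      exact ⟨w, hw, by simp⟩
  -- the first climb
  have hdle : D ≤ cen t := (core_le _).trans inf_le_left
  set U0 := P0 ⊔ core (cen t) with hU0
  have hU0c : U0 ≤ cen t := sup_le (hP0D.trans hdle) (core_le _)
  have hr2 : r ≠ 2 := by
    rintro rfl
    exact hx1 ((ClosedAbelian.TwoEl.eq_one_of_odd ⟨k0, by rw [← hk0, pow_orderOf_eq_one]⟩)
      hbad.2.2.2.2.1)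
  have hU0odd : ¬ 2 ∣ Nat.card U0 :=
    ClosedAbelian.sup_core_odd (hP0D.trans hdle) (odd_pgroup hr2 hP0p)
  have hSU0 : S ≤ normalizer (U0 : Set G) := fun v hv => normalizer_inf_normalizer_le_normalizer_sup
    _ _ ⟨hS0S hv, core_normalized _ (hE.le_cenS ht hv)⟩
  obtain ⟨S2, hP02, hS2S⟩ := CoprimeAct.exists_invariant_sylow_ge hSU0 (hE.coprime_odd hU0odd)
    (Or.inl hE.solvable) (le_sup_left : P0 ≤ U0) hP0p hS0S
  set P00 := (S2 : Subgroup U0).map U0.subtype with hP00
  set R0 := P00 ⊓ core (cen t) with hR0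
  have hxR0 : x ∈ R0 := ⟨hP02 hxP0, hbad.1⟩
  have hR0p : IsPGroup r R0 := (S2.isPGroup'.map _).to_le inf_le_left
  have hSR0 : S ≤ normalizer (R0 : Set G) :=
    Signalizer.le_normalizer_inf hS2S ((hE.le_cenS ht).trans (core_normalized _))
  set N := normalizer (R0 : Set G) with hN
  have hNtop : N ≠ ⊤ := hM.normalizer_ne_top (odd_pgroup hr2 hR0p)
    fun e => hx1 (mem_bot.1 (e ▸ hxR0))
  have hP0N : P0 ≤ N := Signalizer.le_normalizer_inf (hP02.trans le_normalizer)
    ((hP0D.trans hdle).trans (core_normalized _))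
  have hRidx : ¬ r ∣ R0.relIndex (core (cen t)) := fun hd => by
    have h1 : R0.relIndex (core (cen t)) ∣ P00.relIndex U0 :=
      relIndex_inf_dvd (map_subtype_le _) le_sup_right (hU0c.trans (core_normalized _))
    have e : P00.relIndex U0 = (S2 : Subgroup U0).index := by
      rw [hP00, relIndex, subgroupOf, comap_map_eq_self_of_injective U0.subtype_injective]
    exact S2.not_dvd_index (e ▸ hd.trans h1)
  let RS : Sylow r (core (cen t)) :=
    (hR0p.comap_subtype : IsPGroup r (R0.subgroupOf (core (cen t)))).toSylow hRidx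
  have hmov : HasMover S N t := by
    obtain ⟨v, hv, hvt, hvC⟩ := hE.moves t ht ht1
    have hvc : v ∈ cen t := mem_centralizer_singleton_iff.2 hvt
    obtain ⟨k, hk, hkv⟩ := IsolatedP.exists_mul_normalizer RS (core_normalized _ hvc)
    rw [show (RS : Subgroup (core (cen t))).map (core (cen t)).subtype = R0 from
      map_subgroupOf_eq_of_le inf_le_right] at hkv
    set M := cen t ⊓ N with hMdef
    have hkM : k⁻¹ * v ∈ M := mem_inf.2 ⟨mul_mem (inv_mem (core_le _ hk)) hvc, hkv⟩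
    have hSM : S ≤ M := le_inf (hE.le_cenS ht) hSR0
    obtain ⟨w, hwM, hw, hwe⟩ := hE.exists_fix (O := core (cen t) ⊓ M) hSM inf_le_right
      (Signalizer.le_normalizer_inf (inf_le_left.trans (core_normalized _)) le_normalizer)
      (fun hd => core_odd _ (hd.trans (card_dvd_of_le inf_le_left))) hkM hv fun z hz => by
        refine mem_inf.2 ⟨?_, ?_⟩
        · rw [show k⁻¹ * v * z * (k⁻¹ * v)⁻¹ * (v * z * v⁻¹)⁻¹ =
            k⁻¹ * ((v * z * v⁻¹) * k * (v * z * v⁻¹)⁻¹) by group]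
          exact mul_mem (inv_mem hk) (ClosedAbelian.conj_mem_core (hE.le_cenS ht (conj_mem hv hz)) hk)
        · exact mul_mem (mul_mem (mul_mem hkM (hSM hz)) (inv_mem hkM)) (inv_mem (hSM (conj_mem hv hz)))
    refine ⟨w, hwM.2, hw, mem_centralizer_singleton_iff.1 hwM.1, fun hc => hvC ?_⟩
    exact mem_centralizer_iff.2 fun z hz => (comm_iff_conj.2 ((hwe z hz).symm.trans
      (comm_iff_conj.1 (mem_centralizer_iff.1 hc z hz).symm))).symm
  obtain ⟨q0, z0, hq0, hq0t, hz0, hz0P⟩ := htor0 (p := t) (Or.inl rfl)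
  obtain ⟨hq0S, hq01⟩ := hmem hq0
  have hseed0 : Seed S r t t b x P0 :=
    { ha := ht, ha1 := ht1, ht := ht, ht1 := ht1, hb := hb, hb1 := hb1, hbt := hbt, bad := hbad
      mem := hxP0, pgroup := hP0p, inv := hS0S, side := Or.inl hbad.1
      torus := ⟨q0, hq0S, hq01, hq0t, z0, hz0P, hz0⟩ }
  obtain ⟨P, hP0P, hPp, hSP, hPidx, hH⟩ := Seed.climb hM hseed0 ⟨hNtop, hSR0, hP0N, hmov⟩
  set H := normalizer (ZJ.zJ r False P : Set G) with hHdef
  have hseedP := Seed.grow hseed0 hP0P hPp hSP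
  have hHiso : Iso S H t := Seed.iso hM hseedP hH
  have hxH : x ∈ core H := Seed.mem_core hM hseedP hH
  have hmaxSyl : ∀ {A : Subgroup G}, IsPGroup r A → ¬ r ∣ A.index → S ≤ normalizer (A : Set G) →
      IsMaxInv r S A := by
    intro A hA hAi hSA
    refine ⟨hSA, hA, fun R _ hR hle => ?_⟩
    exact ((hA.toSylow hAi).is_maximal' hR hle)
  -- the conjugate through `P0` with another centre
  have hyD : y ∈ normalizer (D : Set G) := by
    refine ClosedAbelian.normalizer_le_normalizer_core _ ?_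
    rw [← LEBasic.map_conj_eq_iff_mem_normalizer]
    refine eq_of_le_of_card_ge ?_ (LEBasic.card_map_conj _ _).ge
    rintro _ ⟨v, hv, rfl⟩
    have f : ∀ {p}, OnLine t b p → v * p = p * v := by
      intro p hp
      have c1 : Commute v t := mem_centralizer_singleton_iff.1 hv.1
      have c2 : Commute v b := mem_centralizer_singleton_iff.1 hv.2
      rcases hp with h | h | h <;> rw [h]
      exacts [c1.eq, c2.eq, (c1.mul_right c2).eq]
    have g : ∀ {p}, OnLine t b p → y * v * y⁻¹ * (y * p * y⁻¹) = y * p * y⁻¹ * (y * v * y⁻¹) :=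
      fun {p} hp => by rw [← conj_mul', ← conj_mul', f hp]
    obtain ⟨c1, c2⟩ := hE.onLine_comm ht hb (hyn (Or.inl rfl)) (hyn (Or.inr (Or.inl rfl)))
      (fun e => hbt (conj_cancel e)) (g (Or.inl rfl)) (g (Or.inr (Or.inl rfl)))
    exact ⟨mem_centralizer_singleton_iff.2 c1, mem_centralizer_singleton_iff.2 c2⟩
  obtain ⟨y', hy', hy'e, hy'P0⟩ : ∃ y' ∈ normalizer (S : Set G),
      (∀ v ∈ S, y' * v * y'⁻¹ = y * v * y⁻¹) ∧ P0.map (MulAut.conj y').toMonoidHom = P0 := by
    have hle : P0.map (MulAut.conj y).toMonoidHom ≤ D := by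
      rintro _ ⟨v, hv, rfl⟩
      exact (mem_normalizer_iff.1 hyD v).1 (hP0D hv)
    have hSy : S ≤ normalizer ((P0.map (MulAut.conj y).toMonoidHom : Subgroup G) : Set G) := by
      intro v hv
      rw [← normalizer_map_conj]
      refine ⟨y⁻¹ * v * y, hS0S ?_, ?_⟩
      · have := conj_mem (inv_mem hy) hv
        rwa [inv_inv] at this
      · show y * (y⁻¹ * v * y) * y⁻¹ = v
        group
    obtain ⟨S3, hS3le, hS3S⟩ := CoprimeAct.exists_invariant_sylow_ge hSD (hE.coprime_odd hDodd)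
      (Or.inl hE.solvable) hle (hP0p.map _) hSy
    obtain ⟨c, hc, hcS⟩ := CoprimeAct.invariant_sylow_conj hSD (hE.coprime_odd hDodd)
      (Or.inl hE.solvable) S3 S0 hS3S hS0S
    refine ⟨(c : G) * y, mul_mem (centralizer_le_normalizer _ hc) hy, fun v hv => ?_, ?_⟩
    · rw [← conj_conj, comm_iff_conj.1 (mem_centralizer_iff.1 hc _ (conj_mem hy hv)).symm]
    · refine eq_of_le_of_card_ge ?_ (LEBasic.card_map_conj _ _).ge
      rintro _ ⟨v, hv, rfl⟩
      obtain ⟨w, hw, hwv⟩ := hS3le ⟨v, hv, rfl⟩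
      refine ⟨c * w * c⁻¹, ?_, ?_⟩
      · rw [← hcS]; exact ⟨w, hw, by simp⟩
      · have hwv' : (w : G) = y * v * y⁻¹ := hwv
        show (c : G) * (w : G) * (c : G)⁻¹ = (c : G) * y * v * ((c : G) * y)⁻¹
        rw [hwv', conj_conj]
  set Q := P.map (MulAut.conj y').toMonoidHom with hQ
  have hSQ : S ≤ normalizer (Q : Set G) := by
    intro v hv
    rw [hQ, ← normalizer_map_conj]
    refine ⟨y'⁻¹ * v * y', hSP ?_, ?_⟩
    · have := conj_mem (inv_mem hy') hv
      rwa [inv_inv] at this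
    · show y' * (y'⁻¹ * v * y') * y'⁻¹ = v
      group
  have hQidx : ¬ r ∣ Q.index := by
    have h1 := P.card_mul_index
    rw [← Q.card_mul_index, hQ, LEBasic.card_map_conj] at h1
    rw [hQ, ← Nat.eq_of_mul_eq_mul_left Nat.card_pos h1]
    exact hPidx
  have hPQ : ¬ CentConj S P Q := by
    rintro ⟨c, hc, hcQ⟩
    have hg : c⁻¹ * y' ∈ normalizer (P : Set G) := by
      rw [← LEBasic.map_conj_eq_iff_mem_normalizer, ← LEBasic.map_conj_map_conj, ← hQ, ← hcQ,
        LEBasic.map_conj_map_conj, inv_mul_cancel]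
      exact map_conj_one P
    have h1 := hHiso (c⁻¹ * y') (ZJ.normalizer_le_normalizer_zJ P hg)
      (mul_mem (inv_mem (centralizer_le_normalizer _ hc)) hy')
    have h2 := comm_iff_conj.1 h1
    rw [← conj_conj, comm_iff_conj.1 (mem_centralizer_iff.1 (inv_mem hc) _ (conj_mem hy' ht)).symm,
      hy'e t ht] at h2
    rcases hcyc with e | e <;> rw [h2] at e
    · exact hbt e.symm
    · exact hb1 (mul_eq_left.1 e.symm)
  have hP0Q : P0 ≤ Q := hy'P0.ge.trans (map_mono hP0P)
  obtain ⟨P', Q', hP'm, hQ'm, h0, hne, hmax⟩ := exists_max_pair (hmaxSyl hPp hPidx hSP)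
    (hmaxSyl (hPp.map _) hQidx hSQ) hP0P hP0Q hPQ
  set I := P' ⊓ Q' with hI
  set N1 := normalizer (I : Set G) with hN1
  have hxI : x ∈ I := h0 hxP0
  have hSI : S ≤ normalizer (I : Set G) := Signalizer.le_normalizer_inf hP'm.1 hQ'm.1
  have hIodd : ¬ 2 ∣ Nat.card I := odd_pgroup hr2 (hP'm.2.1.to_le inf_le_left)
  have hN1top : N1 ≠ ⊤ := hM.normalizer_ne_top hIodd fun e => hx1 (mem_bot.1 (e ▸ hxI))
  have hSB : s ≠ b ∧ s ≠ t * b ∧ s ≠ t := by
    have hfix : y * s * y⁻¹ = s := comm_iff_conj.1 hys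
    refine ⟨fun e => ?_, fun e => ?_, fun e => hE.inV_ne hst e.symm⟩ <;> rw [e] at hfix <;>
      rcases horb with ⟨o1, o2, o3⟩ | ⟨o1, o2, o3⟩
    · rw [o2] at hfix; exact ht1 (mul_eq_right.1 hfix)
    · rw [o3] at hfix; exact hbt hfix.symm
    · rw [o3] at hfix; exact hb1 (mul_eq_left.1 hfix.symm)
    · rw [o2] at hfix; exact ht1 (mul_eq_right.1 hfix.symm)
  -- the elements of `N(I)` stabilise the line
  have hN1iso : Iso S N1 s := by
    intro g hgN hg
    by_cases hgC : g ∈ centralizer (S : Set G)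
    · exact (mem_centralizer_iff.1 hgC s hs).symm
    obtain ⟨p, hp, hgp⟩ : ∃ p, OnLine t b p ∧ OnLine t b (g * p * g⁻¹) := by
      by_contra h
      push Not at h
      have f1 := h t (Or.inl rfl)
      have f2 := h b (Or.inr (Or.inl rfl))
      have f3 := h (t * b) (Or.inr (Or.inr rfl))
      rw [conj_mul'] at f3
      have hs0 := hSB
      obtain ⟨htb, -⟩ := hmem (p := t * b) (Or.inr (Or.inr rfl))
      have cases' : ∀ {w}, w ∈ S → w ≠ 1 → ¬ OnLine t b w →
          ∃ w', (w' = 1 ∨ OnLine t b w') ∧ w = w' * s := by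
        intro w hw hw1 hwl
        rcases hE.cases8 ht ht1 hb hb1 hbt hs hs1 hSB.2.2 hSB.1 hSB.2.1 hw with
          e | e | e | e | e | e | e | e
        · exact absurd e hw1
        · exact absurd (Or.inl e) hwl
        · exact absurd (Or.inr (Or.inl e)) hwl
        · exact absurd (Or.inr (Or.inr e)) hwl
        · exact ⟨1, Or.inl rfl, by rw [e, one_mul]⟩
        · exact ⟨t, Or.inr (Or.inl rfl), e⟩
        · exact ⟨b, Or.inr (Or.inr (Or.inl rfl)), e⟩
        · exact ⟨t * b, Or.inr (Or.inr (Or.inr rfl)), e⟩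
      obtain ⟨u1, hu1, e1⟩ := cases' (conj_mem hg ht) (conj_ne_one ht1) f1
      obtain ⟨u2, hu2, e2⟩ := cases' (conj_mem hg hb) (conj_ne_one hb1) f2
      have hu12 : u1 ≠ u2 := fun e => hbt (conj_cancel (e2.trans (by rw [← e, ← e1])))
      have huS : ∀ {w}, (w = 1 ∨ OnLine t b w) → w ∈ S := fun hw =>
        hw.elim (fun e => e ▸ one_mem S) (fun h => (hmem h).1)
      have e3 : g * t * g⁻¹ * (g * b * g⁻¹) = u1 * u2 := by
        rw [e1, e2, mul_assoc, ← mul_assoc s u2 s, hE.scomm hs (huS hu2), mul_assoc u2 s s,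
          hE.sq s hs, mul_one]
      apply f3
      rw [e3]
      have st := hE.sq t ht
      have sb := hE.sq b hb
      rcases hu1 with a1 | a1 | a1 | a1 <;> rcases hu2 with a2 | a2 | a2 | a2 <;>
        first
          | exact absurd (a1.trans a2.symm) hu12
          | rw [a1, a2]
      · exact Or.inl (one_mul t)
      · exact Or.inr (Or.inl (one_mul b))
      · exact Or.inr (Or.inr (one_mul _))
      · exact Or.inl (mul_one t)
      · exact Or.inr (Or.inr rfl)
      · exact Or.inr (Or.inl (by rw [← mul_assoc, st, one_mul]))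
      · exact Or.inr (Or.inl (mul_one b))
      · exact Or.inr (Or.inr (hE.scomm hb ht))
      · exact Or.inl (by rw [hE.scomm ht hb, ← mul_assoc, sb, one_mul])
      · exact Or.inr (Or.inr (mul_one _))
      · exact Or.inr (Or.inl (by rw [hE.scomm ht hb, mul_assoc, st, mul_one]))
      · exact Or.inl (by rw [mul_assoc, sb, mul_one])
    obtain ⟨q, z, hq, hqp, hz, hzP⟩ := htor0 hp
    obtain ⟨q', z', hq', hqp', hz', hzP'⟩ := htor0 hgp
    obtain ⟨hgpS, hgp1⟩ := hmem hgp
    obtain ⟨hq'S, hq'1⟩ := hmem hq'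
    have hgz : g * z * g⁻¹ ∈ I := (mem_normalizer_iff.1 hgN z).1 (h0 hzP)
    have hgq : OnLine t b (g * q * g⁻¹) := by
      rcases hE.one_line hM.one hIodd hSI hgpS hgp1 hq'S hq'1 hqp' (conj_mem hg (hmem hq).1)
        (conj_ne_one (hmem hq).2) (fun e => hqp (conj_cancel e)) (h0 hzP') hgz hz' (hz.conj hg) with e | e
      · exact e ▸ hq'
      · rw [e]
        have st := hE.sq t ht
        have sb := hE.sq b hb
        rcases hgp with a1 | a1 | a1 <;> rcases hq' with a2 | a2 | a2 <;>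
          first
            | exact absurd (a2.trans a1.symm) hqp'
            | rw [a1, a2]
        · exact Or.inr (Or.inr rfl)
        · exact Or.inr (Or.inl (by rw [← mul_assoc, st, one_mul]))
        · exact Or.inr (Or.inr (hE.scomm hb ht))
        · exact Or.inl (by rw [hE.scomm ht hb, ← mul_assoc, sb, one_mul])
        · exact Or.inr (Or.inl (by rw [hE.scomm ht hb, mul_assoc, st, mul_one]))
        · exact Or.inl (by rw [mul_assoc, sb, mul_one])
    have hgline : ∀ {w}, w * t = t * w → w * b = b * w → w * (g * p * g⁻¹) = g * p * g⁻¹ * w := by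
      intro w c1 c2
      have c1' : Commute w t := c1
      have c2' : Commute w b := c2
      rcases hgp with a1 | a1 | a1 <;> rw [a1]
      exacts [c1'.eq, c2'.eq, (c1'.mul_right c2').eq]
    have hall : OnLine t b (g * t * g⁻¹) ∧ OnLine t b (g * b * g⁻¹) := by
      have hmul : ∀ {v w}, OnLine t b v → OnLine t b w → v ≠ w → OnLine t b (v * w) := by
        intro v w hv hw hvw
        have st := hE.sq t ht
        have sb := hE.sq b hb
        rcases hv with a1 | a1 | a1 <;> rcases hw with a2 | a2 | a2 <;>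
          first
            | exact absurd (a1.trans a2.symm) hvw
            | rw [a1, a2]
        · exact Or.inr (Or.inr rfl)
        · exact Or.inr (Or.inl (by rw [← mul_assoc, st, one_mul]))
        · exact Or.inr (Or.inr (hE.scomm hb ht))
        · exact Or.inl (by rw [hE.scomm ht hb, ← mul_assoc, sb, one_mul])
        · exact Or.inr (Or.inl (by rw [hE.scomm ht hb, mul_assoc, st, mul_one]))
        · exact Or.inl (by rw [mul_assoc, sb, mul_one])
      have h3 : OnLine t b (g * (p * q) * g⁻¹) := by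
        rw [conj_mul']; exact hmul hgp hgq fun e => hqp (conj_cancel e).symm
      have st := hE.sq t ht
      have sb := hE.sq b hb
      rcases hp with a1 | a1 | a1 <;> rcases hq with a2 | a2 | a2 <;>
        first
          | exact absurd (a2.trans a1.symm) hqp
          | (rw [a1] at hgp h3; rw [a2] at hgq h3)
      · exact ⟨hgp, hgq⟩
      · rw [← mul_assoc t t b, st, one_mul] at h3; exact ⟨hgp, h3⟩
      · exact ⟨hgq, hgp⟩
      · rw [hE.scomm ht hb, ← mul_assoc b b t, sb, one_mul] at h3; exact ⟨h3, hgp⟩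
      · rw [hE.scomm ht hb, mul_assoc b t t, st, mul_one] at h3; exact ⟨hgq, h3⟩
      · rw [mul_assoc t b b, sb, mul_one] at h3; exact ⟨h3, hgq⟩
    exact hE.stab_line hs hs1 hy hys hyC hst ht ht1 hb hb1 hbt hcyc hg hgC hall.1 hall.2
  -- no torus at `s` in the normalisers
  have hfin : ∀ {A : Subgroup G}, A ≤ N1 → IsPGroup r A → S ≤ normalizer (A : Set G) → x ∈ A →
      HasMover S N1 s → ∀ {d z}, d ∈ S → d ≠ 1 → d ≠ s → z ∈ A → Tor S s d z → False := by
    intro A hAN hA hSA hxA hmov1 d z hd hd1 hds hzA hzT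
    have hside : s * x * s⁻¹ = x⁻¹ := by
      rcases hE.dich ht ht1 hb hb1 hbt hbad.2.2.2.2.1 hx1 hxt hxb hbad.2.2.2.1 hs with ⟨e, -⟩ | ⟨e, -⟩
      · rcases e with e | e | e | e
        exacts [absurd e hs1, absurd e hSB.2.2, absurd e hSB.1, absurd e hSB.2.1]
      · exact e
    have hseed1 : Seed S r s t b x A :=
      { ha := hs, ha1 := hs1, ht := ht, ht1 := ht1, hb := hb, hb1 := hb1, hbt := hbt, bad := hbad
        mem := hxA, pgroup := hA, inv := hSA, side := Or.inr hside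
        torus := ⟨d, hd, hd1, hds, z, hzA, hzT⟩ }
    obtain ⟨P1, hAP1, hP1p, hSP1, hP1idx, hH1⟩ := Seed.climb hM hseed1 ⟨hN1top, hSI, hAN, hmov1⟩
    set H1 := normalizer (ZJ.zJ r False P1 : Set G) with hH1def
    have hseedP1 := Seed.grow hseed1 hAP1 hP1p hSP1
    have hx1H : x ∈ core H1 := Seed.mem_core hM hseedP1 hH1
    have hH1iso : Iso S H1 s := Seed.iso hM hseedP1 hH1
    obtain ⟨y1, hy1H, hy1, hy1s, hy1C⟩ := hH1.2.2.2
    -- torus elements of the line at its three points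
    have hcore : ∀ {p}, OnLine t b p → ∃ q w, OnLine t b q ∧ q ≠ p ∧ Tor S p q w ∧ w ∈ core H1 := by
      obtain ⟨k, hkH, hke⟩ : ∃ k, k ∈ H1 ∧ k ∈ normalizer (S : Set G) ∧
          ∀ v ∈ S, k * v * k⁻¹ = y * v * y⁻¹ := by
        rcases hE.mover_pow hs hs1 hy hys hyC hy1 hy1s hy1C with h | h
        · refine ⟨y1, hy1H, hy1, fun v hv => ?_⟩
          calc y1 * v * y1⁻¹ = y * (y⁻¹ * y1 * v * (y⁻¹ * y1)⁻¹) * y⁻¹ := by group
            _ = _ := by rw [comm_iff_conj.1 (mem_centralizer_iff.1 h v hv).symm]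
        · refine ⟨y1 * y1, mul_mem hy1H hy1H, mul_mem hy1 hy1, fun v hv => ?_⟩
          have e : ∀ {w}, w ∈ S → y1 * w * y1⁻¹ = y * (y * w * y⁻¹) * y⁻¹ := fun {w} hw => by
            calc y1 * w * y1⁻¹ = y * (y * ((y * y)⁻¹ * y1 * w * ((y * y)⁻¹ * y1)⁻¹) * y⁻¹) * y⁻¹ := by
                  group
              _ = _ := by rw [comm_iff_conj.1 (mem_centralizer_iff.1 h w hw).symm]
          rw [← conj_conj, e hv, e (conj_mem hy (conj_mem hy hv))]
          by_cases hv1 : v = 1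
          · rw [hv1]; group
          by_cases hvs : v = s
          · rw [hvs, comm_iff_conj.1 hys, comm_iff_conj.1 hys, comm_iff_conj.1 hys, comm_iff_conj.1 hys]
          · rw [(hE.orbit hs hs1 hy hys hyC hv hv1 hvs).2]
      obtain ⟨hk, hke⟩ := hke
      have step : ∀ {p}, OnLine t b p →
          (∃ q w, OnLine t b q ∧ q ≠ p ∧ Tor S p q w ∧ w ∈ core H1) →
          ∃ q w, OnLine t b q ∧ q ≠ y * p * y⁻¹ ∧ Tor S (y * p * y⁻¹) q w ∧ w ∈ core H1 := by
        rintro p hp ⟨q, w, hq, hqp, hw, hwc⟩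
        have h1 := hw.conj hk
        rw [hke p (hmem hp).1, hke q (hmem hq).1] at h1
        exact ⟨y * q * y⁻¹, k * w * k⁻¹, hyn hq, fun e => hqp (conj_cancel e), h1,
          ClosedAbelian.conj_mem_core hkH hwc⟩
      have h0 : ∃ q w, OnLine t b q ∧ q ≠ b ∧ Tor S b q w ∧ w ∈ core H1 :=
        ⟨t, x, Or.inl rfl, hbt.symm, hbad.2, hx1H⟩
      intro p hp
      rcases horb with ⟨o1, o2, o3⟩ | ⟨o1, o2, o3⟩
      · rcases hp with h | h | h <;> rw [h]
        · have := step (hyn (Or.inr (Or.inl rfl))) (step (Or.inr (Or.inl rfl)) h0); rwa [o2, o3] at this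
        · exact h0
        · have := step (Or.inr (Or.inl rfl)) h0; rwa [o2] at this
      · rcases hp with h | h | h <;> rw [h]
        · have := step (Or.inr (Or.inl rfl)) h0; rwa [o3] at this
        · exact h0
        · have := step (hyn (Or.inr (Or.inl rfl))) (step (Or.inr (Or.inl rfl)) h0); rwa [o3, o1] at this
    -- the transported system
    obtain ⟨g0, hg0⟩ := LESylow.exists_conj_eq (hPp.toSylow hPidx) (hP1p.toSylow hP1idx)
    obtain ⟨g, hg, hgP⟩ := hE.exists_conj_N hSP hSP1 (g := g0) hg0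
    have hHg : H.map (MulAut.conj g).toMonoidHom = H1 := by rw [hHdef, hH1def, zJ_conj, hgP]
    obtain ⟨yt, hytH, hyt, hytt, hytC⟩ := hH.2.2.2
    have hgt : g * t * g⁻¹ = s := by
      by_contra hne'
      have hmem' : g * yt * g⁻¹ ∈ H1 := hHg ▸ ⟨yt, hytH, rfl⟩
      have hN' : g * yt * g⁻¹ ∈ normalizer (S : Set G) := mul_mem (mul_mem hg hyt) (inv_mem hg)
      have h1 := hH1iso _ hmem' hN'
      have h2 : g * yt * g⁻¹ * (g * t * g⁻¹) = g * t * g⁻¹ * (g * yt * g⁻¹) := by
        rw [← conj_mul', ← conj_mul', hytt]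
      have h3 := hE.mem_centralizer_of_two hN' hs hs1 (conj_mem hg ht) (conj_ne_one ht1) hne' h1 h2
      refine hytC (mem_centralizer_iff.2 fun v hv => ?_)
      have := mem_centralizer_iff.1 h3 (g * v * g⁻¹) (conj_mem hg hv)
      rw [← conj_mul', ← conj_mul'] at this
      exact conj_cancel this
    have hgb : InV S s (g * b * g⁻¹) := hgt ▸ hE.inV_conj hg hV
    have hgbL : OnLine t b (g * b * g⁻¹) := by
      have hinV : ∀ {p}, OnLine t b p → InV S s p := by
        have h1 := hE.inV_conj hy hst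
        have h2 := hE.inV_conj hy h1
        rw [comm_iff_conj.1 hys] at h1 h2
        rw [comm_iff_conj.1 hys] at h2
        intro p hp
        rcases horb with ⟨o1, o2, o3⟩ | ⟨o1, o2, o3⟩
        · rw [o1] at h1 h2; rw [o2] at h2
          rcases hp with h | h | h <;> rw [h]
          exacts [hst, h1, h2]
        · rw [o1] at h1 h2; rw [o2] at h2
          rcases hp with h | h | h <;> rw [h]
          exacts [hst, h2, h1]
      have hno : ∀ {p}, OnLine t b p → g * b * g⁻¹ ≠ p * s := by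
        intro p hp e
        obtain ⟨hpS, -⟩ := hmem hp
        have h1 := hE.inV_prod hs hs1 hy hys hyC (e ▸ hgb)
        have h2 := hE.inV_prod hs hs1 hy hys hyC (hinV hp)
        rw [conj_mul', conj_mul', comm_iff_conj.1 hys, comm_iff_conj.1 hys] at h1
        set p' := y * p * y⁻¹
        set p'' := y * p' * y⁻¹
        have hp' : p' ∈ S := conj_mem hy hpS
        refine hs1 ?_
        calc s = p * p' * p'' * (s * (s * s)) := by rw [h2, hE.sq s hs, mul_one, one_mul]
          _ = p * s * (p' * s) * (p'' * s) := by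
              rw [← mul_assoc (p * s) p' s, mul_assoc p s p', hE.scomm hs hp', ← mul_assoc p p' s,
                mul_assoc (p * p') s s, mul_assoc (p * p') p'' _, hE.sq s hs, mul_one, mul_one,
                ← mul_assoc (p * p') p'' s]
          _ = 1 := h1
      rcases hE.cases8 ht ht1 hb hb1 hbt hs hs1 hSB.2.2 hSB.1 hSB.2.1 hgb.1 with
        e | e | e | e | e | e | e | e
      · exact absurd e hgb.2.1
      · exact Or.inl e
      · exact Or.inr (Or.inl e)
      · exact Or.inr (Or.inr e)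
      · exact absurd e (hE.inV_ne hgb)
      · exact absurd e (hno (Or.inl rfl))
      · exact absurd e (hno (Or.inr (Or.inl rfl)))
      · exact absurd e (hno (Or.inr (Or.inr rfl)))
    have hgx : g * x * g⁻¹ ∈ core H1 := by
      rw [← hHg]
      exact ClosedAbelian.conj_core_le H g ⟨x, hxH, rfl⟩
    have hgxT : Tor S (g * b * g⁻¹) s (g * x * g⁻¹) := hgt ▸ hbad.2.conj hg
    obtain ⟨q, w, hq, hqg, hw, hwc⟩ := hcore hgbL
    obtain ⟨hgbS, hgb1⟩ := hmem hgbL
    obtain ⟨hqS, hq1⟩ := hmem hq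
    rcases hE.one_line hM.one (core_odd H1) (hH1.2.1.trans (core_normalized H1)) hgbS hgb1 hqS hq1
      hqg hs hs1 (hE.inV_ne hgb).symm hwc hgx hw hgxT with e | e
    · exact (hq.elim (fun h => hSB.2.2 (e.trans h))
        (fun h => h.elim (fun h => hSB.1 (e.trans h)) (fun h => hSB.2.1 (e.trans h))))
    · have st := hE.sq t ht
      have sb := hE.sq b hb
      rcases hgbL with a1 | a1 | a1 <;> rcases hq with a2 | a2 | a2 <;>
        first
          | exact hqg (a2.trans a1.symm)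
          | rw [a1, a2] at e
      · exact hSB.2.1 e
      · exact hSB.1 (by rw [e, ← mul_assoc, st, one_mul])
      · exact hSB.2.1 (by rw [e, hE.scomm hb ht])
      · exact hSB.2.2 (by rw [e, hE.scomm ht hb, ← mul_assoc, sb, one_mul])
      · exact hSB.1 (by rw [e, hE.scomm ht hb, mul_assoc, st, mul_one])
      · exact hSB.2.2 (by rw [e, mul_assoc, sb, mul_one])
  -- both normalisers in one odd invariant subgroup
  set DS := core (centralizer (S : Set G)) with hDS
  set U1 := (DS ⊓ N1) ⊔ core N1 with hU1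
  have hU1odd : ¬ 2 ∣ Nat.card U1 := ClosedAbelian.sup_core_odd inf_le_right
    fun hd => core_odd _ (hd.trans (card_dvd_of_le inf_le_left))
  have hSU1 : S ≤ normalizer (U1 : Set G) := fun v hv => normalizer_inf_normalizer_le_normalizer_sup _ _
    ⟨Signalizer.le_normalizer_inf (hE.le_centralizer.trans (core_normalized _)) (hSI.trans le_normalizer) hv,
      core_normalized N1 (hSI hv)⟩
  have hW : ∀ A : Subgroup G, IsMaxInv r S A → I ≤ A → N1 ⊓ A ≤ U1 := by
    intro A hA hIA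
    have hAodd : ¬ 2 ∣ Nat.card (N1 ⊓ A : Subgroup G) :=
      odd_pgroup hr2 (hA.2.1.to_le inf_le_right)
    have hSW : S ≤ normalizer ((N1 ⊓ A : Subgroup G) : Set G) :=
      Signalizer.le_normalizer_inf (hSI.trans le_normalizer) hA.1
    by_cases hmov1 : HasMover S N1 s
    · refine hE.le_of_parts hAodd hSW (fun w hw hws => mem_sup_left ⟨?_, hw.1⟩)
        fun w hw p hp hp1 q hq hq1 hqp hwp hwq hwi hw1 => ?_
      · exact hE.odd_mem_core hE.le_centralizer (fun n hn _ => hn)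
          (mem_centralizer_iff.2 fun v hv => (hws v hv).symm) (odd_of_mem hAodd hw)
      have ho := odd_of_mem hAodd hw
      rcases hE.dich hp hp1 hq hq1 hqp ho hw1 hwp hwq hwi hs with ⟨-, e⟩ | ⟨e, -⟩
      · by_cases hwc : w ∈ core (cen s)
        · exact mem_sup_right (hE.core_cen_le hSI hs hs1 hN1iso ⟨hwc, hw.1⟩)
        exfalso
        obtain ⟨d, hd, hd1, hds, hwd⟩ : ∃ d ∈ S, d ≠ 1 ∧ d ≠ s ∧ w * d = d * w := by
          by_cases hps : p = s
          · exact ⟨q, hq, hq1, fun e' => hqp (e'.trans hps.symm), hwq⟩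
          · exact ⟨p, hp, hp1, hps, hwp⟩
        exact hfin inf_le_left (hA.2.1.to_le inf_le_right) hSW ⟨le_normalizer hxI, hIA hxI⟩ hmov1
          hd hd1 hds hw ⟨(comm_iff_conj.2 e).symm, hwd, hwi, ho, hwc⟩
      · exact mem_sup_right (hE.inv_mem_core hSI hs hs1 hN1iso hw.1 ho e)
    · intro w hw
      refine mem_sup_right (hE.odd_mem_core hSI (fun n hn hnS => ?_) hw.1 (odd_of_mem hAodd hw))
      by_contra hnC
      exact hmov1 ⟨n, hn, hnS, hN1iso n hn hnS, hnC⟩
  refine no_common_overgroup hP'm hQ'm h0 hne hmax hSU1 (hE.coprime_odd hU1odd) ?_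
    (hW P' hP'm inf_le_left) (hW Q' hQ'm inf_le_right)
  exact SEBrick.solvable_of_odd (Nat.odd_iff.2 (Nat.two_dvd_ne_zero.1 hU1odd))

omit hE in
/-- **The signalizer theorem.** -/
theorem theta : ThetaStmt.{u} := by
  intro G _ _ S
  induction hn : Nat.card G using Nat.strong_induction_on generalizing G with
  | _ n ih =>
  subst hn
  intro hE hO hT
  by_cases hodd : ∀ M : Subgroup G, M.Normal → ¬ 2 ∣ Nat.card M → M = ⊥
  swap
  · push Not at hodd
    obtain ⟨M, hMn, hMo, hMb⟩ := hodd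
    haveI := hMn
    refine balanced_of_quot hMo hE (ih _ ?_ (G ⧸ M) _ rfl (Eight.quot hMo hE)
      (OneLine.quot hMo hE hO) (TorusSylow.quot hMo hE hT))
    rw [card_eq_card_quotient_mul_card_subgroup M]
    exact lt_mul_of_one_lt_right Nat.card_pos (one_lt_card_iff_ne_bot _ |>.2 hMb)
  have hM : Min S := by
    refine ⟨hE, hO, hT, hodd, fun H hH hSH htr hmv t ht ht1 b hb hb1 hbt x hx hbad => ?_⟩
    have hlt : Nat.card H < Nat.card G := lt_of_le_of_ne (card_le_card_group H)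
      fun e => hH (eq_top_of_card_eq H e)
    have hB := ih _ hlt H _ rfl (Eight.sub hSH hE htr hmv) (OneLine.sub hSH hO) (TorusSylow.sub hSH hE hT)
    obtain ⟨hxt, -, ⟨u, hu, hux⟩, hxo, -⟩ := hbad.2
    have hx' : (⟨x, hx⟩ : H) ∈ core (cen (⟨b, hSH hb⟩ : H)) :=
      hB ⟨t, hSH ht⟩ ht (fun e => ht1 (congrArg Subtype.val e)) ⟨b, hSH hb⟩ hb
        (fun e => hb1 (congrArg Subtype.val e)) ⟨x, hx⟩ (mem_core_sub hbad.1)
        (Subtype.ext hxt) ⟨⟨u, hSH hu⟩, hu, Subtype.ext hux⟩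
    set R := (core (cen (⟨b, hSH hb⟩ : H))).map H.subtype with hR
    obtain ⟨y, hyH, hy, hyb, hyC⟩ := hmv b hb hb1
    have hRodd : ¬ 2 ∣ Nat.card R := by
      rw [hR, card_map_of_injective H.subtype_injective]; exact core_odd _
    have hSR : S ≤ normalizer (R : Set G) := normalizer_sub_le hSH fun v hv =>
      core_normalized _ (mem_cen_sub.2 (hE.le_cenS hb hv))
    have hyR : y * x * y⁻¹ ∈ R := ⟨⟨y, hyH⟩ * ⟨x, hx⟩ * ⟨y, hyH⟩⁻¹, ClosedAbelian.conj_mem_core
      (mem_cen_sub.2 (mem_centralizer_singleton_iff.2 hyb)) hx', rfl⟩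
    obtain ⟨n1, n2⟩ := hE.mover_not hb hb1 hy hyb hyC ht ht1 hbt.symm
    have hT2 := hbad.2.conj (g := y) hy
    rw [comm_iff_conj.1 hyb] at hT2
    rcases hE.one_line hO hRodd hSR hb hb1 ht ht1 hbt.symm (conj_mem hy ht) (conj_ne_one ht1)
      (hE.mover_ne hb hb1 hy hyb hyC hbt.symm) ⟨_, hx', rfl⟩ hyR hbad.2 hT2 with e | e
    exacts [n1 e, n2 e]
  intro a ha ha1 b hb hb1 x hx hxb hxi
  by_contra hxc
  have hba : b ≠ a := fun e => hxc (e ▸ hx)
  have hbad : Bad S a b x :=
    ⟨hx, hxb, comm_of_mem_core hx, hxi, odd_of_mem (core_odd _) hx, hxc⟩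
  obtain ⟨t', b', x', ht', ht1', hb', hb1', hbt', hV, hbad'⟩ := hE.exists_bad_inV ha ha1 hb hb1 hba hbad
  obtain ⟨r, hr, x'', hbad'', hk⟩ := hE.exists_bad_pgroup hbad'
  haveI := Fact.mk hr
  exact hM.false_of_bad ht' ht1' hb' hb1' hbt' hV hbad'' hk

end Cfsg.Agent.Walter8
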