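import Cfsg.Agent.Lib.Walter8.Base
import Cfsg.Agent.Lib.GW.OddInvariant
import Cfsg.Agent.Lib.Classical.PSL2Involutions
import Cfsg.Agent.Lib.Solvable.Coprime
import Cfsg.Agent.Lib.SEBrick.Basic

/-!
The centraliser of an involution of `S` modulo its odd core and the involution itself: an almost simple
group over `PSL₂(q)` with a four-group as Sylow 2-subgroup.
-/

set_option autoImplicit false
set_option linter.style.haveILetI false
set_option linter.unusedSectionVars false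

namespace Cfsg.Agent.Walter8

open Subgroup
open Cfsg.Agent.ClosedAbelian (core)
open scoped Pointwise

universe u

variable {G : Type u} [Group G] [Finite G] {S : Subgroup G}

theorem Eight.comm (hE : Eight S) {s t : G} (hs : s ∈ S) (ht : t ∈ S) : s * t = t * s := by
  calc s * t = (s * t)⁻¹ := (inv_eq_of_mul_eq_one_right (hE.sq _ (mul_mem hs ht))).symm
    _ = t * s := by
      rw [mul_inv_rev, inv_eq_of_mul_eq_one_right (hE.sq s hs), inv_eq_of_mul_eq_one_right (hE.sq t ht)]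

theorem Eight.order_two (hE : Eight S) {s : G} (hs : s ∈ S) (h1 : s ≠ 1) : orderOf s = 2 :=
  Invol.order_two_of_sq (hE.sq s hs) h1

theorem Eight.mem_cen (hE : Eight S) {a s : G} (ha : a ∈ S) (hs : s ∈ S) : s ∈ cen a :=
  mem_centralizer_singleton_iff.2 (hE.comm hs ha)

theorem Eight.le_cen (hE : Eight S) {a : G} (ha : a ∈ S) : S ≤ cen a := fun _ hs => hE.mem_cen ha hs

theorem Eight.isPGroup (hE : Eight S) : IsPGroup 2 S :=
  IsPGroup.of_card (n := 3) (by rw [hE.card]; norm_num)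

theorem Eight.exists_out (hE : Eight S) {T : Set G} (hT : T.ncard < 8) : ∃ s ∈ S, s ∉ T := by
  by_contra hno
  push Not at hno
  have h := Set.ncard_le_ncard (show (S : Set G) ⊆ T from hno) (Set.toFinite _)
  rw [← Nat.card_coe_set_eq] at h
  change Nat.card S ≤ _ at h
  rw [hE.card] at h
  omega

/-- Two more elements of a basis through a given involution. -/
theorem Eight.exists_basis (hE : Eight S) (a : G) :
    ∃ b ∈ S, ∃ c ∈ S, b ≠ 1 ∧ b ≠ a ∧ c ≠ 1 ∧ c ≠ a ∧ c ≠ b ∧ c ≠ a * b := by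
  obtain ⟨b, hb, hb'⟩ := hE.exists_out (T := {1, a})
    ((Set.ncard_insert_le _ _).trans_lt (by rw [Set.ncard_singleton]; norm_num))
  obtain ⟨c, hc, hc'⟩ := hE.exists_out (T := {1, a, b, a * b}) (by
    have h1 := Set.ncard_insert_le (1 : G) {a, b, a * b}
    have h2 := Set.ncard_insert_le a ({b, a * b} : Set G)
    have h3 := Set.ncard_insert_le b ({a * b} : Set G)
    rw [Set.ncard_singleton] at h3
    omega)
  simp only [Set.mem_insert_iff, Set.mem_singleton_iff, not_or] at hb' hc'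
  exact ⟨b, hb, c, hc, hb'.1, hb'.2, hc'.1, hc'.2.1, hc'.2.2.1, hc'.2.2.2⟩

theorem core_le_cen (a : G) : core (cen a) ≤ cen a := ClosedAbelian.core_le _

theorem odd_of_mem_core {a x : G} (hx : x ∈ core (cen a)) : Odd (orderOf x) :=
  ClosedAbelian.odd_orderOf_of_mem (ClosedAbelian.core_odd _) hx

theorem zpowers_le_normalizer_core (a : G) : zpowers a ≤ normalizer (core (cen a) : Set G) :=
  zpowers_le.2 (ClosedAbelian.core_normalized _ (mem_centralizer_singleton_iff.2 rfl))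

/-- A member of `O(C(a))⟨a⟩` is in the core or is the involution times such an element. -/
theorem mem_sup_cases {a g : G} (ha : a * a = 1) (hg : g ∈ core (cen a) ⊔ zpowers a) :
    g ∈ core (cen a) ∨ ∃ o ∈ core (cen a), g = o * a := by
  obtain ⟨o, ho, u, hu, he⟩ :=
    (SolvBasic.mem_sup_iff_of_le_normalizer (zpowers_le_normalizer_core a)).1 hg
  obtain ⟨i, rfl⟩ := mem_zpowers_iff.1 hu
  rcases Int.even_or_odd i with ⟨j, rfl⟩ | ⟨j, rfl⟩
  · rw [← two_mul, zpow_mul, zpow_two, ha, one_zpow, mul_one] at he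
    exact Or.inl (he ▸ ho)
  · rw [zpow_add, zpow_mul, zpow_two, ha, one_zpow, one_mul, zpow_one] at he
    exact Or.inr ⟨o, ho, he⟩

theorem mem_core_of_odd {a g : G} (ha : a * a = 1) (hg : g ∈ core (cen a) ⊔ zpowers a)
    (ho : Odd (orderOf g)) : g ∈ core (cen a) := by
  refine ClosedAbelian.mem_of_sq_mem ?_ ho
  rcases mem_sup_cases ha hg with h | ⟨o, ho', rfl⟩
  · exact mul_mem h h
  · have hc : o * a = a * o := mem_centralizer_singleton_iff.1 (core_le_cen a ho')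
    rw [mul_assoc, ← mul_assoc a o a, ← hc, mul_assoc o a a, ha, mul_one]
    exact mul_mem ho' ho'

/-- An element normalising a 2-group modulo an odd subgroup lifts to one normalising it. -/
theorem exists_lift_normalizer {A O : Subgroup G} {y : G} (hA : IsPGroup 2 A) (hO : Odd (Nat.card O))
    (hAO : A ≤ normalizer (O : Set G)) (hy : ∀ a ∈ A, y * a * y⁻¹ ∈ O ⊔ A) :
    ∃ o ∈ O, o * y ∈ normalizer (A : Set G) := by
  have hcop : (Nat.card A).Coprime (Nat.card O) := by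
    obtain ⟨j, hj⟩ := IsPGroup.iff_card.1 hA
    rw [hj]
    exact (Nat.coprime_two_left.2 hO).pow_left j
  haveI := OddChar.oddSolvable O hO
  have hB : MulAut.conj y • A ≤ O ⊔ A := by
    intro b hb
    rw [SolvBasic.mem_conjSmul] at hb
    have h := hy _ hb
    rwa [show y * (y⁻¹ * b * y) * y⁻¹ = b by group] at h
  obtain ⟨n, hn, hnA⟩ := SchurZ.conj_in hAO hcop (Or.inr inferInstance) hB (SolvBasic.card_conjSmul _ _)
  refine ⟨n⁻¹, inv_mem hn, SEBrick.mem_normalizer_of fun a ha => ?_⟩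
  have h1 : y * a * y⁻¹ ∈ MulAut.conj y • A := by
    rw [SolvBasic.mem_conjSmul, show y⁻¹ * (y * a * y⁻¹) * y = a by group]; exact ha
  rw [← hnA, SolvBasic.mem_conjSmul] at h1
  rwa [show n⁻¹ * y * a * (n⁻¹ * y)⁻¹ = n⁻¹ * (y * a * y⁻¹) * n by group]

/-- The centraliser of `a` over `O(C(a))⟨a⟩`, with its socle. -/
structure Mod (a : G) {Y : Type u} [Group Y] (L : Subgroup Y) (π : ↥(cen a) →* Y) : Prop where
  surj : Function.Surjective π
  ker : ∀ g, π g = 1 ↔ (g : G) ∈ core (cen a) ⊔ zpowers a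
  eight : ¬ 8 ∣ Nat.card Y
  dih : GW.DihSylow Y
  target : GW.IsTarget L
  cent : centralizer (L : Set Y) = ⊥
  facts : GW.SocleFacts Y L
  psl : ∃ (F : Type) (_ : Field F) (_ : Fintype F) (_ : L ≃* Matrix.ProjectiveSpecialLinearGroup (Fin 2) F),
    Odd (Fintype.card F) ∧ 3 < Fintype.card F

theorem two_ne_zero_of_odd {F : Type} [Field F] [Fintype F] (hodd : Odd (Fintype.card F)) :
    (2 : F) ≠ 0 := fun e => by
  have hc : CharP F 2 := CharP.ringChar_of_prime_eq_zero Nat.prime_two (by exact_mod_cast e) ▸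
    ringChar.charP F
  obtain ⟨n, -, hn⟩ := FiniteField.card F 2
  rw [hn] at hodd
  exact Nat.not_odd_iff_even.2 (Even.pow_of_ne_zero (by norm_num) n.2.ne') hodd

theorem four_dvd_psl {F : Type} [Field F] [Fintype F] (hodd : Odd (Fintype.card F)) :
    4 ∣ Nat.card (Matrix.ProjectiveSpecialLinearGroup (Fin 2) F) := by
  have h2 := two_ne_zero_of_odd hodd
  rw [← PSL2Inv.card_involutions_mul h2]
  exact (PSL2Inv.four_dvd_card_C h2).1.mul_left _

theorem not_comm_psl {F : Type} [Field F] [Fintype F]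
    [IsSimpleGroup (Matrix.ProjectiveSpecialLinearGroup (Fin 2) F)] (hodd : Odd (Fintype.card F)) :
    ¬ IsMulCommutative (Matrix.ProjectiveSpecialLinearGroup (Fin 2) F) := fun hc => by
  set P := Matrix.ProjectiveSpecialLinearGroup (Fin 2) F
  letI : CommGroup P := { (inferInstance : Group P) with mul_comm := hc.is_comm.comm }
  have hp := IsSimpleGroup.prime_card (α := P)
  have h4 := four_dvd_psl hodd
  have h22 : 2 ∣ Nat.card P := (show 2 ∣ 4 by norm_num).trans h4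
  rw [← (Nat.prime_dvd_prime_iff_eq Nat.prime_two hp).1 h22] at h4
  omega

theorem LType.exists_mod (hE : Eight S) (hL : LType S) {a : G} (ha : a ∈ S) (ha1 : a ≠ 1) :
    ∃ (Y : Type u) (_ : Group Y) (_ : Finite Y) (Lb : Subgroup Y) (π : ↥(cen a) →* Y), Mod a Lb π := by
  classical
  haveI : Fact (Nat.Prime 2) := ⟨Nat.prime_two⟩
  obtain ⟨L, F, i1, i2, φ, hodd, h3, hLC, hCN, hφ, hOL, hker, hcl⟩ := hL a ha ha1
  haveI hs : IsSimpleGroup (Matrix.ProjectiveSpecialLinearGroup (Fin 2) F) :=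
    Matrix.ProjectiveSpecialLinearGroup.rank_two_simple (by rw [Nat.card_eq_fintype_card]; omega)
  have hnc := not_comm_psl hodd
  have haa := hE.sq a ha
  have haC : a ∈ cen a := mem_centralizer_singleton_iff.2 rfl
  set O := core (cen a) with hO
  -- the involution is outside the part over the socle
  have hLker : ∀ l ∈ L, l ∈ O ⊔ zpowers a → l ∈ O := by
    intro l hl hm
    rcases mem_sup_cases haa hm with h | ⟨o, ho, he⟩
    · exact h
    exfalso
    have haL : a ∈ L := by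
      have := mul_mem (inv_mem (hOL ho)) hl
      rwa [he, inv_mul_cancel_left] at this
    have hz : φ ⟨a, haL⟩ ∈ Subgroup.center (Matrix.ProjectiveSpecialLinearGroup (Fin 2) F) := by
      rw [Subgroup.mem_center_iff]
      intro p
      obtain ⟨⟨x, hx⟩, rfl⟩ := hφ p
      rw [← map_mul, ← map_mul]
      exact congrArg φ (Subtype.ext (mem_centralizer_singleton_iff.1 (hLC hx)))
    rcases IsSimpleGroup.eq_bot_or_eq_top_of_normal
        (Subgroup.center (Matrix.ProjectiveSpecialLinearGroup (Fin 2) F)) inferInstance with hb | ht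
    · rw [hb, mem_bot, ← MonoidHom.mem_ker, hker, mem_subgroupOf] at hz
      have h := odd_of_mem_core hz
      change Odd (orderOf a) at h
      rw [hE.order_two ha ha1] at h
      exact Nat.not_odd_iff_even.2 even_two h
    · exact hnc ⟨⟨fun x y => Subgroup.mem_center_iff.1 (ht ▸ mem_top y) x⟩⟩
  haveI : (O.subgroupOf (cen a)).Normal :=
    normal_subgroupOf_of_le_normalizer (ClosedAbelian.core_normalized _)
  haveI : (zpowers (⟨a, haC⟩ : cen a)).Normal := ⟨fun x hx g => by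
    obtain ⟨i, rfl⟩ := mem_zpowers_iff.1 hx
    refine mem_zpowers_iff.2 ⟨i, Subtype.ext ?_⟩
    simp only [Subgroup.coe_mul, Subgroup.coe_inv, SubgroupClass.coe_zpow]
    rw [((show Commute (g : G) a from mem_centralizer_singleton_iff.1 g.2).zpow_right i).eq,
      mul_inv_cancel_right]⟩
  set Z := O.subgroupOf (cen a) ⊔ zpowers (⟨a, haC⟩ : cen a) with hZ
  have hZmem : ∀ g : cen a, g ∈ Z ↔ (g : G) ∈ O ⊔ zpowers a := fun g => by
    rw [← mem_map_iff_mem (cen a).subtype_injective (K := Z), hZ, Subgroup.map_sup,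
      MonoidHom.map_zpowers, map_subgroupOf_eq_of_le (core_le_cen a)]
    rfl
  set π := QuotientGroup.mk' Z with hπ
  have hπ1 : ∀ g, π g = 1 ↔ (g : G) ∈ O ⊔ zpowers a := fun g => by
    rw [← hZmem]; exact QuotientGroup.eq_one_iff g
  have h8 : ¬ 8 ∣ Nat.card (cen a ⧸ Z) := fun h => hE.sixteen (by
    have hz2 : 2 ∣ Nat.card Z := by
      refine dvd_trans (dvd_of_eq ?_) (card_dvd_of_le (le_sup_right : zpowers (⟨a, haC⟩ : cen a) ≤ Z))
      rw [Nat.card_zpowers, Subgroup.orderOf_mk, hE.order_two ha ha1]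
    have := Nat.mul_dvd_mul h hz2
    rw [← card_eq_card_quotient_mul_card_subgroup] at this
    exact this.trans (card_subgroup_dvd_card _))
  haveI : (L.subgroupOf (cen a)).Normal := normal_subgroupOf_of_le_normalizer hCN
  set Lb := (L.subgroupOf (cen a)).map π with hLb
  haveI hLn : Lb.Normal := Subgroup.Normal.map inferInstance _ (QuotientGroup.mk'_surjective _)
  set ψ := π.comp (inclusion hLC) with hψ
  have hψr : ψ.range = Lb := by
    ext y
    constructor
    · rintro ⟨l, rfl⟩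
      exact ⟨inclusion hLC l, l.2, rfl⟩
    · rintro ⟨g, hg, rfl⟩
      exact ⟨⟨g, hg⟩, rfl⟩
  have hψk : ψ.ker = φ.ker := by
    ext l
    rw [hker, MonoidHom.mem_ker, mem_subgroupOf]
    show π (inclusion hLC l) = 1 ↔ _
    rw [hπ1]
    exact ⟨hLker _ l.2, fun h => mem_sup_left h⟩
  let e : Lb ≃* Matrix.ProjectiveSpecialLinearGroup (Fin 2) F :=
    (MulEquiv.subgroupCongr hψr).symm.trans ((QuotientGroup.quotientKerEquivRange ψ).symm.trans
      ((QuotientGroup.quotientMulEquivOfEq hψk).trans (QuotientGroup.quotientKerEquivOfSurjective φ hφ)))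
  haveI hLs : IsSimpleGroup Lb := e.isSimpleGroup_congr.2 hs
  have hLnc : ¬ IsMulCommutative Lb := fun hc => hnc ⟨⟨fun x y => e.symm.injective (by
    rw [map_mul, map_mul, hc.is_comm.comm])⟩⟩
  have hcent : centralizer (Lb : Set (cen a ⧸ Z)) = ⊥ := by
    rw [eq_bot_iff]
    intro y hy
    obtain ⟨g, rfl⟩ := QuotientGroup.mk'_surjective Z y
    rw [mem_bot, hπ1]
    refine hcl g g.2 fun l hl => hLker _ ?_ ?_
    · exact mul_mem ((mem_normalizer_iff.1 (hCN g.2) l).1 hl) (inv_mem hl)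
    · have h1 := mem_centralizer_iff.1 hy (π ⟨l, hLC hl⟩) ⟨_, (show (⟨l, hLC hl⟩ : cen a) ∈ _ from hl), rfl⟩
      exact (hπ1 (g * ⟨l, hLC hl⟩ * g⁻¹ * ⟨l, hLC hl⟩⁻¹)).1 (by
        rw [map_mul, map_mul, map_mul, map_inv, map_inv, ← h1, mul_inv_cancel_right, mul_inv_cancel])
  -- the Sylow subgroup
  have hdih : GW.DihSylow (cen a ⧸ Z) := by
    obtain ⟨b, hb, c, hc, hb1, hba, hc1, hca, hcb, hcab⟩ := hE.exists_basis a
    set V := (S.subgroupOf (cen a)).map π with hV
    have hne : ∀ s (hs : s ∈ S), s ≠ 1 → s ≠ a → π ⟨s, hE.mem_cen ha hs⟩ ≠ 1 := by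
      intro s hs hs1 hsa h
      rcases mem_sup_cases haa ((hπ1 _).1 h) with h' | ⟨o, ho, he⟩
      · exact hs1 (ClosedAbelian.TwoEl.eq_one_of_odd (ClosedAbelian.twoEl_of_sq (hE.sq s hs))
          (odd_of_mem_core h'))
      · have : o = 1 := ClosedAbelian.TwoEl.eq_one_of_odd (ClosedAbelian.twoEl_of_sq (by
          rw [show o = s * a by rw [show s = o * a from he, mul_assoc, haa, mul_one]]
          exact hE.sq _ (mul_mem hs ha))) (odd_of_mem_core ho)
        exact hsa (by rw [show s = o * a from he, this, one_mul])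
    obtain ⟨P, hP⟩ := (((hE.isPGroup.comap_subtype (K := cen a)).map π).exists_le_sylow :
      ∃ P : Sylow 2 (cen a ⧸ Z), V ≤ P)
    have hsq : ∀ v ∈ V, v * v = 1 := by
      rintro _ ⟨s, hs, rfl⟩
      rw [← map_mul, show s * s = 1 from Subtype.ext (hE.sq _ hs), map_one]
    have hV4 : 4 ≤ Nat.card V := by
      set vb := π ⟨b, hE.mem_cen ha hb⟩ with hvb
      set vc := π ⟨c, hE.mem_cen ha hc⟩ with hvc
      have hvbV : vb ∈ V := ⟨_, (show (⟨b, hE.mem_cen ha hb⟩ : cen a) ∈ _ from hb), rfl⟩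
      have hvcV : vc ∈ V := ⟨_, (show (⟨c, hE.mem_cen ha hc⟩ : cen a) ∈ _ from hc), rfl⟩
      have h1 : vb ≠ 1 := hne b hb hb1 hba
      have h2 : vc ≠ 1 := hne c hc hc1 hca
      have h3' : vb * vc ≠ 1 := by
        have := hne (b * c) (mul_mem hb hc)
          (fun e => hcb (by
            rw [← inv_eq_of_mul_eq_one_right (hE.sq b hb)]; exact eq_inv_of_mul_eq_one_right e))
          (fun e => hcab (by rw [← e, hE.comm hb hc, mul_assoc, hE.sq b hb, mul_one]))
        rw [hvb, hvc, ← map_mul]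
        exact this
      have h4 : vb ≠ vc := fun e => h3' (by rw [e]; exact hsq _ hvcV)
      have hsub : ({1, vb, vc, vb * vc} : Set (cen a ⧸ Z)) ⊆ (V : Set _) := by
        rintro x (rfl | rfl | rfl | rfl)
        exacts [one_mem _, hvbV, hvcV, mul_mem hvbV hvcV]
      have hcard : ({1, vb, vc, vb * vc} : Set (cen a ⧸ Z)).ncard = 4 := by
        rw [Set.ncard_insert_of_notMem (by simp [Ne.symm h1, Ne.symm h2, Ne.symm h3']),
          Set.ncard_insert_of_notMem (by simp [h4, h2]), Set.ncard_pair (by simp [h1])]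
      have := Set.ncard_le_ncard hsub (Set.toFinite _)
      rw [hcard, ← Nat.card_coe_set_eq] at this
      exact this
    have hPc : Nat.card (P : Subgroup (cen a ⧸ Z)) ≤ 4 := by
      obtain ⟨k, hk⟩ := IsPGroup.iff_card.1 P.isPGroup'
      rcases Nat.lt_or_ge k 3 with h | h
      · rw [hk]; exact (Nat.pow_le_pow_right (by norm_num) (by omega : k ≤ 2)).trans (by norm_num)
      · refine absurd ((?_ : 8 ∣ _).trans (card_subgroup_dvd_card (P : Subgroup (cen a ⧸ Z)))) h8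
        rw [hk]; exact (show 8 = 2 ^ 3 by norm_num) ▸ pow_dvd_pow 2 h
    have hVP : V = (P : Subgroup (cen a ⧸ Z)) := eq_of_le_of_card_ge hP (hPc.trans hV4)
    haveI : IsKleinFour (P : Subgroup (cen a ⧸ Z)) := by
      rw [← hVP]
      refine ⟨le_antisymm ((hVP ▸ hPc : Nat.card V ≤ 4)) hV4, ?_⟩
      refine (Nat.dvd_prime Nat.prime_two).1 (Monoid.exponent_dvd_of_forall_pow_eq_one fun v =>
        Subtype.ext (by rw [SubmonoidClass.coe_pow, pow_two]; exact hsq v v.2)) |>.resolve_left ?_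
      rw [Monoid.exp_eq_one_iff]
      intro hsub
      have := Nat.card_of_subsingleton (1 : V)
      omega
    obtain ⟨f⟩ := IsKleinFour.nonempty_mulEquiv (G₁ := (P : Subgroup (cen a ⧸ Z))) (G₂ := DihedralGroup 2)
    exact ⟨P, 2, le_rfl, ⟨f⟩⟩
  have htar : GW.IsTarget Lb := Or.inl ⟨F, i1, i2, hodd, h3, ⟨e⟩⟩
  refine ⟨cen a ⧸ Z, inferInstance, inferInstance, Lb, π, QuotientGroup.mk'_surjective _, hπ1, h8, hdih,
    htar, hcent, ?_, ⟨F, i1, i2, e, hodd, h3⟩⟩
  rcases GW.psl_data hdih Lb hLnc hcent htar with ⟨⟨e7⟩⟩ | ⟨K, _, _, _, ι, hnc', hodd', h3', hι, hLι, hfld⟩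
  · refine absurd ?_ h8
    rw [Nat.card_congr e7.toEquiv, nat_card_alternatingGroup]
    simp [Nat.factorial]
  · exact GW.socleFacts hdih hnc' hodd' h3' Lb hLn hLs hLnc ι hι hLι hfld

variable {a : G} {Y : Type u} [Group Y] [Finite Y] {Lb : Subgroup Y} {π : ↥(cen a) →* Y}

theorem Mod.map_eq_one_core (h : Mod a Lb π) (haa : a * a = 1) {g : cen a} (h1 : π g = 1)
    (ho : Odd (orderOf (g : G))) : (g : G) ∈ core (cen a) :=
  mem_core_of_odd haa ((h.ker g).1 h1) ho

theorem Mod.index_odd (h : Mod a Lb π) : Odd Lb.index := by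
  obtain ⟨F, _, _, e, hodd, -⟩ := h.psl
  rw [← Nat.not_even_iff_odd, even_iff_two_dvd]
  intro h2
  have h4 : 4 ∣ Nat.card Lb := by
    rw [Nat.card_congr e.toEquiv]; exact four_dvd_psl hodd
  exact h.eight (by rw [← Lb.card_mul_index]; exact Nat.mul_dvd_mul h4 h2)

theorem Mod.invol_mem (h : Mod a Lb π) {y : Y} (hy : y * y = 1) : y ∈ Lb := by
  haveI := h.facts.normal
  have h1 := Subgroup.pow_index_mem Lb y
  obtain ⟨k, hk⟩ := h.index_odd
  rwa [hk, pow_succ, pow_mul, pow_two, hy, one_pow, one_mul] at h1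

theorem Mod.sq (h : Mod a Lb π) (hE : Eight S) {s : G} (hs : s ∈ S) (hsC : s ∈ cen a) :
    π ⟨s, hsC⟩ * π ⟨s, hsC⟩ = 1 := by
  rw [← map_mul, show (⟨s, hsC⟩ : cen a) * ⟨s, hsC⟩ = 1 from Subtype.ext (hE.sq s hs), map_one]

theorem Mod.order (h : Mod a Lb π) (hE : Eight S) (ha : a ∈ S) {s : G} (hs : s ∈ S) (hsC : s ∈ cen a)
    (h1 : s ≠ 1) (hsa : s ≠ a) : orderOf (π ⟨s, hsC⟩) = 2 := by
  refine Invol.order_two_of_sq (h.sq hE hs hsC) fun e => ?_
  rcases mem_sup_cases (hE.sq a ha) ((h.ker _).1 e) with h' | ⟨o, ho, he⟩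
  · exact h1 (ClosedAbelian.TwoEl.eq_one_of_odd (ClosedAbelian.twoEl_of_sq (hE.sq s hs)) (odd_of_mem_core h'))
  · have : o = 1 := ClosedAbelian.TwoEl.eq_one_of_odd (ClosedAbelian.twoEl_of_sq (by
      rw [show o = s * a by rw [show s = o * a from he, mul_assoc, hE.sq a ha, mul_one]]
      exact hE.sq _ (mul_mem hs ha))) (odd_of_mem_core ho)
    exact hsa (by rw [show s = o * a from he, this, one_mul])

theorem Mod.comm (_h : Mod a Lb π) (hE : Eight S) {s t : G} (hs : s ∈ S) (ht : t ∈ S) (hsC : s ∈ cen a)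
    (htC : t ∈ cen a) : π ⟨s, hsC⟩ * π ⟨t, htC⟩ = π ⟨t, htC⟩ * π ⟨s, hsC⟩ := by
  rw [← map_mul, ← map_mul]
  exact congrArg π (Subtype.ext (hE.comm hs ht))

theorem Mod.ne (h : Mod a Lb π) (hE : Eight S) (ha : a ∈ S) {b c : G} (hb : b ∈ S) (hc : c ∈ S)
    (hbC : b ∈ cen a) (hcC : c ∈ cen a) (hcb : c ≠ b) (hcab : c ≠ a * b) :
    π ⟨b, hbC⟩ ≠ π ⟨c, hcC⟩ := by
  intro e
  have hC : b * c ∈ cen a := mul_mem hbC hcC
  have hne1 : b * c ≠ 1 := fun e' => hcb (by
    rw [← inv_eq_of_mul_eq_one_right (hE.sq b hb)]; exact eq_inv_of_mul_eq_one_right e')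
  have hne2 : b * c ≠ a := fun e' => hcab (by
    rw [← e', hE.comm hb hc, mul_assoc, hE.sq b hb, mul_one])
  have h2 := h.order hE ha (mul_mem hb hc) hC hne1 hne2
  rw [show (⟨b * c, hC⟩ : cen a) = ⟨b, hbC⟩ * ⟨c, hcC⟩ from rfl, map_mul, e, h.sq hE hc hcC,
    orderOf_one] at h2
  omega

/-- The image of an element of `S` is one of a four-group of images. -/
theorem Mod.cases (h : Mod a Lb π) (hE : Eight S) (ha : a ∈ S) {b c u : G} (hb : b ∈ S) (hc : c ∈ S)
    (hu : u ∈ S) (hb1 : b ≠ 1) (hba : b ≠ a) (hc1 : c ≠ 1) (hca : c ≠ a) (hcb : c ≠ b) (hcab : c ≠ a * b) :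
    π ⟨u, hE.mem_cen ha hu⟩ = 1 ∨ π ⟨u, hE.mem_cen ha hu⟩ = π ⟨b, hE.mem_cen ha hb⟩ ∨
      π ⟨u, hE.mem_cen ha hu⟩ = π ⟨c, hE.mem_cen ha hc⟩ ∨
      π ⟨u, hE.mem_cen ha hu⟩ = π ⟨b, hE.mem_cen ha hb⟩ * π ⟨c, hE.mem_cen ha hc⟩ := by
  by_cases h1 : π ⟨u, hE.mem_cen ha hu⟩ = 1
  · exact Or.inl h1
  exact Or.inr (GW.comm_involution_cases h.dih (h.order hE ha hb _ hb1 hba) (h.order hE ha hc _ hc1 hca)
    (Invol.order_two_of_sq (h.sq hE hu _) h1) (h.ne hE ha hb hc _ _ hcb hcab) (h.comm hE hb hc _ _)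
    (h.comm hE hb hu _ _) (h.comm hE hc hu _ _))

/-- Inverted by an element of `S` and centralised by two lines: in the core. -/
theorem Mod.mem_core_of_fixed (h : Mod a Lb π) (hE : Eight S) (ha : a ∈ S) {b c x : G} (hb : b ∈ S)
    (hc : c ∈ S) (hb1 : b ≠ 1) (hba : b ≠ a) (hc1 : c ≠ 1) (hca : c ≠ a) (hcb : c ≠ b) (hcab : c ≠ a * b)
    (hxC : x ∈ cen a) (ho : Odd (orderOf x)) (hinv : InvBy S x)
    (hbx : π ⟨b, hE.mem_cen ha hb⟩ * π ⟨x, hxC⟩ = π ⟨x, hxC⟩ * π ⟨b, hE.mem_cen ha hb⟩)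
    (hcx : π ⟨c, hE.mem_cen ha hc⟩ * π ⟨x, hxC⟩ = π ⟨x, hxC⟩ * π ⟨c, hE.mem_cen ha hc⟩) :
    x ∈ core (cen a) := by
  obtain ⟨u, hu, hux⟩ := hinv
  set z := π ⟨x, hxC⟩ with hz
  have hu' : π ⟨u, hE.mem_cen ha hu⟩ * z = z * π ⟨u, hE.mem_cen ha hu⟩ := by
    rcases h.cases hE ha hb hc hu hb1 hba hc1 hca hcb hcab with e | e | e | e <;> rw [e]
    · rw [one_mul, mul_one]
    · exact hbx
    · exact hcx
    · exact ((show Commute _ z from hbx).mul_left (show Commute _ z from hcx)).eq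
  have hzinv : π ⟨u, hE.mem_cen ha hu⟩ * z * (π ⟨u, hE.mem_cen ha hu⟩)⁻¹ = z⁻¹ := by
    rw [hz, ← map_mul, ← map_inv, ← map_mul, ← map_inv]
    exact congrArg π (Subtype.ext hux)
  rw [hu', mul_inv_cancel_right] at hzinv
  have hzo : Odd (orderOf z) := ho.of_dvd_nat ((orderOf_map_dvd π _).trans (by rw [Subgroup.orderOf_mk]))
  exact h.map_eq_one_core (hE.sq a ha)
    (GW.eq_one_of_sq_odd (mul_eq_one_iff_eq_inv.2 hzinv) hzo) (by exact ho)

end Cfsg.Agent.Walter8
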