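import Cfsg.Agent.Lib.PLocal.ZJ
import Cfsg.Agent.Lib.PStable.Involved
import Cfsg.Agent.Lib.Techniques.PConstrained
import Cfsg.Agent.Lib.Transfer.CoprimeQuotient

/-!
# The `ZJ` step in groups without elements of order `4`

Such a group has no section `SL(2, p)`, so in a `p`-constrained one the normaliser of `Z(J(P))` covers
everything modulo `O_{p'}`.
-/

set_option autoImplicit false
set_option linter.style.haveILetI false

namespace Cfsg.Agent.Walter8

open Subgroup Cfsg.Agent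

variable {G : Type*} [Group G] [Finite G] {p : ℕ}

/-- The property passes to sections. -/
theorem ne_four_of_surjective {Q : Type*} [Group Q] {H : Subgroup G} (h4 : ∀ g : G, orderOf g ≠ 4)
    (f : H →* Q) (hf : Function.Surjective f) (y : Q) : orderOf y ≠ 4 := by
  intro hy
  obtain ⟨x, rfl⟩ := hf y
  have hd : 4 ∣ orderOf x := hy ▸ orderOf_map_dvd f x
  refine h4 ((x : G) ^ (orderOf (x : G) / 4)) (orderOf_pow_orderOf_div (orderOf_pos _).ne' ?_)
  rwa [Subgroup.orderOf_coe]

/-- Without elements of order `4` there is no section `SL(2, p)`. -/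
theorem not_involves_sl2 [Fact p.Prime] (hp : p ≠ 2) (h4 : ∀ g : G, orderOf g ≠ 4) :
    ¬ Cfsg.Involves (Matrix.SpecialLinearGroup (Fin 2) (ZMod p)) G := by
  intro h
  obtain ⟨K, ψ, hψ⟩ := PStable.exists_surjective_of_involves h
  set w : Matrix.SpecialLinearGroup (Fin 2) (ZMod p) :=
    ⟨!![0, -1; 1, 0], by simp [Matrix.det_fin_two]⟩ with hw
  have hne : (-1 : ZMod p) ≠ 1 := by
    haveI : Fact (2 < p) := ⟨lt_of_le_of_ne (Fact.out : p.Prime).two_le (Ne.symm hp)⟩
    exact ZMod.neg_one_ne_one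
  have h2 : w ^ (2 : ℕ) = -1 := by
    apply Subtype.ext
    rw [pow_two, Matrix.SpecialLinearGroup.coe_mul, Matrix.SpecialLinearGroup.coe_neg,
      Matrix.SpecialLinearGroup.coe_one, hw]
    ext i j
    fin_cases i <;> fin_cases j <;> simp [Matrix.mul_apply, Fin.sum_univ_two]
  refine ne_four_of_surjective h4 ψ hψ w (orderOf_eq_prime_pow (p := 2) (n := 1) (fun h => hne ?_) ?_)
  · rw [pow_one, h2] at h
    have := congrArg (fun m : Matrix.SpecialLinearGroup (Fin 2) (ZMod p) => m 0 0) h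
    simpa using this
  · rw [show 2 ^ (1 + 1) = 2 * 2 from rfl, pow_mul, h2]
    simp

/-- The `ZJ` theorem for such groups. -/
theorem zJ_normal_of_ne_four [Fact p.Prime] (hp : p ≠ 2) (h4 : ∀ g : G, orderOf g ≠ 4)
    (hc : centralizer (Cfsg.pCore p G : Set G) ≤ Cfsg.pCore p G) (S : Sylow p G) (e : Prop) :
    (ZJ.zJ p e (S : Subgroup G)).Normal :=
  ZJ.zJ_normal hp (PStable.isQuad_of_not_involves_sl2 hp (not_involves_sl2 hp h4)) hc S e

/-- In a `p`-constrained such group `N(Z(J(S)))` covers everything modulo `O_{p'}`. -/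
theorem normalizer_zJ_sup [Fact p.Prime] (hp : p ≠ 2) (h4 : ∀ g : G, orderOf g ≠ 4)
    (hc : Cfsg.IsPConstrained p G) (S : Sylow p G) (e : Prop) :
    normalizer (ZJ.zJ p e (S : Subgroup G) : Set G) ⊔ Cfsg.pPrimeCore p G = ⊤ := by
  set f := QuotientGroup.mk' (Cfsg.pPrimeCore p G) with hf
  have hfs : Function.Surjective f := QuotientGroup.mk'_surjective _
  have hker : (Nat.card f.ker).Coprime p := by
    rw [hf, QuotientGroup.ker_mk']; exact PBasic.pPrimeCore_coprime p G
  have hinj : Set.InjOn f (S : Subgroup G) := by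
    intro x hx y hy h
    have h1 : x⁻¹ * y ∈ f.ker ⊓ (S : Subgroup G) :=
      Subgroup.mem_inf.2 ⟨by rw [MonoidHom.mem_ker, map_mul, map_inv, h, inv_mul_cancel],
        Subgroup.mul_mem _ (Subgroup.inv_mem _ hx) hy⟩
    rw [PBasic.inf_eq_bot_of_coprime hker S.isPGroup', mem_bot] at h1
    exact inv_mul_eq_one.1 h1
  have h4' : ∀ y : G ⧸ Cfsg.pPrimeCore p G, orderOf y ≠ 4 := fun y =>
    ne_four_of_surjective h4 (f.comp (⊤ : Subgroup G).subtype)
      (fun z => by obtain ⟨x, rfl⟩ := hfs z; exact ⟨⟨x, mem_top x⟩, rfl⟩) y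
  haveI hn := zJ_normal_of_ne_four hp h4' (PConstr.isPConstrained_iff.1 hc) (S.mapSurjective hfs) e
  have h1 : (normalizer (ZJ.zJ p e (S : Subgroup G) : Set G)).map f = ⊤ := by
    rw [← CoprimeQuotient.normalizer_map f hfs hker (S.isPGroup'.to_le (ZJ.zJ_le _)),
      ZJ.zJ_map f hinj, ← Sylow.coe_mapSurjective hfs S, Subgroup.normalizer_eq_top]
  have h2 := congrArg (fun H : Subgroup (G ⧸ Cfsg.pPrimeCore p G) => H.comap f) h1
  simp only [Subgroup.comap_map_eq, Subgroup.comap_top] at h2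
  rwa [hf, QuotientGroup.ker_mk'] at h2

/-- The covering form: a homomorphism killing `O_{p'}` takes the same image on `N(Z(J(S)))`. -/
theorem map_normalizer_zJ [Fact p.Prime] (hp : p ≠ 2) (h4 : ∀ g : G, orderOf g ≠ 4)
    (hc : Cfsg.IsPConstrained p G) (S : Sylow p G) (e : Prop) {X : Type*} [Group X] (π : G →* X)
    (hπ : (Cfsg.pPrimeCore p G).map π = ⊥) :
    (normalizer (ZJ.zJ p e (S : Subgroup G) : Set G)).map π = π.range := by
  rw [MonoidHom.range_eq_map, ← normalizer_zJ_sup hp h4 hc S e, Subgroup.map_sup, hπ, sup_bot_eq]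

end Cfsg.Agent.Walter8
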