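import Cfsg.Agent.Lib.Walter8.Local
import Cfsg.Agent.Lib.Walter8.Replace
import Cfsg.Agent.Lib.PStable.FusionControl
import Cfsg.Agent.Lib.LenEight.Tools
import Cfsg.Agent.Lib.Isolated.Basic

/-!
The climb: a proper subgroup with a mover at `a` which contains a bad element and an element of a line
through `a` leads to a Sylow `r`-subgroup `P` with a mover at `a` in `N(Z(J(P)))`.
-/

set_option autoImplicit false
set_option linter.style.haveILetI false
set_option linter.unusedSectionVars false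

namespace Cfsg.Agent.Walter8

open Subgroup
open Cfsg.Agent.ClosedAbelian (core core_le core_odd core_normalized le_core mem_of_sq_mem)

universe u

variable {G : Type u} [Group G] [Finite G] {S : Subgroup G}

theorem normalizer_le_normalizer_cent (R : Subgroup G) :
    normalizer (R : Set G) ≤ normalizer (centralizer (R : Set G) : Set G) := by
  have key : ∀ g ∈ normalizer (R : Set G), ∀ z ∈ centralizer (R : Set G),
      g * z * g⁻¹ ∈ centralizer (R : Set G) := by
    refine fun g hg z hz => mem_centralizer_iff.2 fun v hv => ?_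
    have h1 := mem_centralizer_iff.1 hz (g⁻¹ * v * g)
      (by simpa using (mem_normalizer_iff.1 (inv_mem hg) v).1 hv)
    calc v * (g * z * g⁻¹) = g * (g⁻¹ * v * g * z) * g⁻¹ := by group
      _ = g * (z * (g⁻¹ * v * g)) * g⁻¹ := by rw [h1]
      _ = _ := by group
  exact fun g hg => mem_normalizer_iff.2 fun z =>
    ⟨key g hg z, fun h => by simpa [mul_assoc] using key g⁻¹ (inv_mem hg) _ h⟩

theorem zpowers_two {v z : G} (hv : v * v = 1) (hz : z ∈ zpowers v) : z = 1 ∨ z = v := by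
  obtain ⟨i, rfl⟩ := mem_zpowers_iff.1 hz
  rcases Int.even_or_odd i with ⟨j, rfl⟩ | ⟨j, rfl⟩
  · left; rw [← two_mul, zpow_mul, zpow_two, hv, one_zpow]
  · right; rw [zpow_add, zpow_mul, zpow_two, hv, one_zpow, one_mul, zpow_one]

/-- A minimal situation: no odd normal subgroup, and no bad element in a proper subgroup with the full
automorphism group of `S`. -/
structure Min (S : Subgroup G) : Prop where
  eight : Eight S
  one : OneLine S
  torus : TorusSylow S
  noOdd : ∀ M : Subgroup G, M.Normal → ¬ 2 ∣ Nat.card M → M = ⊥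
  small : ∀ H : Subgroup G, H ≠ ⊤ → S ≤ H →
    (∀ p ∈ S, p ≠ 1 → ∀ q ∈ S, q ≠ 1 → ∃ g ∈ H, g ∈ normalizer (S : Set G) ∧ g * p * g⁻¹ = q) →
    (∀ p ∈ S, p ≠ 1 → ∃ y ∈ H, y ∈ normalizer (S : Set G) ∧ y * p = p * y ∧
      y ∉ centralizer (S : Set G)) →
    ∀ t ∈ S, t ≠ 1 → ∀ b ∈ S, b ≠ 1 → b ≠ t → ∀ x ∈ H, ¬ Bad S t b x

/-- A mover at `a` in `N`. -/
def HasMover (S N : Subgroup G) (a : G) : Prop :=
  ∃ y ∈ N, y ∈ normalizer (S : Set G) ∧ y * a = a * y ∧ y ∉ centralizer (S : Set G)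

/-- Proper, with `S`, the given subgroup and a mover at `a`. -/
def Holds (S : Subgroup G) (a : G) (X N : Subgroup G) : Prop :=
  N ≠ ⊤ ∧ S ≤ N ∧ X ≤ N ∧ HasMover S N a

/-- What the climb carries along. -/
structure Seed (S : Subgroup G) (r : ℕ) (a t b x : G) (X : Subgroup G) : Prop where
  ha : a ∈ S
  ha1 : a ≠ 1
  ht : t ∈ S
  ht1 : t ≠ 1
  hb : b ∈ S
  hb1 : b ≠ 1
  hbt : b ≠ t
  bad : Bad S t b x
  mem : x ∈ X
  pgroup : IsPGroup r X
  inv : S ≤ normalizer (X : Set G)
  side : x ∈ core (cen a) ∨ a * x * a⁻¹ = x⁻¹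
  torus : ∃ c ∈ S, c ≠ 1 ∧ c ≠ a ∧ ∃ z ∈ X, Tor S a c z

/-- A subgroup of a Sylow situation: the index of the part in a normalised subgroup. -/
theorem relIndex_inf_dvd {L P O : Subgroup G} (hPL : P ≤ L) (hOL : O ≤ L)
    (hL : L ≤ normalizer (O : Set G)) : (P ⊓ O).relIndex O ∣ P.relIndex L := by
  have hM : P ⊔ O ≤ L := sup_le hPL hOL
  have h1 := LenEight.card_sup_mul_inf (hPL.trans hL)
  have h2 := PBasic.card_mul_relIndex (inf_le_right : P ⊓ O ≤ O)
  have h3 := PBasic.card_mul_relIndex (le_sup_left : P ≤ P ⊔ O)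
  have e : (P ⊓ O).relIndex O = P.relIndex (P ⊔ O) := by
    apply Nat.eq_of_mul_eq_mul_left (Nat.mul_pos (Nat.card_pos (α := P))
      (Nat.card_pos (α := (P ⊓ O : Subgroup G))))
    calc Nat.card P * Nat.card (P ⊓ O : Subgroup G) * (P ⊓ O).relIndex O
        = Nat.card P * (Nat.card (P ⊓ O : Subgroup G) * (P ⊓ O).relIndex O) := by ring
      _ = Nat.card P * Nat.card O := by rw [h2]
      _ = Nat.card (P ⊔ O : Subgroup G) * Nat.card (P ⊓ O : Subgroup G) := h1.symm
      _ = _ := by rw [← h3]; ring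
  rw [e]
  exact Dvd.intro _ (relIndex_mul_relIndex P (P ⊔ O) L le_sup_left hM)

theorem Eight.coprime_odd (hE : Eight S) {W : Subgroup G} (hW : ¬ 2 ∣ Nat.card W) :
    (Nat.card S).Coprime (Nat.card W) := by
  rw [hE.card, show (8 : ℕ) = 2 ^ 3 from rfl]
  exact Nat.Coprime.pow_left 3 (Nat.prime_two.coprime_iff_not_dvd.2 hW)

theorem Eight.solvable (hE : Eight S) : Group.IsSolvable S := by
  haveI : Fact (Nat.Prime 2) := ⟨Nat.prime_two⟩
  haveI := hE.isTwo.isNilpotent
  infer_instance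

theorem Eight.no_four (hE : Eight S) (g : G) : orderOf g ≠ 4 := by
  intro h
  haveI : Fact (Nat.Prime 2) := ⟨Nat.prime_two⟩
  have h2 := hE.sq_of_two (IsPGroup.of_card (p := 2) (n := 2)
    (by rw [Nat.card_zpowers, h]; rfl) : IsPGroup 2 (zpowers g)) g (mem_zpowers g)
  have := orderOf_dvd_of_pow_eq_one (x := g) (n := 2) (by rw [pow_two]; exact h2)
  rw [h] at this
  norm_num at this

/-- An odd part of `O(C(a)) C(⟨a, c⟩)` inside `H ⊇ S` splits inside `H`. -/
theorem Eight.parts_le (hE : Eight S) {Q H : Subgroup G} (hSH : S ≤ H) (hQH : Q ≤ H)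
    (hQodd : ¬ 2 ∣ Nat.card Q) {a c : G} (ha : a ∈ S) (ha1 : a ≠ 1) (hc : c ∈ S) (hc1 : c ≠ 1)
    (hca : c ≠ a) (hQle : Q ≤ core (cen a) ⊔ (cen a ⊓ cen c)) :
    Q ≤ (core (cen a) ⊓ H) ⊔ (dee a c ⊓ H) := by
  set L := cen a ⊓ cen c with hL
  set M0 := dee a c ⊔ core (cen a) with hM0
  have hSL : S ≤ L := le_inf (hE.le_cenS ha) (hE.le_cenS hc)
  have hSdee : S ≤ normalizer (dee a c : Set G) := hSL.trans (core_normalized _)
  have hdle : dee a c ≤ cen a := (core_le _).trans inf_le_left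
  have hM0odd : ¬ 2 ∣ Nat.card M0 := ClosedAbelian.sup_core_odd hdle (core_odd _)
  have hSM0 : S ≤ normalizer (M0 : Set G) := fun s hs => normalizer_inf_normalizer_le_normalizer_sup
    _ _ ⟨hSdee hs, core_normalized _ (hE.le_cenS ha hs)⟩
  have hQM : Q ≤ M0 ⊓ H := by
    intro q hq
    refine ⟨?_, hQH hq⟩
    have hq' : q ∈ ((core (cen a) ⊔ L : Subgroup G) : Set G) := hQle hq
    rw [sup_comm, coe_mul_of_left_le_normalizer_right _ _
      (inf_le_left.trans (core_normalized _) : L ≤ normalizer (core (cen a) : Set G))] at hq'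
    obtain ⟨l, hl, o, ho, hq''⟩ := Set.mem_mul.1 hq'
    obtain ⟨d, hd, s, hs, rfl⟩ := exists_split hSL hE.isTwo (hE.relIndex_odd hSL)
      (fun _ hn hnN => hE.mem_centralizer_of_two hnN ha ha1 hc hc1 hca
        (mem_centralizer_singleton_iff.1 hn.1) (mem_centralizer_singleton_iff.1 hn.2)) hl
    set m := d * (s * o * s⁻¹) with hm
    have hmM : m ∈ M0 := mul_mem (mem_sup_left hd)
      (mem_sup_right (ClosedAbelian.conj_mem_core (hE.le_cenS ha hs) ho))
    have hqm : q = m * s := by rw [← hq'', hm]; group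
    refine mem_of_sq_mem ?_ (odd_of_mem hQodd hq)
    rw [hqm, show m * s * (m * s) = m * (s * m * s⁻¹) * (s * s) by group, hE.sq s hs, mul_one]
    exact mul_mem hmM ((mem_normalizer_iff.1 (hSM0 hs) m).1 hmM)
  refine hQM.trans (hE.le_of_parts (fun hd => hM0odd (hd.trans (card_dvd_of_le inf_le_left)))
    (Signalizer.le_normalizer_inf hSM0 (hSH.trans le_normalizer)) (fun w hw hws => mem_sup_right
      ⟨hE.mem_dee ha ha1 hc hc1 hca (hws a ha) (hws c hc) (odd_of_mem hM0odd hw.1), hw.2⟩)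
    fun w hw p hp hp1 q hq hq1 hqp hwp hwq hwi hw1 => ?_)
  have ho := odd_of_mem hM0odd hw.1
  have hwa : w * a = a * w :=
    mem_centralizer_singleton_iff.1 ((sup_le hdle (core_le _) : M0 ≤ cen a) hw.1)
  by_cases hwc : w ∈ core (cen a)
  · exact mem_sup_left ⟨hwc, hw.2⟩
  rcases hE.dich hp hp1 hq hq1 hqp ho hw1 hwp hwq hwi hc with ⟨-, e⟩ | ⟨e, -⟩
  · exact mem_sup_right ⟨hE.mem_dee ha ha1 hc hc1 hca hwa (comm_iff_conj.2 e).symm ho, hw.2⟩
  · exfalso
    have hw' : w ∈ (M0 : Set G) := hw.1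
    rw [hM0, coe_mul_of_left_le_normalizer_right _ _ (hdle.trans (core_normalized _))] at hw'
    obtain ⟨d, hd, o, hoc, rfl⟩ := Set.mem_mul.1 hw'
    refine hwc (mem_of_sq_mem ?_ ho)
    have fd : c * d * c⁻¹ = d := comm_iff_conj.1 (comm_of_mem_dee hd).2.symm
    rw [conj_mul', fd] at e
    have ho' := ClosedAbelian.conj_mem_core (hE.le_cenS ha hc) hoc
    set o' := c * o * c⁻¹
    have e2 : d * o * (d * o) = o'⁻¹ * o := by
      calc d * o * (d * o) = (d * o')⁻¹ * (d * o) := by rw [e, inv_inv]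
        _ = _ := by group
    rw [e2]
    exact mul_mem (inv_mem ho') hoc

variable (hM : Min S)
include hM

/-- Proper subgroups with a bad element and a mover at `a` fix `a`. -/
theorem Min.iso {H : Subgroup G} (hH : H ≠ ⊤) (hSH : S ≤ H) {t b x : G} (ht : t ∈ S) (ht1 : t ≠ 1)
    (hb : b ∈ S) (hb1 : b ≠ 1) (hbt : b ≠ t) (hx : x ∈ H) (hbad : Bad S t b x) {a : G} (ha : a ∈ S)
    (ha1 : a ≠ 1) (hmov : HasMover S H a) : Iso S H a := by
  obtain ⟨y, hyH, hy, hya, hyC⟩ := hmov
  intro g hgH hg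
  by_contra hga
  have htr : ∀ {d}, d ∈ S → d ≠ 1 → ∃ h ∈ H, h ∈ normalizer (S : Set G) ∧ h * a * h⁻¹ = d :=
    fun hd hd1 => hM.eight.full ha ha1 hyH hy hya hyC hgH hg hga hd hd1
  refine hM.small H hH hSH ?_ ?_ t ht ht1 b hb hb1 hbt x hx hbad
  · intro p hp hp1 q hq hq1
    obtain ⟨h, hhH, hh, rfl⟩ := htr hp hp1
    obtain ⟨k, hkH, hk, rfl⟩ := htr hq hq1
    exact ⟨k * h⁻¹, mul_mem hkH (inv_mem hhH), mul_mem hk (inv_mem hh), by group⟩
  · intro p hp hp1
    obtain ⟨h, hhH, hh, rfl⟩ := htr hp hp1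
    refine ⟨h * y * h⁻¹, mul_mem (mul_mem hhH hyH) (inv_mem hhH), mul_mem (mul_mem hh hy) (inv_mem hh),
      by rw [← conj_mul', ← conj_mul', hya], fun hc => hyC (mem_centralizer_iff.2 fun s hs => ?_)⟩
    have := mem_centralizer_iff.1 hc (h * s * h⁻¹) (conj_mem hh hs)
    rw [← conj_mul', ← conj_mul'] at this
    exact conj_cancel this

/-- A nontrivial subgroup of odd order has a proper normaliser. -/
theorem Min.normalizer_ne_top {W : Subgroup G} (hW : ¬ 2 ∣ Nat.card W) (hne : W ≠ ⊥) :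
    normalizer (W : Set G) ≠ ⊤ := fun h => hne (hM.noOdd W (normalizer_eq_top_iff.1 h) hW)

variable {r : ℕ} [Fact r.Prime] {a t b x : G} {X N : Subgroup G}

/-- A prime of an inverted torus element is odd. -/
theorem Seed.ne_two (h : Seed S r a t b x X) : r ≠ 2 := by
  rintro rfl
  obtain ⟨k, hk⟩ := (IsPGroup.iff_orderOf.1 h.pgroup ⟨x, h.mem⟩)
  rw [orderOf_mk] at hk
  exact h.bad.2.ne ((ClosedAbelian.TwoEl.eq_one_of_odd ⟨k, by rw [← hk, pow_orderOf_eq_one]⟩)
    h.bad.2.2.2.2.1)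

omit hM in
theorem odd_pgroup (hr : r ≠ 2) {P : Subgroup G} (hP : IsPGroup r P) : ¬ 2 ∣ Nat.card P := by
  obtain ⟨k, hk⟩ := hP.exists_card_eq
  rw [hk]
  exact fun h => hr ((Nat.prime_dvd_prime_iff_eq Nat.prime_two (Fact.out : r.Prime)).1
    (Nat.prime_two.dvd_of_dvd_pow h)).symm

theorem Seed.iso (h : Seed S r a t b x X) (hN : Holds S a X N) : Iso S N a :=
  hM.iso hN.1 hN.2.1 h.ht h.ht1 h.hb h.hb1 h.hbt (hN.2.2.1 h.mem) h.bad h.ha h.ha1 hN.2.2.2

theorem Seed.mem_core (h : Seed S r a t b x X) (hN : Holds S a X N) : x ∈ core N := by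
  have hE := hM.eight
  rcases h.side with e | e
  · exact hE.core_cen_le hN.2.1 h.ha h.ha1 (Seed.iso hM h hN) ⟨e, hN.2.2.1 h.mem⟩
  · exact hE.inv_mem_core hN.2.1 h.ha h.ha1 (Seed.iso hM h hN) (hN.2.2.1 h.mem) h.bad.2.2.2.2.1 e

/-- An invariant Sylow `r`-subgroup of `N` containing `X`. -/
theorem Seed.exists_sylow (h : Seed S r a t b x X) (hN : Holds S a X N) :
    ∃ P : Subgroup G, X ≤ P ∧ P ≤ N ∧ IsPGroup r P ∧ S ≤ normalizer (P : Set G) ∧
      ¬ r ∣ P.relIndex N := by
  have hE := hM.eight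
  have hSN := hN.2.1
  have hiso := Seed.iso hM h hN
  obtain ⟨c, hc, hc1, hca, z, hz, hzT⟩ := h.torus
  have hXodd := odd_pgroup (Seed.ne_two hM h) h.pgroup
  set O := core N with hOdef
  set D := dee a c ⊓ N with hD
  set U := D ⊔ O with hU
  have hDO : D ≤ normalizer (O : Set G) := inf_le_right.trans (core_normalized N)
  have hSdee : S ≤ normalizer (dee a c : Set G) :=
    (le_inf (hE.le_cenS h.ha) (hE.le_cenS hc)).trans (core_normalized _)
  have hSU : S ≤ normalizer (U : Set G) := fun s hs => normalizer_inf_normalizer_le_normalizer_sup _ _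
    ⟨Signalizer.le_normalizer_inf hSdee (hSN.trans le_normalizer) hs, core_normalized N (hSN hs)⟩
  have hUN : U ≤ N := sup_le inf_le_right (core_le N)
  have hUodd : ¬ 2 ∣ Nat.card U := ClosedAbelian.sup_core_odd inf_le_right
    fun hd => core_odd _ (hd.trans (card_dvd_of_le inf_le_left))
  have hXU : X ≤ U := by
    refine hE.le_of_parts hXodd h.inv (fun w hw hws => mem_sup_left ⟨?_, hN.2.2.1 hw⟩)
      fun w hw p hp hp1 q hq hq1 hqp hwp hwq hwi hw1 => ?_
    · exact hE.mem_dee h.ha h.ha1 hc hc1 hca (hws a h.ha) (hws c hc) (odd_of_mem hXodd hw)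
    have ho := odd_of_mem hXodd hw
    rcases hE.dich hp hp1 hq hq1 hqp ho hw1 hwp hwq hwi h.ha with ⟨-, e⟩ | ⟨e, -⟩
    · by_cases hwc : w ∈ core (cen a)
      · exact mem_sup_right (hE.core_cen_le hSN h.ha h.ha1 hiso ⟨hwc, hN.2.2.1 hw⟩)
      obtain ⟨d, hd, hd1, hda, hwd⟩ : ∃ d ∈ S, d ≠ 1 ∧ d ≠ a ∧ w * d = d * w := by
        by_cases hpa : p = a
        · exact ⟨q, hq, hq1, fun e => hqp (e.trans hpa.symm), hwq⟩
        · exact ⟨p, hp, hp1, hpa, hwp⟩
      have hwa : w * a = a * w := (comm_iff_conj.2 e).symm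
      have hwT : Tor S a d w := ⟨hwa, hwd, hwi, ho, hwc⟩
      have hdc := hE.one_line hM.one hXodd h.inv h.ha h.ha1 hc hc1 hca hd hd1 hda hz hw hzT hwT
      refine mem_sup_left ⟨hE.mem_dee h.ha h.ha1 hc hc1 hca hwa ?_ ho, hN.2.2.1 hw⟩
      rcases hdc with e' | e'
      · exact e' ▸ hwd
      · have h2 : Commute w (a * d) := (show Commute w a from hwa).mul_right hwd
        rwa [e', ← mul_assoc, hE.sq a h.ha, one_mul] at h2
    · exact mem_sup_right (hE.inv_mem_core hSN h.ha h.ha1 hiso (hN.2.2.1 hw) ho e)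
  obtain ⟨P0, hXP, hP0S⟩ := CoprimeAct.exists_invariant_sylow_ge hSU (hE.coprime_odd hUodd)
    (Or.inl hE.solvable) hXU h.pgroup h.inv
  refine ⟨_, hXP, (map_subtype_le _).trans hUN, P0.isPGroup'.map _, hP0S, ?_⟩
  -- the index of `U` is prime to `r`
  set K := N ⊓ cen a with hK
  obtain ⟨k, hk⟩ := IsPGroup.iff_orderOf.1 h.pgroup ⟨z, hz⟩
  rw [orderOf_mk] at hk
  obtain ⟨Q, hQK, hQp, hQidx, hQle⟩ := hM.torus a h.ha h.ha1 c hc hc1 hca K inf_le_right
    (le_inf hSN (hE.le_cenS h.ha)) r Fact.out z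
    ⟨hN.2.2.1 hz, mem_centralizer_singleton_iff.2 hzT.1⟩ ⟨k, hk⟩ hzT.2.1 hzT.2.2.1 hzT.2.2.2.2
  have hr := Seed.ne_two hM h
  have hQU : Q ≤ U := (hE.parts_le hSN (hQK.trans inf_le_left) (odd_pgroup hr hQp) h.ha h.ha1 hc hc1
    hca hQle).trans (sup_le ((hE.core_cen_le hSN h.ha h.ha1 hiso).trans le_sup_right) le_sup_left)
  have hidx : ¬ r ∣ U.relIndex N := by
    have h1 : (U ⊓ K).relIndex K ∣ Q.relIndex K := relIndex_dvd_of_le_left K (le_inf hQU hQK)
    have hKO : K ≤ normalizer (O : Set G) := inf_le_left.trans (core_normalized N)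
    have hNeq : K ⊔ O = N := by
      refine le_antisymm (sup_le inf_le_left (core_le N)) fun g hg => ?_
      obtain ⟨o, ho, hog⟩ := hE.iso_split hSN h.ha h.ha1 hiso hg
      rw [show g = o⁻¹ * (o * g) by group]
      exact mul_mem (mem_sup_right (inv_mem ho))
        (mem_sup_left ⟨mul_mem (core_le N ho) hg, hog⟩)
    have hUeq : U ⊓ K ⊔ O = U := by
      refine le_antisymm (sup_le inf_le_left le_sup_right) fun u hu => ?_
      have hu' : u ∈ ((K ⊔ O : Subgroup G) : Set G) := hNeq.ge (hUN hu)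
      rw [coe_mul_of_left_le_normalizer_right _ _ hKO] at hu'
      obtain ⟨k, hk, o, ho, rfl⟩ := Set.mem_mul.1 hu'
      refine mul_mem (mem_sup_left ⟨?_, hk⟩) (mem_sup_right ho)
      have := mul_mem hu (inv_mem (mem_sup_right (S := D) ho : o ∈ U))
      rwa [mul_inv_cancel_right] at this
    have e1 := LenEight.card_sup_mul_inf hKO
    have e2 := LenEight.card_sup_mul_inf ((inf_le_right : U ⊓ K ≤ K).trans hKO)
    have e3 : U ⊓ K ⊓ O = K ⊓ O := le_antisymm (inf_le_inf_right _ inf_le_right)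
      fun y hy => ⟨⟨mem_sup_right hy.2, hy.1⟩, hy.2⟩
    rw [hNeq] at e1
    rw [hUeq, e3] at e2
    have e : U.relIndex N = (U ⊓ K).relIndex K := by
      have f1 := PBasic.card_mul_relIndex hUN
      have f2 := PBasic.card_mul_relIndex (inf_le_right : U ⊓ K ≤ K)
      apply Nat.eq_of_mul_eq_mul_left (Nat.mul_pos (Nat.card_pos (α := U))
        (Nat.card_pos (α := (K ⊓ O : Subgroup G))))
      calc Nat.card U * Nat.card (K ⊓ O : Subgroup G) * U.relIndex N
          = Nat.card U * U.relIndex N * Nat.card (K ⊓ O : Subgroup G) := by ring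
        _ = Nat.card N * Nat.card (K ⊓ O : Subgroup G) := by rw [f1]
        _ = Nat.card K * Nat.card O := e1
        _ = Nat.card (U ⊓ K : Subgroup G) * Nat.card O * (U ⊓ K).relIndex K := by rw [← f2]; ring
        _ = _ := by rw [← e2]
    rw [e]
    exact fun hd => hQidx (hd.trans h1)
  rw [← relIndex_mul_relIndex _ U N (map_subtype_le _) hUN]
  intro hd
  rcases (Nat.Prime.dvd_mul Fact.out).1 hd with h1 | h1
  · refine P0.not_dvd_index ?_
    have e : ((P0 : Subgroup U).map U.subtype).relIndex U = (P0 : Subgroup U).index := by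
      rw [relIndex, subgroupOf, comap_map_eq_self_of_injective U.subtype_injective]
    rwa [e] at h1
  · exact hidx h1

/-- The mover moves to `N(Z(J(P)))`. -/
theorem Seed.exists_next (h : Seed S r a t b x X) (hN : Holds S a X N) :
    ∃ P : Subgroup G, X ≤ P ∧ P ≤ N ∧ IsPGroup r P ∧ S ≤ normalizer (P : Set G) ∧
      ¬ r ∣ P.relIndex N ∧ Holds S a P (normalizer (ZJ.zJ r False P : Set G)) := by
  haveI : Fact (Nat.Prime 2) := ⟨Nat.prime_two⟩
  have hE := hM.eight
  have hr := Seed.ne_two hM h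
  have hSN := hN.2.1
  have hiso := Seed.iso hM h hN
  obtain ⟨P, hXP, hPN, hPp, hSP, hPidx⟩ := Seed.exists_sylow hM h hN
  obtain ⟨c, hc, hc1, hca, z, hz, hzT⟩ := h.torus
  obtain ⟨y, hyN, hy, hya, hyC⟩ := hN.2.2.2
  set O := core N with hOdef
  set R := P ⊓ O with hR
  have hSR : S ≤ normalizer (R : Set G) :=
    Signalizer.le_normalizer_inf hSP (hSN.trans (core_normalized N))
  have hxR : x ∈ R := ⟨hXP h.mem, Seed.mem_core hM h hN⟩
  set M := N ⊓ normalizer (R : Set G) with hMdef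
  have hSM : S ≤ M := le_inf hSN hSR
  have hOM : ¬ 2 ∣ Nat.card (O ⊓ M : Subgroup G) :=
    fun hd => core_odd N (hd.trans (card_dvd_of_le inf_le_left))
  have hMn : M ≤ normalizer ((O ⊓ M : Subgroup G) : Set G) :=
    Signalizer.le_normalizer_inf (inf_le_left.trans (core_normalized N)) le_normalizer
  -- Frattini
  have hRidx : ¬ r ∣ R.relIndex O := fun hd =>
    hPidx (hd.trans (relIndex_inf_dvd hPN (core_le N) (core_normalized N)))
  let RS : Sylow r O := ((hPp.to_le inf_le_left).comap_subtype : IsPGroup r (R.subgroupOf O)).toSylow hRidx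
  obtain ⟨k, hk, hky⟩ := IsolatedP.exists_mul_normalizer RS (core_normalized N hyN)
  rw [show (RS : Subgroup O).map O.subtype = R from map_subgroupOf_eq_of_le inf_le_right] at hky
  have hkyM : k⁻¹ * y ∈ M := mem_inf.2 ⟨mul_mem (inv_mem (core_le N hk)) hyN, hky⟩
  obtain ⟨y1, hy1M, hy1, hy1e⟩ := hE.exists_fix hSM inf_le_right hMn hOM hkyM hy fun s hs => by
    refine mem_inf.2 ⟨?_, ?_⟩
    · have h1 := ClosedAbelian.conj_mem_core (hSN (conj_mem hy hs)) hk
      have e : k⁻¹ * y * s * (k⁻¹ * y)⁻¹ * (y * s * y⁻¹)⁻¹ =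
          k⁻¹ * ((y * s * y⁻¹) * k * (y * s * y⁻¹)⁻¹) := by group
      rw [e]
      exact mul_mem (inv_mem hk) h1
    · exact mul_mem (mul_mem (mul_mem hkyM (hSM hs)) (inv_mem hkyM)) (inv_mem (hSM (conj_mem hy hs)))
  have hy1a : y1 * a = a * y1 := comm_iff_conj.2 (by rw [hy1e a h.ha]; exact comm_iff_conj.1 hya)
  have hy1C : y1 ∉ centralizer (S : Set G) := fun hc' => hyC (mem_centralizer_iff.2 fun s hs =>
    (comm_iff_conj.2 ((hy1e s hs).symm.trans
      (comm_iff_conj.1 (mem_centralizer_iff.1 hc' s hs).symm))).symm)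
  -- the centraliser of `R`
  set C0 := M ⊓ centralizer (R : Set G) with hC0
  have hMC0 : M ≤ normalizer (C0 : Set G) := Signalizer.le_normalizer_inf le_normalizer fun m hm =>
    normalizer_le_normalizer_cent _ hm.2
  set T := S ⊓ centralizer (R : Set G) with hT
  have hTC0 : T ≤ C0 := fun s hs => ⟨hSM hs.1, hs.2⟩
  have hTidx : ¬ 2 ∣ T.relIndex C0 := fun hd => by
    have e : S ⊓ C0 = T := le_antisymm (fun s hs => ⟨hs.1, hs.2.2⟩) fun s hs => ⟨hs.1, hTC0 hs⟩
    exact hE.relIndex_odd hSM (hd.trans (e ▸ relIndex_inf_dvd hSM inf_le_left hMC0))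
  have hTy : ∀ d ∈ T, y1 * d * y1⁻¹ ∈ T := fun d hd =>
    ⟨conj_mem hy1 hd.1, (mem_normalizer_iff.1 (normalizer_le_normalizer_cent _ hy1M.2) d).1 hd.2⟩
  have hTx : ∀ d ∈ T, x * d = d * x := fun d hd => mem_centralizer_iff.1 hd.2 x hxR
  have hbx := h.bad.2
  have hTT : T ≤ zpowers a := by
    intro d hd
    by_cases hd1 : d = 1
    · exact hd1 ▸ one_mem _
    by_cases hda : d = a
    · exact hda ▸ mem_zpowers a
    exfalso
    set d' := y1 * d * y1⁻¹ with hd'
    obtain ⟨n1, n2⟩ := hE.mover_not h.ha h.ha1 hy1 hy1a hy1C hd.1 hd1 hda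
    have hd'T := hTy d hd
    have hd'1 : d' ≠ 1 := conj_ne_one hd1
    rcases h.side with e | e
    · -- `a` on the line of `x`
      have hxa : x * a = a * x := comm_of_mem_core e
      rcases hE.mem_line hd.1 hd1 h.ha h.ha1 (Ne.symm hda) hbx.2.2.2.1 hbx.ne (hTx d hd) hxa hbx.2.2.1
        hd'T.1 (hTx d' hd'T) with f | f | f | f
      · exact hd'1 f
      · exact n1 f
      · exact hE.mover_ne h.ha h.ha1 hy1 hy1a hy1C hda f
      · exact n2 (f.trans (hE.scomm hd.1 h.ha))
    · -- `a` inverts `x`, so `T` is the line of `x`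
      have hline : ∀ w ∈ S, x * w = w * x → w ∈ T := by
        intro w hw hwx
        rcases hE.mem_line hd.1 hd1 hd'T.1 hd'1 n1 hbx.2.2.2.1 hbx.ne (hTx d hd) (hTx d' hd'T)
          hbx.2.2.1 hw hwx with f | f | f | f <;> rw [f]
        exacts [one_mem _, hd, hd'T, mul_mem hd hd'T]
      have hbT : b ∈ T := hline b h.hb hbx.1
      have htT : t ∈ T := hline t h.ht hbx.2.1
      have hTline : ∀ w ∈ T, w = 1 ∨ w = t ∨ w = b ∨ w = t * b := fun w hw =>
        hE.mem_line h.ht h.ht1 h.hb h.hb1 h.hbt hbx.2.2.2.1 hbx.ne hbx.2.1 hbx.1 hbx.2.2.1 hw.1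
          (hTx w hw)
      have hTp : IsPGroup 2 T := hE.isTwo.to_le inf_le_left
      have hsplit : ∀ n ∈ C0, n ∈ normalizer (T : Set G) → n ∈ centralizer (T : Set G) := by
        intro n hn hnT
        have hnx : n * x * n⁻¹ = x :=
          comm_iff_conj.1 (mem_centralizer_iff.1 hn.2 x hxR).symm
        have hno : ∀ m : G, m * x * m⁻¹ = x → m * t * m⁻¹ ≠ b := fun m hm hmb => hbx.2.2.2.2 (by
          have := conj_mem_core (g := m) h.bad.1
          rwa [hm, hmb] at this)
        have ct : n * t = t * n := by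
          refine hE.comm_of_sq hTp hnT htT ?_
          rcases hTline _ ((mem_normalizer_iff.1 hnT t).1 htT) with f | f | f | f
          · exact absurd f (conj_ne_one h.ht1)
          · exact ((Commute.mul_left (comm_iff_conj.2 f) (comm_iff_conj.2 f) : Commute (n * n) t)).eq
          · exact absurd f (hno n hnx)
          · refine comm_iff_conj.2 ?_
            rcases hTline _ ((mem_normalizer_iff.1 (mul_mem hnT hnT) t).1 htT) with g | g | g | g
            · exact absurd g (conj_ne_one h.ht1)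
            · exact g
            · exact absurd g (hno _ (by rw [← conj_conj, hnx, hnx]))
            · rw [← conj_conj] at g
              exact absurd (mul_eq_left.1 (f.symm.trans (conj_cancel (g.trans f.symm)))) h.hb1
        have cb : n * b = b * n := by
          refine hE.comm_of_sq hTp hnT hbT ?_
          have ft := comm_iff_conj.1 ct
          refine comm_iff_conj.2 ?_
          rw [← conj_conj]
          rcases hTline _ ((mem_normalizer_iff.1 hnT b).1 hbT) with f | f | f | f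
          · exact absurd f (conj_ne_one h.hb1)
          · exact absurd (conj_cancel (f.trans ft.symm)) h.hbt
          · rw [f, f]
          · rw [f, conj_mul', ft, f, ← mul_assoc, hE.sq t h.ht, one_mul]
        refine mem_centralizer_iff.2 fun w hw => ?_
        have ct' : Commute n t := ct
        have cb' : Commute n b := cb
        rcases hTline w hw with f | f | f | f <;> rw [f]
        exacts [(Commute.one_right n).eq.symm, ct'.eq.symm, cb'.eq.symm, (ct'.mul_right cb').eq.symm]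
      -- `z` centralises `T` modulo the core
      have hzR : z ∈ M := ⟨hN.2.2.1 hz, Signalizer.le_normalizer_inf (A := P) le_normalizer
        (hPN.trans (core_normalized N)) (hXP hz)⟩
      set O0 := core C0 with hO0
      have hO0M : M ≤ normalizer (O0 : Set G) :=
        hMC0.trans (ClosedAbelian.normalizer_le_normalizer_core _)
      have hO0O : O0 ≤ O := by
        have hle : O0 ≤ N := (core_le _).trans (inf_le_left.trans inf_le_left)
        refine (le_sup_left : O0 ≤ O0 ⊔ O).trans (le_core (sup_le hle (core_le N)) ?_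
          (ClosedAbelian.sup_core_odd hle (core_odd _)))
        intro g hg
        obtain ⟨k, hk, hkg⟩ := IsolatedP.exists_mul_normalizer RS (core_normalized N hg)
        rw [show (RS : Subgroup O).map O.subtype = R from map_subgroupOf_eq_of_le inf_le_right] at hkg
        have hkgM : k⁻¹ * g ∈ M := mem_inf.2 ⟨mul_mem (inv_mem (core_le N hk)) hg, hkg⟩
        have h1 : k⁻¹ * g ∈ normalizer ((O0 ⊔ O : Subgroup G) : Set G) :=
          normalizer_inf_normalizer_le_normalizer_sup _ _ ⟨hO0M hkgM, core_normalized N hkgM.1⟩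
        have := mul_mem (le_normalizer (mem_sup_right (S := O0) hk)) h1
        rwa [mul_inv_cancel_left] at this
      have hzT' : ∀ w ∈ T, z * w * z⁻¹ * w⁻¹ ∈ O := by
        have hzz : z * z ∈ M := mul_mem hzR hzR
        -- `z w z⁻¹ = o w'`
        have hmod : ∀ m ∈ M, ∀ w ∈ T, ∃ o ∈ O, ∃ w' ∈ T, m * w * m⁻¹ = o * w' := by
          intro m hm w hw
          obtain ⟨o, ho, w', hw', e⟩ := exists_split hTC0 hTp hTidx hsplit
            ((mem_normalizer_iff.1 (hMC0 hm) w).1 (hTC0 hw))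
          exact ⟨o, hO0O ho, w', hw', e⟩
        have huniq : ∀ {o w o' w' : G}, o ∈ O → w ∈ T → o' ∈ O → w' ∈ T → o * w = o' * w' → w = w' := by
          intro o w o' w' ho hw ho' hw' e
          have h1 : w * w'⁻¹ ∈ O := by
            rw [show w * w'⁻¹ = o⁻¹ * (o * w) * w'⁻¹ by group, e,
              show o⁻¹ * (o' * w') * w'⁻¹ = o⁻¹ * o' by group]
            exact mul_mem (inv_mem ho) ho'
          exact mul_inv_eq_one.1 (eq_one_of_sq (odd_of_mem (core_odd N) h1)
            (hE.sq _ (mul_mem hw.1 (inv_mem hw'.1))))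
        obtain ⟨p0, hp0T, hp01, hzp⟩ : ∃ p0 ∈ T, p0 ≠ 1 ∧ z * p0 = p0 * z := by
          rcases hE.dich hd.1 hd1 hd'T.1 hd'1 n1 hbx.2.2.2.1 hbx.ne (hTx d hd) (hTx d' hd'T) hbx.2.2.1
            hc with ⟨-, f⟩ | ⟨f, -⟩
          · exact ⟨c, hline c hc (comm_iff_conj.2 f).symm, hc1, hzT.2.1⟩
          · refine ⟨a * c, hline _ (mul_mem h.ha hc) ?_, fun f' => hca ?_,
              ((show Commute z a from hzT.1).mul_right hzT.2.1).eq⟩
            · refine (comm_iff_conj.2 ?_).symm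
              rw [← conj_conj, f, show a * x⁻¹ * a⁻¹ = (a * x * a⁻¹)⁻¹ by group, e, inv_inv]
            · rw [mul_eq_one_iff_inv_eq, hE.inv_eq h.ha] at f'; exact f'.symm
        have hfix0 : z * p0 * z⁻¹ = p0 := comm_iff_conj.1 hzp
        intro w hw
        obtain ⟨o, ho, w', hw', e1⟩ := hmod z hzR w hw
        suffices w' = w by
          rw [e1, this]
          simpa using ho
        by_cases hw1 : w = 1
        · subst hw1
          exact (huniq ho hw' (one_mem O) (one_mem T) (by rw [← e1]; group))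
        by_cases hwp : w = p0
        · subst hwp
          exact (huniq ho hw' (one_mem O) hw (by rw [← e1, hfix0, one_mul]))
        -- the third point
        have hTq : ∀ v ∈ T, v = 1 ∨ v = p0 ∨ v = w ∨ v = p0 * w := fun v hv =>
          hE.mem_line hp0T.1 hp01 hw.1 hw1 hwp hbx.2.2.2.1 hbx.ne (hTx p0 hp0T) (hTx w hw) hbx.2.2.1
            hv.1 (hTx v hv)
        rcases hTq w' hw' with f | f | f | f
        · exfalso
          refine hw1 (eq_one_of_sq (odd_of_mem (core_odd N) (?_ : w ∈ O)) (hE.sq w hw.1))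
          rw [show w = z⁻¹ * (z * w * z⁻¹) * z by group, e1, f, mul_one]
          simpa using ClosedAbelian.conj_mem_core (inv_mem hzR.1) ho
        · exfalso
          have h2 : z * (w * p0) * z⁻¹ = o := by
            rw [conj_mul', e1, hfix0, f, mul_assoc, hE.sq p0 hp0T.1, mul_one]
          refine hwp (mul_inv_eq_one.1 (eq_one_of_sq (odd_of_mem (core_odd N) (?_ : w * p0⁻¹ ∈ O))
            (hE.sq _ (mul_mem hw.1 (inv_mem hp0T.1)))))
          rw [hE.inv_eq hp0T.1, show w * p0 = z⁻¹ * (z * (w * p0) * z⁻¹) * z by group, h2]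
          simpa using ClosedAbelian.conj_mem_core (inv_mem hzR.1) ho
        · exact f
        · exfalso
          obtain ⟨m, hm⟩ := hzT.2.2.2.1
          have step : ∀ j : ℕ, ∃ o ∈ O, z ^ j * w * (z ^ j)⁻¹ = o * (if Even j then w else p0 * w) := by
            intro j
            induction j with
            | zero => exact ⟨1, one_mem O, by simp⟩
            | succ j ih =>
              obtain ⟨o2, ho2, e2⟩ := ih
              refine ⟨z * o2 * z⁻¹ * (if Even j then o else p0 * o * p0⁻¹), mul_mem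
                (ClosedAbelian.conj_mem_core hzR.1 ho2) ?_, ?_⟩
              · split_ifs
                exacts [ho, ClosedAbelian.conj_mem_core (hSN hp0T.1) ho]
              · rw [pow_succ', ← conj_conj, e2, conj_mul']
                by_cases hj : Even j
                · rw [if_pos hj, if_pos hj, if_neg (by simp [Nat.even_add_one, hj]), e1, f]
                  group
                · rw [if_neg hj, if_neg hj, if_pos (by simp [Nat.even_add_one, hj]), conj_mul', hfix0,
                    e1, f]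
                  calc z * o2 * z⁻¹ * (p0 * (o * (p0 * w)))
                      = z * o2 * z⁻¹ * (p0 * o * p0⁻¹) * ((p0 * p0) * w) := by group
                    _ = _ := by rw [hE.sq p0 hp0T.1, one_mul]
          obtain ⟨o2, ho2, e2⟩ := step (orderOf z)
          rw [if_neg (Nat.not_even_iff_odd.2 ⟨m, hm⟩), pow_orderOf_eq_one] at e2
          simp only [one_mul, inv_one, mul_one] at e2
          have h3 := huniq (one_mem O) hw ho2 (mul_mem hp0T hw) (by rwa [one_mul])
          exact hp01 (mul_eq_right.1 h3.symm)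
      -- hence `z` is in the core
      have hzO : z ∈ O := by
        obtain ⟨u, hu, huz⟩ := hzT.2.2.1
        refine mem_of_sq_mem ?_ hzT.2.2.2.1
        have hw0 : ∀ u', u' ∈ S → u' * z * u'⁻¹ = z⁻¹ → u' ∈ T → z * z ∈ O := fun u' _ h1 h2 => by
          have := hzT' u' h2
          rwa [show z * u' * z⁻¹ * u'⁻¹ = z * (u' * z * u'⁻¹)⁻¹ by group, h1, inv_inv] at this
        by_cases hux : x * u = u * x
        · exact hw0 u hu huz (hline u hu hux)
        · refine hw0 (a * u) (mul_mem h.ha hu) ?_ (hline _ (mul_mem h.ha hu) ?_)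
          · rw [← conj_conj, huz, show a * z⁻¹ * a⁻¹ = (a * z * a⁻¹)⁻¹ by group,
              comm_iff_conj.1 hzT.1.symm]
          · rcases hE.dich hd.1 hd1 hd'T.1 hd'1 n1 hbx.2.2.2.1 hbx.ne (hTx d hd) (hTx d' hd'T)
              hbx.2.2.1 hu with ⟨-, f⟩ | ⟨f, -⟩
            · exact absurd (comm_iff_conj.2 f).symm hux
            · refine (comm_iff_conj.2 ?_).symm
              rw [← conj_conj, f, show a * x⁻¹ * a⁻¹ = (a * x * a⁻¹)⁻¹ by group, e, inv_inv]
      have hzT2 : Tor S a (y1 * c * y1⁻¹) (y1 * z * y1⁻¹) := by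
        have := hzT.conj (g := y1) hy1
        rwa [comm_iff_conj.1 hy1a] at this
      have hz2 : y1 * z * y1⁻¹ ∈ O := ClosedAbelian.conj_mem_core hy1M.1 hzO
      obtain ⟨k1, k2⟩ := hE.mover_not h.ha h.ha1 hy1 hy1a hy1C hc hc1 hca
      rcases hE.one_line hM.one (core_odd N) (hSN.trans (core_normalized N)) h.ha h.ha1 hc hc1 hca
        (conj_mem hy1 hc) (conj_ne_one hc1) (hE.mover_ne h.ha h.ha1 hy1 hy1a hy1C hca) hzO hz2 hzT
        hzT2 with f | f
      exacts [k1 f, k2 f]
  -- fusion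
  have hT2 : ∀ n ∈ C0, n ∈ normalizer (T : Set G) → n ∈ centralizer (T : Set G) := by
    intro n _ hnT
    refine mem_centralizer_iff.2 fun w hw => ?_
    rcases zpowers_two (hE.sq a h.ha) (hTT hw) with f | f
    · rw [f]; simp
    · have h1 := (mem_normalizer_iff.1 hnT w).1 hw
      rcases zpowers_two (hE.sq a h.ha) (hTT h1) with g | g
      · exact absurd g (conj_ne_one (f ▸ h.ha1))
      · rw [f] at g ⊢
        exact (comm_iff_conj.2 g).symm
  let P' : Sylow r N := (hPp.comap_subtype : IsPGroup r (P.subgroupOf N)).toSylow hPidx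
  obtain ⟨n, hn, hne⟩ := PStable.exists_mem_normalizer_zJ (e := False) hr (G := ↥N)
    (fun Y _ _ hY _ => by
      obtain ⟨K, f, hf⟩ := hY
      exact PStable.isQuad_of_not_involves_sl2 hr (not_involves_sl2 hr fun g =>
        ne_four_of_surjective (fun g' => by rw [← orderOf_coe]; exact hE.no_four _) f hf g))
    P' (A := {v : N | (v : G) ∈ R}) (g := ⟨y1, hy1M.1⟩) (fun v hv => hv.1)
    (by rintro _ ⟨v, hv, rfl⟩; exact ((mem_normalizer_iff.1 hy1M.2 (v : G)).1 hv).1)
  have hnZ : (n : G) ∈ normalizer (ZJ.zJ r False P : Set G) := by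
    have := le_normalizer_map N.subtype ⟨n, hn, rfl⟩
    rwa [ZJ.zJ_map N.subtype N.subtype_injective.injOn,
      show (P' : Subgroup N).map N.subtype = P from map_subgroupOf_eq_of_le hPN] at this
  have hcc : y1⁻¹ * (n : G) ∈ centralizer (R : Set G) := mem_centralizer_iff.2 fun v hv => by
    have h1 : (n : G) * v * (n : G)⁻¹ = y1 * v * y1⁻¹ :=
      congrArg Subtype.val (hne ⟨v, core_le N hv.2⟩ hv)
    refine (comm_iff_conj.2 ?_).symm
    calc y1⁻¹ * (n : G) * v * (y1⁻¹ * (n : G))⁻¹ = y1⁻¹ * ((n : G) * v * (n : G)⁻¹) * y1 := by group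
      _ = v := by rw [h1]; group
  have hcM : y1⁻¹ * (n : G) ∈ M := by
    refine mem_inf.2 ⟨mul_mem (inv_mem hy1M.1) n.2, centralizer_le_normalizer _ hcc⟩
  obtain ⟨o, ho, s, hs, hns⟩ := exists_split hTC0 (hE.isTwo.to_le inf_le_left) hTidx hT2 ⟨hcM, hcc⟩
  have hoO : o ∈ O := by
    have hle : core C0 ≤ N := (core_le _).trans (inf_le_left.trans inf_le_left)
    refine (le_sup_left : core C0 ≤ core C0 ⊔ O).trans (le_core (sup_le hle (core_le N)) ?_
      (ClosedAbelian.sup_core_odd hle (core_odd _))) ho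
    intro g hg
    obtain ⟨k, hk, hkg⟩ := IsolatedP.exists_mul_normalizer RS (core_normalized N hg)
    rw [show (RS : Subgroup O).map O.subtype = R from map_subgroupOf_eq_of_le inf_le_right] at hkg
    have hkgM : k⁻¹ * g ∈ M := mem_inf.2 ⟨mul_mem (inv_mem (core_le N hk)) hg, hkg⟩
    have h1 : k⁻¹ * g ∈ normalizer ((core C0 ⊔ O : Subgroup G) : Set G) :=
      normalizer_inf_normalizer_le_normalizer_sup _ _
        ⟨(hMC0.trans (ClosedAbelian.normalizer_le_normalizer_core _)) hkgM, core_normalized N hkgM.1⟩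
    have := mul_mem (le_normalizer (mem_sup_right (S := core C0) hk)) h1
    rwa [mul_inv_cancel_left] at this
  set Z := ZJ.zJ r False P with hZ
  have hPZ : P ≤ normalizer (Z : Set G) := ZJ.le_normalizer_zJ P
  have hSZ : S ≤ normalizer (Z : Set G) := hSP.trans (ZJ.normalizer_le_normalizer_zJ P)
  set H0 := N ⊓ normalizer (Z : Set G) with hH0
  obtain ⟨y2, hy2M, hy2, hy2e⟩ := hE.exists_fix (O := O ⊓ H0) (le_inf hSN hSZ) inf_le_right
    (Signalizer.le_normalizer_inf (inf_le_left.trans (core_normalized N)) le_normalizer)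
    (fun hd => core_odd N (hd.trans (card_dvd_of_le inf_le_left))) (show (n : G) ∈ H0 from ⟨n.2, hnZ⟩)
    hy1 fun v hv => by
      refine mem_inf.2 ⟨?_, ?_⟩
      · have hn' : (n : G) = y1 * o * s := by rw [mul_assoc, ← hns]; group
        rw [hn', show y1 * o * s * v * (y1 * o * s)⁻¹ * (y1 * v * y1⁻¹)⁻¹ =
          y1 * (o * ((s * v * s⁻¹) * o⁻¹ * v⁻¹)) * y1⁻¹ by group,
          comm_iff_conj.1 (hE.scomm hs.1 hv)]
        exact ClosedAbelian.conj_mem_core hy1M.1 (mul_mem hoO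
          (ClosedAbelian.conj_mem_core (hSN hv) (inv_mem hoO)))
      · exact mul_mem (mul_mem (mul_mem ⟨n.2, hnZ⟩ ⟨hSN hv, hSZ hv⟩)
          (inv_mem (show (n : G) ∈ H0 from ⟨n.2, hnZ⟩)))
          (inv_mem ⟨hSN (conj_mem hy1 hv), hSZ (conj_mem hy1 hv)⟩)
  refine ⟨P, hXP, hPN, hPp, hSP, hPidx, ?_, hSZ, hPZ, y2, hy2M.2, hy2,
    comm_iff_conj.2 (by rw [hy2e a h.ha]; exact comm_iff_conj.1 hy1a),
    fun hc' => hy1C (mem_centralizer_iff.2 fun s hs => (comm_iff_conj.2 ((hy2e s hs).symm.trans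
      (comm_iff_conj.1 (mem_centralizer_iff.1 hc' s hs).symm))).symm)⟩
  refine hM.normalizer_ne_top (odd_pgroup hr (hPp.to_le (ZJ.zJ_le P))) fun h0 => ?_
  refine ZJ.zCore_ne_bot (p := r) (e := False) hPp ?_ (eq_bot_iff.2 ((ZJ.zCore_le_zJ P).trans h0.le))
  exact fun hb0 => hbx.ne (mem_bot.1 (hb0 ▸ hXP h.mem))

omit hM in
theorem Seed.grow (h : Seed S r a t b x X) {P : Subgroup G} (hXP : X ≤ P) (hP : IsPGroup r P)
    (hSP : S ≤ normalizer (P : Set G)) : Seed S r a t b x P := by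
  obtain ⟨c, hc, hc1, hca, z, hz, hzT⟩ := h.torus
  exact { h with mem := hXP h.mem, pgroup := hP, inv := hSP, torus := ⟨c, hc, hc1, hca, z, hXP hz, hzT⟩ }

/-- The climb. -/
theorem Seed.climb (h : Seed S r a t b x X) (hN : Holds S a X N) :
    ∃ P : Subgroup G, X ≤ P ∧ IsPGroup r P ∧ S ≤ normalizer (P : Set G) ∧ ¬ r ∣ P.index ∧
      Holds S a P (normalizer (ZJ.zJ r False P : Set G)) := by
  classical
  obtain ⟨P, ⟨hXP, hPp, hSP, N', hN'⟩, hmax⟩ := Set.exists_max_image
    {P : Subgroup G | X ≤ P ∧ IsPGroup r P ∧ S ≤ normalizer (P : Set G) ∧ ∃ N', Holds S a P N'}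
    (fun P => Nat.card P) (Set.toFinite _) ⟨X, le_rfl, h.pgroup, h.inv, N, hN⟩
  have hseed := Seed.grow h hXP hPp hSP
  obtain ⟨P1, h1, -, h3, h4, -, h6⟩ := Seed.exists_next hM hseed hN'
  have e1 : P = P1 := eq_of_le_of_card_ge h1 (hmax P1 ⟨hXP.trans h1, h3, h4, _, h6⟩)
  subst e1
  obtain ⟨P2, g1, g2, g3, g4, g5, g6⟩ := Seed.exists_next hM hseed h6
  have e2 : P = P2 := eq_of_le_of_card_ge g1 (hmax P2 ⟨hXP.trans g1, g3, g4, _, g6⟩)
  subst e2
  refine ⟨P, hXP, hPp, hSP, fun hd => ?_, h6⟩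
  obtain ⟨T, hT⟩ := hPp.exists_le_sylow
  have hlt : P < (T : Subgroup G) := lt_of_le_of_ne hT fun e => T.not_dvd_index (e ▸ hd)
  have hlt' : P < (T : Subgroup G) ⊓ normalizer (P : Set G) := lt_of_le_of_ne
    (le_inf hT le_normalizer) fun e => hlt.ne (LESylow.eq_of_normalizer_inf_le T.isPGroup' hT e.ge)
  set L := (T : Subgroup G) ⊓ normalizer (P : Set G) with hL
  have hLH : L ≤ normalizer (ZJ.zJ r False P : Set G) :=
    inf_le_right.trans (ZJ.normalizer_le_normalizer_zJ P)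
  refine g5 (Dvd.dvd.trans ?_ (Dvd.intro _ (relIndex_mul_relIndex P L _ hlt'.le hLH)))
  have h2 := PBasic.card_mul_relIndex hlt'.le
  obtain ⟨m, hm⟩ := (T.isPGroup'.to_le (inf_le_left : L ≤ _)).exists_card_eq
  obtain ⟨l, -, hl⟩ := (Nat.dvd_prime_pow (Fact.out : r.Prime)).1
    (Dvd.intro_left _ (h2.trans hm) : P.relIndex L ∣ r ^ m)
  rw [hl]
  refine dvd_pow_self r fun h0 => hlt'.not_ge (relIndex_eq_one.1 ?_)
  rw [hl, h0, pow_zero]

end Cfsg.Agent.Walter8
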