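import Cfsg.Agent.Lib.Walter8.Plane
import Cfsg.Agent.Lib.BrauerSuzuki.ZStar
import Cfsg.Agent.Lib.DGroup.TICanon
import Cfsg.Agent.Lib.Signalizer.Basic
import Cfsg.Agent.Lib.Transfer.Fusion

/-!
Local tools for the signalizer theorem: inverted elements of the lines, odd subgroups generated by their
parts, and subgroups with an isolated involution.
-/

set_option autoImplicit false
set_option linter.style.haveILetI false
set_option linter.unusedSectionVars false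

namespace Cfsg.Agent.Walter8

open Subgroup
open Cfsg.Agent.ClosedAbelian (core core_le core_odd core_normalized le_core mem_of_sq_mem)

universe u

variable {G : Type u} [Group G] [Finite G] {S : Subgroup G}

/-- An element of the line `⟨a, b⟩`, of odd order, inverted by `S` and outside `O(C(a))`. -/
def Tor (S : Subgroup G) (a b x : G) : Prop :=
  x * a = a * x ∧ x * b = b * x ∧ InvBy S x ∧ Odd (orderOf x) ∧ x ∉ core (cen a)

/-- A failure of balance. -/
def Bad (S : Subgroup G) (t b x : G) : Prop := x ∈ core (cen t) ∧ Tor S b t x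

theorem Tor.ne {a b x : G} (h : Tor S a b x) : x ≠ 1 := fun e => h.2.2.2.2 (e ▸ one_mem _)

theorem odd_of_mem {K : Subgroup G} (hK : ¬ 2 ∣ Nat.card K) {x : G} (hx : x ∈ K) : Odd (orderOf x) :=
  ClosedAbelian.odd_orderOf_of_mem hK hx

theorem eq_one_of_sq {x : G} (ho : Odd (orderOf x)) (h : x * x = 1) : x = 1 :=
  (ClosedAbelian.twoEl_of_sq h).eq_one_of_odd ho

theorem eq_one_of_inv {u x : G} (ho : Odd (orderOf x)) (h1 : u * x * u⁻¹ = x)
    (h2 : u * x * u⁻¹ = x⁻¹) : x = 1 :=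
  eq_one_of_sq ho (mul_eq_one_iff_eq_inv.2 (h1.symm.trans h2))

/-- The two parts of an element under an involution. -/
theorem exists_inv_part {W : Subgroup G} (hW : ¬ 2 ∣ Nat.card W) {u w : G} (hu : u * u = 1)
    (huW : u ∈ normalizer (W : Set G)) (hw : w ∈ W) :
    ∃ c ∈ W, ∃ i ∈ W, w = c * i ∧ u * c = c * u ∧ u * i * u⁻¹ = i⁻¹ ∧
      ∀ v, v * u = u * v → v * w = w * v → v * c = c * v ∧ v * i = i * v := by
  set z := (u * w * u⁻¹)⁻¹ * w with hz
  have hzW : z ∈ W := mul_mem (inv_mem ((mem_normalizer_iff.1 huW w).1 hw)) hw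
  obtain ⟨m, hm⟩ := odd_of_mem hW hzW
  set i := z ^ (m + 1) with hi
  have hii : i * i = z := by
    rw [hi, ← pow_add, show m + 1 + (m + 1) = (2 * m + 1) + 1 by ring, pow_succ, ← hm,
      pow_orderOf_eq_one, one_mul]
  have hui : u * i * u⁻¹ = i⁻¹ := by
    have hzu : u * z * u⁻¹ = z⁻¹ := by
      rw [hz, show u * ((u * w * u⁻¹)⁻¹ * w) * u⁻¹ =
        (u * u) * w⁻¹ * (u * u)⁻¹ * (u * w * u⁻¹) by group, hu]
      group
    rw [hi, ← inv_pow, ← hzu, conj_pow]
  refine ⟨w * i⁻¹, mul_mem hw (inv_mem (pow_mem hzW _)), i, pow_mem hzW _, by group, ?_, hui, ?_⟩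
  · refine comm_iff_conj.2 ?_
    have e : u * w * u⁻¹ = w * z⁻¹ := by rw [hz]; group
    rw [conj_mul', e, ← hii, show u * i⁻¹ * u⁻¹ = (u * i * u⁻¹)⁻¹ by group, hui]
    group
  · intro v hvu hvw
    have hvi : Commute v i := by
      refine Commute.pow_right ?_ _
      rw [hz]
      exact (((show Commute v u from hvu).mul_right hvw).mul_right
        (Commute.inv_right hvu)).inv_right.mul_right hvw
    exact ⟨((show Commute v w from hvw).mul_right hvi.inv_right).eq, hvi.eq⟩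

variable (hE : Eight S)
include hE

theorem Eight.ea : Cfsg.IsElementaryAbelian 2 S :=
  ⟨.of_setLike_mul_comm fun _ ha _ hb => hE.scomm ha hb, fun a ha => by rw [pow_two]; exact hE.sq a ha⟩

/-- An element centralising a line and inverted by some element of `S` is centralised or inverted by
each element of `S`. -/
theorem Eight.dich {x a b : G} (ha : a ∈ S) (ha1 : a ≠ 1) (hb : b ∈ S) (hb1 : b ≠ 1) (hba : b ≠ a)
    (ho : Odd (orderOf x)) (hx1 : x ≠ 1) (hxa : x * a = a * x) (hxb : x * b = b * x)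
    (hi : InvBy S x) {c : G} (hc : c ∈ S) :
    ((c = 1 ∨ c = a ∨ c = b ∨ c = a * b) ∧ c * x * c⁻¹ = x) ∨
      (c * x * c⁻¹ = x⁻¹ ∧ c * x ≠ x * c) := by
  have fa : a * x * a⁻¹ = x := comm_iff_conj.1 hxa.symm
  have fb : b * x * b⁻¹ = x := comm_iff_conj.1 hxb.symm
  have fab : a * b * x * (a * b)⁻¹ = x := by rw [← conj_conj, fb, fa]
  obtain ⟨u, hu, hux⟩ := hi
  have hu0 : u ≠ 1 ∧ u ≠ a ∧ u ≠ b ∧ u ≠ a * b :=
    ⟨fun e => hx1 (eq_one_of_inv ho (by rw [e]; group) hux),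
      fun e => hx1 (eq_one_of_inv ho (e ▸ fa) hux), fun e => hx1 (eq_one_of_inv ho (e ▸ fb) hux),
      fun e => hx1 (eq_one_of_inv ho (e ▸ fab) hux)⟩
  have key : c * x * c⁻¹ = x⁻¹ → c * x * c⁻¹ = x⁻¹ ∧ c * x ≠ x * c := fun h =>
    ⟨h, fun e => hx1 (eq_one_of_inv ho (comm_iff_conj.1 e) h)⟩
  have fi : ∀ {k : G}, k * x * k⁻¹ = x → k * u * x * (k * u)⁻¹ = x⁻¹ := fun {k} h => by
    rw [← conj_conj, hux, show k * x⁻¹ * k⁻¹ = (k * x * k⁻¹)⁻¹ by group, h]
  rcases hE.cases8 ha ha1 hb hb1 hba hu hu0.1 hu0.2.1 hu0.2.2.1 hu0.2.2.2 hc with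
    h | h | h | h | h | h | h | h <;> subst h
  · exact Or.inl ⟨Or.inl rfl, by group⟩
  · exact Or.inl ⟨Or.inr (Or.inl rfl), fa⟩
  · exact Or.inl ⟨Or.inr (Or.inr (Or.inl rfl)), fb⟩
  · exact Or.inl ⟨Or.inr (Or.inr (Or.inr rfl)), fab⟩
  · exact Or.inr (key hux)
  · exact Or.inr (key (fi fa))
  · exact Or.inr (key (fi fb))
  · exact Or.inr (key (fi fab))

/-- The line of an element. -/
theorem Eight.mem_line {x a b : G} (ha : a ∈ S) (ha1 : a ≠ 1) (hb : b ∈ S) (hb1 : b ≠ 1) (hba : b ≠ a)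
    (ho : Odd (orderOf x)) (hx1 : x ≠ 1) (hxa : x * a = a * x) (hxb : x * b = b * x)
    (hi : InvBy S x) {c : G} (hc : c ∈ S) (hxc : x * c = c * x) :
    c = 1 ∨ c = a ∨ c = b ∨ c = a * b := by
  rcases hE.dich ha ha1 hb hb1 hba ho hx1 hxa hxb hi hc with h | h
  · exact h.1
  · exact absurd hxc.symm h.2

/-- An odd subgroup normalised by `S` lies in `Y` as soon as its parts do. -/
theorem Eight.le_of_parts {W Y : Subgroup G} (hW : ¬ 2 ∣ Nat.card W) (hSW : S ≤ normalizer (W : Set G))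
    (h0 : ∀ w ∈ W, (∀ s ∈ S, w * s = s * w) → w ∈ Y)
    (h1 : ∀ w ∈ W, ∀ p ∈ S, p ≠ 1 → ∀ q ∈ S, q ≠ 1 → q ≠ p → w * p = p * w → w * q = q * w →
      InvBy S w → w ≠ 1 → w ∈ Y) : W ≤ Y := by
  haveI : Fact (Nat.Prime 2) := ⟨Nat.prime_two⟩
  refine Signalizer.le_of_hyperplane_le hE.ea (by rw [hE.card]; norm_num) hSW hW ?_
  intro D hDS hD w hw
  obtain ⟨hwW, hwD⟩ := mem_inf.1 hw
  have hD4 : Nat.card D = 4 := by rw [hE.card] at hD; omega
  obtain ⟨p, hp, hp1⟩ : ∃ p ∈ D, p ≠ 1 := by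
    by_contra h
    push Not at h
    rw [(eq_bot_iff_forall D).2 h, card_bot] at hD4
    omega
  obtain ⟨q, hq, hq1, hqp⟩ : ∃ q ∈ D, q ≠ 1 ∧ q ≠ p := by
    by_contra h
    push Not at h
    have hsub : (D : Set G) ⊆ {1, p} := fun x hx => by
      by_cases hx1 : x = 1
      · exact Or.inl hx1
      · exact Or.inr (h x hx hx1)
    have := Set.ncard_le_ncard hsub (Set.toFinite _)
    rw [← Nat.card_coe_set_eq, Set.ncard_pair hp1.symm] at this
    exact absurd (hD4 ▸ this : 4 ≤ 2) (by norm_num)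
  obtain ⟨u, huS, huD⟩ : ∃ u ∈ S, u ∉ D := by
    by_contra h
    push Not at h
    have := card_le_of_le h
    rw [hE.card, hD4] at this
    omega
  have hpw := mem_centralizer_iff.1 hwD p hp
  have hqw := mem_centralizer_iff.1 hwD q hq
  obtain ⟨c, hc, i, hi, rfl, huc, hui, hcomm⟩ := exists_inv_part hW (hE.sq u huS) (hSW huS) hwW
  obtain ⟨hpc, hpi⟩ := hcomm p (hE.scomm (hDS hp) huS) hpw
  obtain ⟨hqc, hqi⟩ := hcomm q (hE.scomm (hDS hq) huS) hqw
  have hpq : p * q ∈ D := mul_mem hp hq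
  refine mul_mem (h0 c hc fun s hs => ?_) ?_
  · have : ∀ r, r = 1 ∨ r = p ∨ r = q ∨ r = p * q ∨ r = u ∨ r = p * u ∨ r = q * u ∨ r = p * q * u →
        Commute c r := by
      have c1 : Commute c p := hpc.symm
      have c2 : Commute c q := hqc.symm
      have c3 : Commute c u := huc.symm
      rintro r (rfl | rfl | rfl | rfl | rfl | rfl | rfl | rfl)
      exacts [Commute.one_right c, c1, c2, c1.mul_right c2, c3, c1.mul_right c3, c2.mul_right c3,
        (c1.mul_right c2).mul_right c3]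
    exact (this s (hE.cases8 (hDS hp) hp1 (hDS hq) hq1 hqp huS (fun e => huD (e ▸ one_mem _))
      (fun e => huD (e ▸ hp)) (fun e => huD (e ▸ hq)) (fun e => huD (e ▸ hpq)) hs)).eq
  · by_cases hi1 : i = 1
    · rw [hi1]; exact one_mem _
    · exact h1 i hi p (hDS hp) hp1 q (hDS hq) hq1 hqp hpi.symm hqi.symm ⟨u, huS, hui⟩ hi1

omit hE in
theorem conj_mem_core {g a x : G} (hx : x ∈ core (cen a)) :
    g * x * g⁻¹ ∈ core (cen (g * a * g⁻¹)) := by
  have e : (cen a).map (MulAut.conj g).toMonoidHom = cen (g * a * g⁻¹) := by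
    ext y
    rw [LEBasic.mem_map_conj, mem_centralizer_singleton_iff, mem_centralizer_singleton_iff]
    constructor
    · intro h
      calc y * (g * a * g⁻¹) = g * (g⁻¹ * y * g * a) * g⁻¹ := by group
        _ = g * (a * (g⁻¹ * y * g)) * g⁻¹ := by rw [h]
        _ = _ := by group
    · intro h
      calc g⁻¹ * y * g * a = g⁻¹ * (y * (g * a * g⁻¹)) * g := by group
        _ = g⁻¹ * (g * a * g⁻¹ * y) * g := by rw [h]
        _ = _ := by group
  exact e ▸ ClosedAbelian.conj_core_le _ g ⟨x, hx, rfl⟩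

omit hE in
theorem mem_core_iff_conj {g a x : G} :
    g * x * g⁻¹ ∈ core (cen (g * a * g⁻¹)) ↔ x ∈ core (cen a) := by
  refine ⟨fun h => ?_, conj_mem_core⟩
  have := conj_mem_core (g := g⁻¹) h
  rwa [show g⁻¹ * (g * x * g⁻¹) * g⁻¹⁻¹ = x by group,
    show g⁻¹ * (g * a * g⁻¹) * g⁻¹⁻¹ = a by group] at this

omit hE in
theorem comm_of_mem_core {a x : G} (hx : x ∈ core (cen a)) : x * a = a * x :=
  mem_centralizer_singleton_iff.1 (core_le _ hx)

omit hE in
theorem orderOf_cj (g x : G) : orderOf (g * x * g⁻¹) = orderOf x :=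
  (MulAut.conj g).orderOf_eq x

omit hE in
theorem Tor.conj {a b x g : G} (hg : g ∈ normalizer (S : Set G)) (h : Tor S a b x) :
    Tor S (g * a * g⁻¹) (g * b * g⁻¹) (g * x * g⁻¹) := by
  obtain ⟨h1, h2, ⟨u, hu, hux⟩, h4, h5⟩ := h
  refine ⟨?_, ?_, ⟨g * u * g⁻¹, conj_mem hg hu, ?_⟩, by rwa [orderOf_cj],
    fun e => h5 (mem_core_iff_conj.1 e)⟩
  · rw [← conj_mul', ← conj_mul', h1]
  · rw [← conj_mul', ← conj_mul', h2]
  · calc g * u * g⁻¹ * (g * x * g⁻¹) * (g * u * g⁻¹)⁻¹ = g * (u * x * u⁻¹) * g⁻¹ := by group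
      _ = g * x⁻¹ * g⁻¹ := by rw [hux]
      _ = _ := by group

/-- The same element on the other point of its line. -/
theorem Eight.tor_line {a b c x : G} (ha : a ∈ S) (ha1 : a ≠ 1) (hb : b ∈ S) (hb1 : b ≠ 1)
    (hba : b ≠ a) (h : Tor S a b x) (hc : c ∈ S) (hc1 : c ≠ 1) (hca : c ≠ a) (hxc : x * c = c * x) :
    c = b ∨ c = a * b := by
  rcases hE.mem_line ha ha1 hb hb1 hba h.2.2.2.1 h.ne h.1 h.2.1 h.2.2.1 hc hxc with e | e | e | e
  · exact absurd e hc1
  · exact absurd e hca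
  · exact Or.inl e
  · exact Or.inr e

/-- One line, for an arbitrary odd invariant subgroup. -/
theorem Eight.one_line (hO : OneLine S) {R : Subgroup G} (hR : ¬ 2 ∣ Nat.card R)
    (hSR : S ≤ normalizer (R : Set G)) {a b c x z : G} (ha : a ∈ S) (ha1 : a ≠ 1) (hb : b ∈ S)
    (hb1 : b ≠ 1) (hba : b ≠ a) (hc : c ∈ S) (hc1 : c ≠ 1) (hca : c ≠ a) (hx : x ∈ R) (hz : z ∈ R)
    (hxT : Tor S a b x) (hzT : Tor S a c z) : c = b ∨ c = a * b := by
  by_contra h
  push Not at h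
  have hSc : S ≤ normalizer ((R ⊓ cen a : Subgroup G) : Set G) :=
    Signalizer.le_normalizer_inf hSR ((hE.le_cenS ha).trans le_normalizer)
  rcases hO a ha ha1 b hb hb1 hba c hc hc1 hca h.1 h.2 (R ⊓ cen a) inf_le_right
    (fun hd => hR (hd.trans (card_dvd_of_le inf_le_left))) hSc x
    ⟨hx, mem_centralizer_singleton_iff.2 hxT.1⟩ z ⟨hz, mem_centralizer_singleton_iff.2 hzT.1⟩
    hxT.2.1 hzT.2.1 hxT.2.2.1 hzT.2.2.1 with e | e
  · exact hxT.2.2.2.2 e
  · exact hzT.2.2.2.2 e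

omit hE in
/-- Burnside: a Sylow 2-subgroup central in its normaliser has a normal complement. -/
theorem exists_split {L T : Subgroup G} (hTL : T ≤ L) (hT : IsPGroup 2 T)
    (hidx : ¬ 2 ∣ T.relIndex L)
    (h : ∀ n ∈ L, n ∈ normalizer (T : Set G) → n ∈ centralizer (T : Set G)) {g : G} (hg : g ∈ L) :
    ∃ o ∈ core L, ∃ s ∈ T, g = o * s := by
  haveI : Fact (Nat.Prime 2) := ⟨Nat.prime_two⟩
  set P : Sylow 2 L := (hT.comap_subtype : IsPGroup 2 (T.subgroupOf L)).toSylow hidx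
  have hP : (P : Subgroup L) = T.subgroupOf L := rfl
  have hnpc : Cfsg.HasNormalPComplement 2 L := by
    refine Fusion.hasNormalPComplement_of_normalizer_le_centralizer P fun n hn => ?_
    have hn' : (n : G) ∈ normalizer (T : Set G) := by
      have := le_normalizer_map (H := T.subgroupOf L) L.subtype ⟨n, hP ▸ hn, rfl⟩
      rwa [map_subgroupOf_eq_of_le hTL] at this
    exact mem_centralizer_iff.2 fun s hs => Subtype.ext
      (mem_centralizer_iff.1 (h _ n.2 hn') s hs)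
  obtain ⟨o, ho, s, hs, hos⟩ := mem_sup_of_normal_left.1
    ((sup_comm _ _ |>.trans (PBasic.sylow_sup_pResidual P)).ge (mem_top (⟨g, hg⟩ : L)))
  rw [← PBasic.pPrimeCore_eq_pResidual hnpc] at ho
  exact ⟨o, ⟨o, ho, rfl⟩, s, hs, (congrArg Subtype.val hos).symm⟩

theorem Eight.relIndex_odd {L : Subgroup G} (hSL : S ≤ L) : ¬ 2 ∣ S.relIndex L := by
  obtain ⟨P, hP⟩ := hE.exists_sylow
  haveI : Fact (Nat.Prime 2) := ⟨Nat.prime_two⟩
  exact fun h => P.not_dvd_index (hP ▸ h.trans (relIndex_dvd_index_of_le hSL))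

/-- A subgroup in which `N(S)` is trivial on `S` has a normal 2-complement. -/
theorem Eight.odd_mem_core {L : Subgroup G} (hSL : S ≤ L)
    (h : ∀ n ∈ L, n ∈ normalizer (S : Set G) → n ∈ centralizer (S : Set G)) {x : G} (hx : x ∈ L)
    (ho : Odd (orderOf x)) : x ∈ core L := by
  obtain ⟨o, hoc, s, hs, rfl⟩ := exists_split hSL hE.isTwo (hE.relIndex_odd hSL) h hx
  refine mem_of_sq_mem ?_ ho
  have e : o * s * (o * s) = o * (s * o * s⁻¹) * (s * s) := by group
  rw [e, hE.sq s hs, mul_one]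
  exact mul_mem hoc (ClosedAbelian.conj_mem_core (hSL hs) hoc)

/-- The odd part of the centraliser of a line. -/
def dee (t b : G) : Subgroup G := core (cen t ⊓ cen b)

omit hE in
theorem comm_of_mem_dee {t b x : G} (h : x ∈ dee t b) : x * t = t * x ∧ x * b = b * x :=
  ⟨mem_centralizer_singleton_iff.1 (core_le _ h).1, mem_centralizer_singleton_iff.1 (core_le _ h).2⟩

theorem Eight.mem_dee {t b x : G} (ht : t ∈ S) (ht1 : t ≠ 1) (hb : b ∈ S) (hb1 : b ≠ 1) (hbt : b ≠ t)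
    (hxt : x * t = t * x) (hxb : x * b = b * x) (ho : Odd (orderOf x)) : x ∈ dee t b :=
  hE.odd_mem_core (le_inf (hE.le_cenS ht) (hE.le_cenS hb))
    (fun _ hn hnN => hE.mem_centralizer_of_two hnN ht ht1 hb hb1 hbt
      (mem_centralizer_singleton_iff.1 hn.1) (mem_centralizer_singleton_iff.1 hn.2))
    ⟨mem_centralizer_singleton_iff.2 hxt, mem_centralizer_singleton_iff.2 hxb⟩ ho

/-- Burnside fusion inside a subgroup. -/
theorem Eight.fusion {N : Subgroup G} (hSN : S ≤ N) {c p : G} (hc : c ∈ N) (hp : p ∈ S)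
    (hcp : c * p * c⁻¹ ∈ S) : ∃ n ∈ N, n ∈ normalizer (S : Set G) ∧ n * p * n⁻¹ = c * p * c⁻¹ := by
  haveI : Fact (Nat.Prime 2) := ⟨Nat.prime_two⟩
  set q := c * p * c⁻¹ with hq
  have hle : S.map (MulAut.conj c).toMonoidHom ≤ N ⊓ cen q := by
    rintro _ ⟨s, hs, rfl⟩
    refine mem_inf.2 ⟨mul_mem (mul_mem hc (hSN hs)) (inv_mem hc), mem_centralizer_singleton_iff.2 ?_⟩
    show c * s * c⁻¹ * q = q * (c * s * c⁻¹)
    rw [hq, ← conj_mul', ← conj_mul', hE.scomm hs hp]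
  have hSq : S ≤ N ⊓ cen q := le_inf hSN (hE.le_cenS hcp)
  let T : Sylow 2 ↥(N ⊓ cen q) :=
    (hE.isTwo.comap_subtype : IsPGroup 2 (S.subgroupOf (N ⊓ cen q))).toSylow (hE.relIndex_odd hSq)
  obtain ⟨d, hd, hdle⟩ := LESylow.exists_conj_le_of_le hle (hE.isTwo.map _) T
  have hT : (T : Subgroup ↥(N ⊓ cen q)).map (N ⊓ cen q).subtype = S := map_subgroupOf_eq_of_le hSq
  rw [hT, LEBasic.map_conj_map_conj] at hdle
  refine ⟨d * c, mul_mem hd.1 hc, LEBasic.map_conj_eq_iff_mem_normalizer.1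
    (eq_of_le_of_card_ge hdle (LEBasic.card_map_conj _ _).ge), ?_⟩
  rw [← conj_conj, ← hq]
  exact comm_iff_conj.1 (mem_centralizer_singleton_iff.1 hd.2)

/-- An element of `N` agreeing with an element of `N(S)` modulo an odd normal subgroup of `N`. -/
theorem Eight.exists_fix {N O : Subgroup G} (hSN : S ≤ N) (hON : O ≤ N)
    (hNO : N ≤ normalizer (O : Set G)) (hO : ¬ 2 ∣ Nat.card O) {n y : G} (hn : n ∈ N)
    (hy : y ∈ normalizer (S : Set G))
    (h : ∀ s ∈ S, n * s * n⁻¹ * (y * s * y⁻¹)⁻¹ ∈ O) :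
    ∃ m ∈ N, m ∈ normalizer (S : Set G) ∧ ∀ s ∈ S, m * s * m⁻¹ = y * s * y⁻¹ := by
  haveI : Fact (Nat.Prime 2) := ⟨Nat.prime_two⟩
  set L := S ⊔ O with hL
  have hle : S.map (MulAut.conj n).toMonoidHom ≤ L := by
    rintro _ ⟨s, hs, rfl⟩
    have := mul_mem (mem_sup_right (S := S) (h s hs)) (mem_sup_left (T := O) (conj_mem hy hs))
    rwa [inv_mul_cancel_right] at this
  let T : Sylow 2 L :=
    (hE.isTwo.comap_subtype : IsPGroup 2 (S.subgroupOf L)).toSylow (hE.relIndex_odd le_sup_left)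
  obtain ⟨d, hd, hdle⟩ := LESylow.exists_conj_le_of_le hle (hE.isTwo.map _) T
  have hT : (T : Subgroup L).map L.subtype = S := map_subgroupOf_eq_of_le le_sup_left
  rw [hT, LEBasic.map_conj_map_conj] at hdle
  have hd' : d ∈ (L : Set G) := hd
  rw [hL, coe_mul_of_left_le_normalizer_right _ _ (hSN.trans hNO)] at hd'
  obtain ⟨s', hs', o, ho, rfl⟩ := Set.mem_mul.1 hd'
  have hN : o * n ∈ normalizer (S : Set G) := by
    have h1 : s' ∈ normalizer (S : Set G) := le_normalizer hs'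
    have h2 : s' * o * n ∈ normalizer (S : Set G) :=
      LEBasic.map_conj_eq_iff_mem_normalizer.1 (eq_of_le_of_card_ge hdle (LEBasic.card_map_conj _ _).ge)
    have := mul_mem (inv_mem h1) h2
    rwa [mul_assoc, inv_mul_cancel_left] at this
  refine ⟨o * n, mul_mem (hON ho) hn, hN, fun s hs => ?_⟩
  set z := y * s * y⁻¹ with hz
  set e := n * s * n⁻¹ * z⁻¹ with he
  have e1 : o * n * s * (o * n)⁻¹ = o * e * (z * o⁻¹ * z⁻¹) * z := by rw [he]; group
  have hw : o * e * (z * o⁻¹ * z⁻¹) ∈ O :=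
    mul_mem (mul_mem ho (h s hs)) ((mem_normalizer_iff.1 (hNO (hSN (conj_mem hy hs))) _).1 (inv_mem ho))
  have h1 : o * e * (z * o⁻¹ * z⁻¹) = 1 := by
    refine eq_one_of_sq (odd_of_mem hO hw) (hE.sq _ ?_)
    have := mul_mem (conj_mem hN hs) (inv_mem (conj_mem hy hs))
    rwa [e1, ← hz, mul_inv_cancel_right] at this
  rw [e1, h1, one_mul]

/-- `a` is fixed by the normaliser of `S` in `N`. -/
def Iso (S N : Subgroup G) (a : G) : Prop :=
  ∀ g ∈ N, g ∈ normalizer (S : Set G) → g * a = a * g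

variable {N : Subgroup G} {a : G}

/-- The Z*-theorem in `N`. -/
theorem Eight.zstar (hSN : S ≤ N) (ha : a ∈ S) (ha1 : a ≠ 1) (hiso : Iso S N a) {g : G} (hg : g ∈ N) :
    g * a * g⁻¹ * a⁻¹ ∈ core N := by
  haveI : Fact (Nat.Prime 2) := ⟨Nat.prime_two⟩
  have hao : orderOf (⟨a, hSN ha⟩ : N) = 2 := by
    rw [orderOf_mk]
    exact orderOf_eq_prime (by rw [pow_two]; exact hE.sq a ha) ha1
  have hZ := BrauerSuzuki.zStar N ⟨a, hSN ha⟩ hao fun k hk => by
    obtain ⟨k, hkN⟩ := k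
    have hk' : Commute a (k * a * k⁻¹) := congrArg Subtype.val hk
    apply Subtype.ext
    show k * a * k⁻¹ = a
    set h := k * a * k⁻¹ with hh
    have hhN : h ∈ N := mul_mem (mul_mem hkN (hSN ha)) (inv_mem hkN)
    have ha2 : IsPGroup 2 (zpowers a) := (ClosedAbelian.twoEl_of_sq (hE.sq a ha)).isPGroup
    have hh2 : IsPGroup 2 (zpowers h) := ((ClosedAbelian.twoEl_of_sq (hE.sq a ha)).conj k).isPGroup
    have hAp : IsPGroup 2 (zpowers a ⊔ zpowers h : Subgroup G) :=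
      ha2.to_sup_of_normal_right' hh2 (zpowers_le.2
        (LESylow.centralizer_le_normalizer_zpowers h (mem_centralizer_singleton_iff.2 hk'.eq)))
    let T : Sylow 2 N :=
      (hE.isTwo.comap_subtype : IsPGroup 2 (S.subgroupOf N)).toSylow (hE.relIndex_odd hSN)
    obtain ⟨c, hc, hcle⟩ := LESylow.exists_conj_le_of_le
      (show zpowers a ⊔ zpowers h ≤ N from sup_le (zpowers_le.2 (hSN ha)) (zpowers_le.2 hhN)) hAp T
    have hT : (T : Subgroup N).map N.subtype = S := map_subgroupOf_eq_of_le hSN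
    rw [hT] at hcle
    have h1 : c * a * c⁻¹ ∈ S := hcle ⟨a, mem_sup_left (mem_zpowers a), rfl⟩
    have h2 : c * h * c⁻¹ ∈ S := hcle ⟨h, mem_sup_right (mem_zpowers h), rfl⟩
    have fix : ∀ {n}, n ∈ N → n * a * n⁻¹ ∈ S → n * a * n⁻¹ = a := fun {n} hn hna => by
      obtain ⟨m, hm, hmS, hma⟩ := hE.fusion hSN hn ha hna
      rw [← hma]
      exact comm_iff_conj.1 (hiso m hm hmS)
    refine conj_cancel (g := c) ?_
    have f1 := fix hc h1
    have f2 := fix (mul_mem hc hkN) (by rw [← conj_conj]; exact h2)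
    rw [f1, hh, conj_conj, f2]
  exact ⟨_, hZ ⟨g, hg⟩, rfl⟩

/-- The elements inverted by an isolated involution are in the core. -/
theorem Eight.inv_mem_core (hSN : S ≤ N) (ha : a ∈ S) (ha1 : a ≠ 1) (hiso : Iso S N a) {w : G}
    (hw : w ∈ N) (ho : Odd (orderOf w)) (h : a * w * a⁻¹ = w⁻¹) : w ∈ core N := by
  refine mem_of_sq_mem ?_ ho
  have h2 := hE.zstar hSN ha ha1 hiso hw
  have e : a * w⁻¹ * a⁻¹ = w := by
    rw [show a * w⁻¹ * a⁻¹ = (a * w * a⁻¹)⁻¹ by group, h, inv_inv]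
  rwa [show w * a * w⁻¹ * a⁻¹ = w * (a * w⁻¹ * a⁻¹) by group, e] at h2

/-- `N = O(N) C_N(a)`. -/
theorem Eight.iso_split (hSN : S ≤ N) (ha : a ∈ S) (ha1 : a ≠ 1) (hiso : Iso S N a) {g : G}
    (hg : g ∈ N) : ∃ o ∈ core N, o * g ∈ cen a := by
  have hao : orderOf a = 2 := by
    haveI : Fact (Nat.Prime 2) := ⟨Nat.prime_two⟩
    exact orderOf_eq_prime (by rw [pow_two]; exact hE.sq a ha) ha1
  obtain ⟨o, ho, hoa⟩ := DGroup.conj_in_odd (X := core N)
    (by rw [← Nat.not_even_iff_odd, even_iff_two_dvd]; exact core_odd N) hao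
    ((orderOf_cj g a).trans hao) (hE.zstar hSN ha ha1 hiso hg)
  refine ⟨o⁻¹, inv_mem ho, mem_centralizer_singleton_iff.2 (comm_iff_conj.2 ?_)⟩
  rw [← conj_conj, ← hoa]
  group

/-- `O(C(a)) ∩ N ≤ O(N)`. -/
theorem Eight.core_cen_le (hSN : S ≤ N) (ha : a ∈ S) (ha1 : a ≠ 1) (hiso : Iso S N a) :
    core (cen a) ⊓ N ≤ core N := by
  set K := core (cen a) ⊓ N with hK
  set O := core N with hO'
  have hKN : K ≤ normalizer (O : Set G) := inf_le_right.trans (core_normalized N)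
  have hodd : ¬ 2 ∣ Nat.card (K ⊔ O : Subgroup G) :=
    ClosedAbelian.sup_core_odd inf_le_right fun h => core_odd (cen a) (h.trans (card_dvd_of_le inf_le_left))
  refine (le_sup_left : K ≤ K ⊔ O).trans (le_core (sup_le inf_le_right (core_le N)) ?_ hodd)
  intro g hg
  obtain ⟨o, ho, hoa⟩ := hE.iso_split hSN ha ha1 hiso hg
  have hog : o * g ∈ N := mul_mem (core_le N ho) hg
  have h1 : o * g ∈ normalizer ((K ⊔ O : Subgroup G) : Set G) :=
    normalizer_inf_normalizer_le_normalizer_sup _ _ (mem_inf.2 ⟨Signalizer.le_normalizer_inf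
      (A := cen a ⊓ N) (inf_le_left.trans (core_normalized _)) (inf_le_right.trans le_normalizer)
      ⟨hoa, hog⟩, core_normalized N hog⟩)
  have := mul_mem (inv_mem (le_normalizer (mem_sup_right (S := K) ho))) h1
  rwa [inv_mul_cancel_left] at this

end Cfsg.Agent.Walter8
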