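import Cfsg.Agent.Lib.Walter8.Reduce
import Cfsg.Agent.Lib.Walter8.CoreBot
import Cfsg.Agent.Lib.Walter8.Theta
import Cfsg.Agent.Lib.SEMain.Proof
import Cfsg.Agent.S0343

/-!
Assembly of the order 8 theorem: the involution centralisers are `2 × PSL₂(q)`, and the four outcomes.
-/

set_option autoImplicit false
set_option linter.style.haveILetI false
set_option linter.unusedSectionVars false

namespace Cfsg.Agent.Walter8

open Subgroup
open Cfsg.Agent.ClosedAbelian (core)

universe u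

/-- The elimination of the field automorphisms. -/
def NoFieldStmt : Prop :=
  ∀ (G : Type u) [Group G] [Finite G] [IsSimpleGroup G] (S : Subgroup G), ¬ IsMulCommutative G →
    Eight S → LType S → (∀ a ∈ S, a ≠ 1 → core (cen a) = ⊥) → ∀ a : G, a ∈ S → a ≠ 1 →
      ∃ (F : Type) (_ : Field F) (_ : Fintype F), Odd (Fintype.card F) ∧ 3 < Fintype.card F ∧
        Nonempty (cen a ≃* Multiplicative (ZMod 2) × Matrix.ProjectiveSpecialLinearGroup (Fin 2) F)

/-- The centralisers of the involutions of `S` are `2 × PSL₂(q)`. -/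
theorem rjShape_of (hF : NoFieldStmt.{u}) {G : Type u} [Group G] [Finite G] [IsSimpleGroup G]
    {S : Subgroup G} (hna : ¬ IsMulCommutative G) (hE : Eight S) (hL : LType S) {a : G} (ha : a ∈ S)
    (ha1 : a ≠ 1) :
    ∃ (F : Type) (_ : Field F) (_ : Fintype F), Odd (Fintype.card F) ∧ 3 < Fintype.card F ∧
      Nonempty (cen a ≃* Multiplicative (ZMod 2) × Matrix.ProjectiveSpecialLinearGroup (Fin 2) F) :=
  hF G S hna hE hL (core_eq_bot hna hE hL theta SEMain.stmt) a ha ha1

/-- The order 8 theorem. -/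
theorem order_eight_of (hF : NoFieldStmt.{u}) {G : Type u} [Group G] [Finite G] [IsSimpleGroup G]
    (hG : ¬ IsMulCommutative G) (T : Sylow 2 G) (hT : Nat.card (T : Subgroup G) = 8) :
    (∃ (F : Type) (_ : Field F) (_ : Fintype F), Fintype.card F = 8 ∧
        Nonempty (G ≃* Matrix.ProjectiveSpecialLinearGroup (Fin 2) F)) ∨
      (∃ (F : Type) (_ : Field F) (_ : Fintype F), (Fintype.card F % 16 = 7 ∨ Fintype.card F % 16 = 9) ∧
        Nonempty (G ≃* Matrix.ProjectiveSpecialLinearGroup (Fin 2) F)) ∨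
      Nonempty (G ≃* alternatingGroup (Fin 7)) ∨ Cfsg.IsJ1 G ∨ Cfsg.IsRee G := by
  rcases cases hG T hT with h | h | h | ⟨hE, hL⟩
  · exact Or.inl h
  · exact Or.inr (Or.inl h)
  · exact Or.inr (Or.inr (Or.inl h))
  refine Or.inr (Or.inr (Or.inr ?_))
  obtain ⟨a, ha, ha1⟩ : ∃ a ∈ (T : Subgroup G), a ≠ 1 := by
    by_contra h
    push Not at h
    rw [(eq_bot_iff_forall _).2 h, card_bot] at hT
    omega
  obtain ⟨F, hFf, hFt, -, h3, e⟩ := rjShape_of hF hG hE hL ha ha1
  haveI : Fact (Nat.Prime 2) := ⟨Nat.prime_two⟩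
  have hab : ∀ P : Sylow 2 G, ∀ x y : P, x * y = y * x := fun P x y =>
    Subtype.ext (hE.comm_of_two P.isPGroup' x.2 y.2)
  have hao : orderOf a = 2 := orderOf_eq_prime (by rw [pow_two]; exact hE.sq a ha) ha1
  rcases S0343.result hab h3.le a hao e with ⟨m, hm, -, hcard⟩ | ⟨-, hJ⟩
  · exact Or.inr ⟨inferInstance, m, hm, hcard⟩
  · exact Or.inl hJ

end Cfsg.Agent.Walter8
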