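import Cfsg.Agent.Lib.Walter8.Base

/-!
The action of `N(S)` on the seven involutions of `S`, without computing in `GL(3,2)`: everything follows
from the fact that an element of `N(S)` whose square fixes a point fixes it.
-/

set_option autoImplicit false
set_option linter.style.haveILetI false
set_option linter.unusedSectionVars false

namespace Cfsg.Agent.Walter8

open Subgroup
open Cfsg.Agent.ClosedAbelian (core TwoEl exists_parts mem_of_sq_mem)

universe u

variable {G : Type u} [Group G] [Finite G] {S : Subgroup G}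

theorem conj_mem {g x : G} (hg : g ∈ normalizer (S : Set G)) (hx : x ∈ S) : g * x * g⁻¹ ∈ S :=
  (mem_normalizer_iff.1 hg x).1 hx

theorem conj_ne_one {g x : G} (hx : x ≠ 1) : g * x * g⁻¹ ≠ 1 := fun h => hx (by
  rwa [mul_inv_eq_one, mul_eq_left] at h)

theorem comm_iff_conj {g x : G} : g * x = x * g ↔ g * x * g⁻¹ = x :=
  ⟨fun h => by rw [h, mul_inv_cancel_right], fun h => mul_inv_eq_iff_eq_mul.1 h⟩

theorem conj_conj (g h x : G) : g * (h * x * h⁻¹) * g⁻¹ = g * h * x * (g * h)⁻¹ := by group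

theorem conj_mul' (g x y : G) : g * (x * y) * g⁻¹ = g * x * g⁻¹ * (g * y * g⁻¹) := by group

theorem conj_cancel {g x z : G} (h : g * x * g⁻¹ = g * z * g⁻¹) : x = z :=
  mul_left_cancel (mul_right_cancel h)

/-- `b` lies on the hyperplane attached to `a`: its orbit under a mover fixing `a` has product one. -/
def InV (S : Subgroup G) (a b : G) : Prop :=
  b ∈ S ∧ b ≠ 1 ∧ ∃ y ∈ normalizer (S : Set G), y * a = a * y ∧ y ∉ centralizer (S : Set G) ∧
    b * (y * b * y⁻¹) * (y * (y * b * y⁻¹) * y⁻¹) = 1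

variable (hE : Eight S)
include hE

theorem Eight.mul_self {x : G} (hx : x ∈ S) : x * x = 1 := hE.sq x hx

theorem Eight.inv_eq {x : G} (hx : x ∈ S) : x⁻¹ = x := inv_eq_of_mul_eq_one_right (hE.sq x hx)

theorem Eight.scomm {x y : G} (hx : x ∈ S) (hy : y ∈ S) : x * y = y * x := by
  have h := hE.inv_eq (mul_mem hx hy)
  rw [mul_inv_rev, hE.inv_eq hx, hE.inv_eq hy] at h
  exact h.symm

theorem Eight.le_centralizer : S ≤ centralizer (S : Set G) := fun _ hx =>
  mem_centralizer_iff.2 fun _ hy => hE.scomm hy hx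

theorem Eight.le_cenS {a : G} (ha : a ∈ S) : S ≤ cen a := fun _ hx =>
  mem_centralizer_singleton_iff.2 (hE.scomm hx ha)

theorem Eight.isTwo : IsPGroup 2 S := IsPGroup.of_card (n := 3) hE.card

/-- A 2-subgroup is no larger than `S`. -/
theorem Eight.card_le {T : Subgroup G} (hT : IsPGroup 2 T) : Nat.card T ≤ 8 := by
  haveI : Fact (Nat.Prime 2) := ⟨Nat.prime_two⟩
  obtain ⟨n, hn⟩ := hT.exists_card_eq
  rw [hn]
  by_contra h
  have h4 : 4 ≤ n := by
    by_contra h4
    exact h (Nat.pow_le_pow_right (by norm_num) (show n ≤ 3 by omega))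
  exact hE.sixteen ((pow_dvd_pow 2 h4).trans (hn ▸ card_subgroup_dvd_card T))

theorem Eight.exists_sylow : ∃ P : Sylow 2 G, (P : Subgroup G) = S := by
  haveI : Fact (Nat.Prime 2) := ⟨Nat.prime_two⟩
  obtain ⟨P, hP⟩ := hE.isTwo.exists_le_sylow
  exact ⟨P, (eq_of_le_of_card_ge hP (hE.card ▸ hE.card_le P.isPGroup')).symm⟩

/-- The elements of every 2-subgroup are involutions. -/
theorem Eight.sq_of_two {T : Subgroup G} (hT : IsPGroup 2 T) : ∀ x ∈ T, x * x = 1 := by
  haveI : Fact (Nat.Prime 2) := ⟨Nat.prime_two⟩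
  intro x hx
  obtain ⟨P, hP⟩ := hE.exists_sylow
  obtain ⟨c, hc⟩ := LESylow.exists_conj_le hT P
  have h1 : c * x * c⁻¹ ∈ S := hP ▸ hc ⟨x, hx, rfl⟩
  have h2 := hE.sq _ h1
  rwa [show c * x * c⁻¹ * (c * x * c⁻¹) = c * (x * x) * c⁻¹ by group, mul_inv_eq_one,
    mul_eq_left] at h2

theorem Eight.comm_of_two {T : Subgroup G} (hT : IsPGroup 2 T) {x y : G} (hx : x ∈ T) (hy : y ∈ T) :
    x * y = y * x := by
  have h : ∀ z ∈ T, z⁻¹ = z := fun z hz => inv_eq_of_mul_eq_one_right (hE.sq_of_two hT z hz)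
  have h1 := h _ (mul_mem hx hy)
  rw [mul_inv_rev, h x hx, h y hy] at h1
  exact h1.symm

/-- In a normaliser of a 2-group, a point fixed by the square is fixed. -/
theorem Eight.comm_of_sq {B : Subgroup G} (hB : IsPGroup 2 B) {g p : G}
    (hg : g ∈ normalizer (B : Set G)) (hp : p ∈ B) (h : g * g * p = p * (g * g)) :
    g * p = p * g := by
  haveI : Fact (Nat.Prime 2) := ⟨Nat.prime_two⟩
  obtain ⟨u, v, huv, hu, hv, hu2, hvo⟩ := exists_parts g
  have huN : zpowers u ≤ normalizer (B : Set G) := zpowers_le.2 (zpowers_le.2 hg hu)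
  have hup : u * p = p * u := hE.comm_of_two (hu2.isPGroup.to_sup_of_normal_right' hB huN)
    (mem_sup_left (mem_zpowers u)) (mem_sup_right hp)
  obtain ⟨i, hi⟩ := mem_zpowers_iff.1 hu
  obtain ⟨j, hj⟩ := mem_zpowers_iff.1 hv
  have huvc : Commute u v := hi ▸ hj ▸ ((Commute.refl g).zpow_zpow i j)
  have hgg : g * g = u * u * (v * v) := by
    rw [← huv, mul_assoc, ← mul_assoc v u v, ← huvc.eq]; group
  have h2 : Commute (v * v) p := by
    have : Commute ((u * u)⁻¹ * (g * g)) p :=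
      (((Commute.mul_left hup hup).inv_left)).mul_left (show Commute (g * g) p from h)
    rwa [hgg, inv_mul_cancel_left] at this
  have hvp : v ∈ centralizer ({p} : Set G) :=
    mem_of_sq_mem (mem_centralizer_singleton_iff.2 h2.eq) hvo
  rw [← huv]
  exact (Commute.mul_left hup (mem_centralizer_singleton_iff.1 hvp)).eq

theorem Eight.comm_of_sq' {g p : G} (hg : g ∈ normalizer (S : Set G)) (hp : p ∈ S)
    (h : g * (g * p * g⁻¹) * g⁻¹ = p) : g * p = p * g :=
  hE.comm_of_sq hE.isTwo hg hp (comm_iff_conj.2 (by rwa [conj_conj] at h))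

/-- `g` fixes `a` and maps `b` to `b` or `a b`: it fixes `b`. -/
theorem Eight.fix_line {g a b : G} (hg : g ∈ normalizer (S : Set G)) (ha : a ∈ S) (hb : b ∈ S)
    (hga : g * a = a * g) (h : g * b * g⁻¹ = b ∨ g * b * g⁻¹ = a * b) : g * b = b * g := by
  rcases h with h | h
  · exact comm_iff_conj.2 h
  · refine hE.comm_of_sq' hg hb ?_
    rw [h, conj_mul', comm_iff_conj.1 hga, h, ← mul_assoc, hE.sq a ha, one_mul]

/-- Three independent involutions give all eight elements. -/
theorem Eight.cases8 {a b c : G} (ha : a ∈ S) (ha1 : a ≠ 1) (hb : b ∈ S) (hb1 : b ≠ 1) (hba : b ≠ a)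
    (hc : c ∈ S) (hc1 : c ≠ 1) (hca : c ≠ a) (hcb : c ≠ b) (hcab : c ≠ a * b) {s : G} (hs : s ∈ S) :
    s = 1 ∨ s = a ∨ s = b ∨ s = a * b ∨ s = c ∨ s = a * c ∨ s = b * c ∨ s = a * b * c := by
  classical
  let B : Finset G := {1, a, b, a * b, c, a * c, b * c, a * b * c}
  have hsub : (B : Set G) ⊆ (S : Set G) := by
    intro z hz
    simp only [B, Finset.coe_insert, Finset.coe_singleton, Set.mem_insert_iff,
      Set.mem_singleton_iff] at hz
    rcases hz with rfl | rfl | rfl | rfl | rfl | rfl | rfl | rfl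
    exacts [one_mem _, ha, hb, mul_mem ha hb, hc, mul_mem ha hc, mul_mem hb hc,
      mul_mem (mul_mem ha hb) hc]
  have sa := hE.sq a ha
  have sb := hE.sq b hb
  have ab1 : a * b ≠ 1 := fun h => hba (by
    rw [mul_eq_one_iff_inv_eq, hE.inv_eq ha] at h; exact h.symm)
  have ac1 : a * c ≠ 1 := fun h => hca (by
    rw [mul_eq_one_iff_inv_eq, hE.inv_eq ha] at h; exact h.symm)
  have bc1 : b * c ≠ 1 := fun h => hcb (by
    rw [mul_eq_one_iff_inv_eq, hE.inv_eq hb] at h; exact h.symm)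
  have abc1 : a * b * c ≠ 1 := fun h => hcab (by
    rw [mul_eq_one_iff_inv_eq, hE.inv_eq (mul_mem ha hb)] at h; exact h.symm)
  have hcard : B.card = 8 := by
    have e1 : a ≠ a * b := fun h => hb1 (mul_eq_left.1 h.symm)
    have e2 : b ≠ a * b := fun h => ha1 (mul_eq_right.1 h.symm)
    have e3 : a ≠ a * c := fun h => hc1 (mul_eq_left.1 h.symm)
    have e4 : a ≠ b * c := fun h => hcab (by
      rw [h, hE.scomm (mul_mem hb hc) hb, ← mul_assoc, sb, one_mul])
    have e5 : a ≠ a * b * c := fun h => bc1 (by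
      rw [mul_assoc] at h; exact mul_eq_left.1 h.symm)
    have e6 : b ≠ a * c := fun h => hcab (by rw [h, ← mul_assoc, sa, one_mul])
    have e7 : b ≠ b * c := fun h => hc1 (mul_eq_left.1 h.symm)
    have e8 : b ≠ a * b * c := fun h => ac1 (by
      rw [hE.scomm ha hb, mul_assoc] at h; exact mul_eq_left.1 h.symm)
    have e9 : a * b ≠ a * c := fun h => hcb (mul_left_cancel h).symm
    have e10 : a * b ≠ b * c := fun h => hca (by
      rw [hE.scomm ha hb] at h; exact (mul_left_cancel h).symm)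
    have e11 : a * b ≠ a * b * c := fun h => hc1 (mul_eq_left.1 h.symm)
    have e12 : c ≠ a * c := fun h => ha1 (mul_eq_right.1 h.symm)
    have e13 : c ≠ b * c := fun h => hb1 (mul_eq_right.1 h.symm)
    have e14 : c ≠ a * b * c := fun h => ab1 (mul_eq_right.1 h.symm)
    have e15 : a * c ≠ b * c := fun h => hba (mul_right_cancel h).symm
    have e16 : a * c ≠ a * b * c := fun h => hb1 (mul_eq_left.1 (mul_right_cancel h).symm)
    have e17 : b * c ≠ a * b * c := fun h => ha1 (mul_eq_right.1 (mul_right_cancel h).symm)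
    simp [B, ha1.symm, hb1.symm, hc1.symm, ab1.symm, ac1.symm, bc1.symm, abc1.symm, hba.symm,
      hca.symm, hcb.symm, hcab.symm, e1, e2, e3, e4, e5, e6, e7, e8, e9, e10, e11, e12, e13, e14,
      e15, e16, e17]
  have heq : (B : Set G) = (S : Set G) := by
    refine Set.eq_of_subset_of_ncard_le hsub ?_
    rw [Set.ncard_coe_finset, hcard, ← Nat.card_coe_set_eq]
    exact hE.card.le
  have := heq.ge hs
  simpa [B] using this

/-- Fixing two independent points fixes all. -/
theorem Eight.mem_centralizer_of_two {g a b : G} (hg : g ∈ normalizer (S : Set G)) (ha : a ∈ S)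
    (ha1 : a ≠ 1) (hb : b ∈ S) (hb1 : b ≠ 1) (hba : b ≠ a) (hga : g * a = a * g)
    (hgb : g * b = b * g) : g ∈ centralizer (S : Set G) := by
  refine mem_centralizer_iff.2 fun c hc => Eq.symm ?_
  by_cases hc1 : c = 1
  · subst hc1; simp
  by_cases hca : c = a
  · subst hca; exact hga
  by_cases hcb : c = b
  · subst hcb; exact hgb
  by_cases hcab : c = a * b
  · subst hcab; exact (Commute.mul_right hga hgb).eq
  have hd := conj_mem hg hc
  refine hE.comm_of_sq' hg hc ?_
  have fa := comm_iff_conj.1 hga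
  have fb := comm_iff_conj.1 hgb
  rcases hE.cases8 ha ha1 hb hb1 hba hc hc1 hca hcb hcab hd with h | h | h | h | h | h | h | h
  · exact absurd h (conj_ne_one hc1)
  · exact absurd ((conj_cancel (h.trans fa.symm))) hca
  · exact absurd ((conj_cancel (h.trans fb.symm))) hcb
  · have h' : g * c * g⁻¹ = g * (a * b) * g⁻¹ := by rw [h, conj_mul', fa, fb]
    exact absurd (conj_cancel h') hcab
  · rw [h, h]
  · rw [h, conj_mul', fa, h, ← mul_assoc, hE.sq a ha, one_mul]
  · rw [h, conj_mul', fb, h, ← mul_assoc, hE.sq b hb, one_mul]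
  · rw [h, conj_mul', conj_mul' g a b, fa, fb, h, ← mul_assoc, hE.sq _ (mul_mem ha hb), one_mul]

section Mover

variable {a y : G} (ha : a ∈ S) (ha1 : a ≠ 1) (hy : y ∈ normalizer (S : Set G))
  (hya : y * a = a * y) (hyC : y ∉ centralizer (S : Set G))
include ha ha1 hy hya hyC

/-- A mover fixes only the powers of `a`, and no line through `a`. -/
theorem Eight.mover_not {b : G} (hb : b ∈ S) (hb1 : b ≠ 1) (hba : b ≠ a) :
    y * b * y⁻¹ ≠ b ∧ y * b * y⁻¹ ≠ a * b := by
  have h : ¬ (y * b * y⁻¹ = b ∨ y * b * y⁻¹ = a * b) := fun h =>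
    hyC (hE.mem_centralizer_of_two hy ha ha1 hb hb1 hba hya (hE.fix_line hy ha hb hya h))
  exact ⟨fun e => h (Or.inl e), fun e => h (Or.inr e)⟩

theorem Eight.mover_ne {b : G} (hba : b ≠ a) : y * b * y⁻¹ ≠ a := fun h => hba
  (conj_cancel (h.trans (comm_iff_conj.1 hya).symm))

/-- The orbit of a mover. -/
theorem Eight.orbit {b : G} (hb : b ∈ S) (hb1 : b ≠ 1) (hba : b ≠ a) :
    (y * (y * b * y⁻¹) * y⁻¹ = b * (y * b * y⁻¹) ∨
      y * (y * b * y⁻¹) * y⁻¹ = a * b * (y * b * y⁻¹)) ∧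
      y * (y * (y * b * y⁻¹) * y⁻¹) * y⁻¹ = b := by
  obtain ⟨n1, n2⟩ := hE.mover_not ha ha1 hy hya hyC hb hb1 hba
  set b' := y * b * y⁻¹ with hb'
  have hb'S : b' ∈ S := conj_mem hy hb
  have hb'1 : b' ≠ 1 := conj_ne_one hb1
  have hb'a : b' ≠ a := hE.mover_ne ha ha1 hy hya hyC hba
  obtain ⟨m1, m2⟩ := hE.mover_not ha ha1 hy hya hyC hb'S hb'1 hb'a
  have fa := comm_iff_conj.1 hya
  have hnc : ¬ (y * b = b * y) := fun h => n1 (comm_iff_conj.1 h)
  have key : y * b' * y⁻¹ = b * b' ∨ y * b' * y⁻¹ = a * b * b' := by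
    rcases hE.cases8 ha ha1 hb hb1 hba hb'S hb'1 hb'a n1 n2 (conj_mem hy hb'S) with
      h | h | h | h | h | h | h | h
    · exact absurd h (conj_ne_one hb'1)
    · exact absurd h (hE.mover_ne ha ha1 hy hya hyC hb'a)
    · exact absurd (hE.comm_of_sq' hy hb (by rw [← hb', h])) hnc
    · refine absurd ?_ hnc
      have h2 : y * y * b * (y * y)⁻¹ = a * b := by rw [← conj_conj, ← hb', h]
      refine hE.comm_of_sq hE.isTwo hy hb (comm_iff_conj.2 ?_)
      rw [h2]
      by_contra hne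
      have h3 : y * y * a = a * (y * y) := (Commute.mul_left hya hya).eq
      have h4 := hE.fix_line (mul_mem hy hy) ha hb h3 (Or.inr h2)
      exact hne (h2.symm.trans (comm_iff_conj.1 h4))
    · exact absurd h m1
    · exact absurd h m2
    · exact Or.inl h
    · exact Or.inr h
  refine ⟨key, ?_⟩
  rcases key with h | h
  · rw [h, conj_mul', ← hb', h, ← mul_assoc, hE.scomm hb'S hb, mul_assoc, hE.sq b' hb'S,
      mul_one]
  · rw [h, conj_mul', conj_mul' y a b, fa, ← hb', h]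
    calc a * b' * (a * b * b') = a * (b' * a) * (b * b') := by group
      _ = a * (a * b') * (b' * b) := by rw [hE.scomm hb'S ha, hE.scomm hb hb'S]
      _ = (a * a) * (b' * b') * b := by group
      _ = b := by rw [hE.sq a ha, hE.sq b' hb'S, one_mul, one_mul]

/-- The product of an orbit is `1` or `a`. -/
theorem Eight.orbit_prod {b : G} (hb : b ∈ S) (hb1 : b ≠ 1) (hba : b ≠ a) :
    b * (y * b * y⁻¹) * (y * (y * b * y⁻¹) * y⁻¹) = 1 ∨
      b * (y * b * y⁻¹) * (y * (y * b * y⁻¹) * y⁻¹) = a := by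
  have h' := hE.sq _ (mul_mem hb (conj_mem hy hb))
  rcases (hE.orbit ha ha1 hy hya hyC hb hb1 hba).1 with h | h
  · left; rw [h, h']
  · right
    rw [h, mul_assoc a, ← mul_assoc _ a, hE.scomm (mul_mem hb (conj_mem hy hb)) ha, mul_assoc, h',
      mul_one]

/-- A point off `a` or its translate by `a` is on the hyperplane. -/
theorem Eight.inV_or {b : G} (hb : b ∈ S) (hb1 : b ≠ 1) (hba : b ≠ a) :
    InV S a b ∨ InV S a (a * b) := by
  rcases hE.orbit_prod ha ha1 hy hya hyC hb hb1 hba with h | h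
  · exact Or.inl ⟨hb, hb1, y, hy, hya, hyC, h⟩
  · refine Or.inr ⟨mul_mem ha hb, fun e => hba ?_, y, hy, hya, hyC, ?_⟩
    · rw [mul_eq_one_iff_inv_eq, hE.inv_eq ha] at e; exact e.symm
    · have fa := comm_iff_conj.1 hya
      rw [conj_mul', fa, conj_mul', fa]
      have hb' := conj_mem hy hb
      set b' := y * b * y⁻¹
      set b'' := y * b' * y⁻¹
      calc a * b * (a * b') * (a * b'') = a * (b * a) * b' * (a * b'') := by group
        _ = a * (a * b) * b' * (a * b'') := by rw [hE.scomm hb ha]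
        _ = a * a * (b * b' * a) * b'' := by group
        _ = a * a * (a * (b * b')) * b'' := by rw [hE.scomm (mul_mem hb hb') ha]
        _ = a * a * a * (b * b' * b'') := by group
        _ = 1 := by rw [h, hE.sq a ha, one_mul, hE.sq a ha]

/-- Two movers fixing `a` act as mutually equal or inverse permutations. -/
theorem Eight.mover_pow {z : G} (hz : z ∈ normalizer (S : Set G)) (hza : z * a = a * z)
    (hzC : z ∉ centralizer (S : Set G)) :
    y⁻¹ * z ∈ centralizer (S : Set G) ∨ (y * y)⁻¹ * z ∈ centralizer (S : Set G) := by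
  obtain ⟨b, hb, hb1, hba⟩ : ∃ b ∈ S, b ≠ 1 ∧ b ≠ a := by
    by_contra h
    push Not at h
    have hsub : (S : Set G) ⊆ {1, a} := fun x hx => by
      by_cases hx1 : x = 1
      · exact Or.inl hx1
      · exact Or.inr (h x hx hx1)
    have := Set.ncard_le_ncard hsub (Set.toFinite _)
    rw [← Nat.card_coe_set_eq, Set.ncard_pair ha1.symm] at this
    exact absurd (hE.card ▸ this : 8 ≤ 2) (by norm_num)
  obtain ⟨n1, n2⟩ := hE.mover_not ha ha1 hy hya hyC hb hb1 hba
  obtain ⟨k1, k2⟩ := hE.mover_not ha ha1 hz hza hzC hb hb1 hba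
  obtain ⟨hord, -⟩ := hE.orbit ha ha1 hy hya hyC hb hb1 hba
  set b' := y * b * y⁻¹ with hb'
  have hb'S : b' ∈ S := conj_mem hy hb
  have fin : ∀ {g : G}, g ∈ normalizer (S : Set G) → g * a = a * g →
      (g * b * g⁻¹ = z * b * z⁻¹ ∨ g * b * g⁻¹ = a * (z * b * z⁻¹)) →
      g⁻¹ * z ∈ centralizer (S : Set G) := by
    intro g hg hga h
    have h1 : g⁻¹ * z * a = a * (g⁻¹ * z) := (Commute.mul_left (Commute.inv_left hga) hza).eq
    refine hE.mem_centralizer_of_two (mul_mem (inv_mem hg) hz) ha ha1 hb hb1 hba h1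
      (hE.fix_line (mul_mem (inv_mem hg) hz) ha hb h1 ?_)
    rcases h with h | h
    · left
      calc g⁻¹ * z * b * (g⁻¹ * z)⁻¹ = g⁻¹ * (z * b * z⁻¹) * g := by group
        _ = _ := by rw [← h]; group
    · right
      have h' : z * b * z⁻¹ = a * (g * b * g⁻¹) := by rw [h, ← mul_assoc, hE.sq a ha, one_mul]
      calc g⁻¹ * z * b * (g⁻¹ * z)⁻¹ = g⁻¹ * (z * b * z⁻¹) * g := by group
        _ = g⁻¹ * a * g * b := by rw [h']; group
        _ = a * b := by rw [(Commute.inv_left (show Commute g a from hga)).eq]; group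
  have fin2 : (y * y * b * (y * y)⁻¹ = z * b * z⁻¹ ∨
      y * y * b * (y * y)⁻¹ = a * (z * b * z⁻¹)) →
      (y * y)⁻¹ * z ∈ centralizer (S : Set G) :=
    fin (mul_mem hy hy) (Commute.mul_left hya hya).eq
  rw [show y * y * b * (y * y)⁻¹ = y * b' * y⁻¹ by rw [hb']; group] at fin2
  rcases hE.cases8 ha ha1 hb hb1 hba hb'S (conj_ne_one hb1) (hE.mover_ne ha ha1 hy hya hyC hba)
    n1 n2 (conj_mem hz hb) with h | h | h | h | h | h | h | h
  · exact absurd h (conj_ne_one hb1)
  · exact absurd h (hE.mover_ne ha ha1 hz hza hzC hba)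
  · exact absurd h k1
  · exact absurd h k2
  · exact Or.inl (fin hy hya (Or.inl (hb'.symm.trans h.symm)))
  · exact Or.inl (fin hy hya (Or.inr (by rw [h, ← mul_assoc, hE.sq a ha, one_mul])))
  · refine Or.inr (fin2 ?_)
    rcases hord with e | e
    · exact Or.inl (e.trans h.symm)
    · exact Or.inr (by rw [e, h, mul_assoc])
  · refine Or.inr (fin2 ?_)
    rcases hord with e | e
    · exact Or.inr (by rw [e, h, mul_assoc a b b', ← mul_assoc a a, hE.sq a ha, one_mul])
    · exact Or.inl (e.trans h.symm)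

/-- The hyperplane does not depend on the mover. -/
theorem Eight.inV_prod {b : G} (h : InV S a b) :
    b * (y * b * y⁻¹) * (y * (y * b * y⁻¹) * y⁻¹) = 1 := by
  obtain ⟨hb, hb1, z, hz, hza, hzC, hzp⟩ := h
  have hba : b ≠ a := fun e => by
    subst e
    rw [comm_iff_conj.1 hza, comm_iff_conj.1 hza, hE.sq _ hb, one_mul] at hzp
    exact hb1 hzp
  have fix : ∀ {c w : G}, c ∈ centralizer (S : Set G) → w ∈ S → c * w * c⁻¹ = w := fun hc hw =>
    comm_iff_conj.1 (mem_centralizer_iff.1 hc _ hw).symm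
  have hb' := conj_mem hy hb
  rcases hE.mover_pow ha ha1 hy hya hyC hz hza hzC with h | h
  · have e : ∀ {w}, w ∈ S → z * w * z⁻¹ = y * w * y⁻¹ := fun {w} hw => by
      calc z * w * z⁻¹ = y * (y⁻¹ * z * w * (y⁻¹ * z)⁻¹) * y⁻¹ := by group
        _ = _ := by rw [fix h hw]
    rwa [e hb, e hb'] at hzp
  · have e : ∀ {w}, w ∈ S → z * w * z⁻¹ = y * (y * w * y⁻¹) * y⁻¹ := fun {w} hw => by
      calc z * w * z⁻¹ = y * (y * ((y * y)⁻¹ * z * w * ((y * y)⁻¹ * z)⁻¹) * y⁻¹) * y⁻¹ := by group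
        _ = _ := by rw [fix h hw]
    rw [e hb, e (conj_mem hy hb'), (hE.orbit ha ha1 hy hya hyC hb hb1 hba).2] at hzp
    rwa [mul_assoc, hE.scomm hb' (conj_mem hy hb'), ← mul_assoc]

end Mover

theorem Eight.inV_ne {a b : G} (h : InV S a b) : b ≠ a := by
  obtain ⟨hb, hb1, z, hz, hza, hzC, hzp⟩ := h
  rintro rfl
  rw [comm_iff_conj.1 hza, comm_iff_conj.1 hza, hE.sq _ hb, one_mul] at hzp
  exact hb1 hzp

theorem Eight.inV_conj {a b g : G} (hg : g ∈ normalizer (S : Set G)) (h : InV S a b) :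
    InV S (g * a * g⁻¹) (g * b * g⁻¹) := by
  obtain ⟨hb, hb1, z, hz, hza, hzC, hzp⟩ := h
  refine ⟨conj_mem hg hb, conj_ne_one hb1, g * z * g⁻¹, mul_mem (mul_mem hg hz) (inv_mem hg), ?_,
    fun hc => hzC (mem_centralizer_iff.2 fun s hs => ?_), ?_⟩
  · calc g * z * g⁻¹ * (g * a * g⁻¹) = g * (z * a) * g⁻¹ := by group
      _ = g * (a * z) * g⁻¹ := by rw [hza]
      _ = _ := by group
  · have := mem_centralizer_iff.1 hc (g * s * g⁻¹) (conj_mem hg hs)
    rw [show g * s * g⁻¹ * (g * z * g⁻¹) = g * (s * z) * g⁻¹ by group,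
      show g * z * g⁻¹ * (g * s * g⁻¹) = g * (z * s) * g⁻¹ by group] at this
    exact conj_cancel this
  · rw [show g * b * g⁻¹ * (g * z * g⁻¹ * (g * b * g⁻¹) * (g * z * g⁻¹)⁻¹) *
      (g * z * g⁻¹ * (g * z * g⁻¹ * (g * b * g⁻¹) * (g * z * g⁻¹)⁻¹) * (g * z * g⁻¹)⁻¹) =
      g * (b * (z * b * z⁻¹) * (z * (z * b * z⁻¹) * z⁻¹)) * g⁻¹ by group, hzp, mul_one,
      mul_inv_cancel]

/-- Some mover permutes the three involutions of the line `⟨t, b⟩` cyclically. -/
theorem Eight.exists_cycle {t b : G} (ht : t ∈ S) (ht1 : t ≠ 1) (hb : b ∈ S) (hb1 : b ≠ 1)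
    (hbt : b ≠ t) :
    ∃ s y : G, s ∈ S ∧ s ≠ 1 ∧ y ∈ normalizer (S : Set G) ∧ y * s = s * y ∧
      y ∉ centralizer (S : Set G) ∧ InV S s t ∧ (y * t * y⁻¹ = b ∨ y * t * y⁻¹ = t * b) := by
  obtain ⟨y, hy, hyt, hyC⟩ := hE.moves t ht ht1
  obtain ⟨c0, hc0⟩ : ∃ c0, InV S t c0 := (hE.inV_or ht ht1 hy hyt hyC hb hb1 hbt).elim
    (fun h => ⟨b, h⟩) (fun h => ⟨t * b, h⟩)
  obtain ⟨g, hg, hgc⟩ := hE.trans c0 hc0.1 hc0.2.1 t ht ht1
  have hat : InV S (g * t * g⁻¹) t := by
    have := hE.inV_conj hg hc0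
    rwa [hgc] at this
  set a := g * t * g⁻¹ with ha'
  have ha : a ∈ S := conj_mem hg ht
  have ha1 : a ≠ 1 := conj_ne_one ht1
  obtain ⟨z, hz, hza, hzC⟩ := hE.moves a ha ha1
  have hta : t ≠ a := hE.inV_ne hat
  set u := z * t * z⁻¹ with hu
  have huS : u ∈ S := conj_mem hz ht
  have hu1 : u ≠ 1 := conj_ne_one ht1
  obtain ⟨nu, -⟩ := hE.mover_not ha ha1 hz hza hzC ht ht1 hta
  obtain ⟨k, hk, hkt, hku⟩ : ∃ k ∈ normalizer (S : Set G), k * t = t * k ∧
      (k * u * k⁻¹ = b ∨ k * u * k⁻¹ = t * b) := by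
    obtain ⟨n1, n2⟩ := hE.mover_not ht ht1 hy hyt hyC hb hb1 hbt
    obtain ⟨ho, -⟩ := hE.orbit ht ht1 hy hyt hyC hb hb1 hbt
    have ft := comm_iff_conj.1 hyt
    set b' := y * b * y⁻¹ with hb'
    have hy' : ∀ {w}, y * w * y⁻¹ = u → y⁻¹ * u * y⁻¹⁻¹ = w := fun {w} e => by rw [← e]; group
    have hy2 : ∀ {w}, y * (y * w * y⁻¹) * y⁻¹ = u → (y * y)⁻¹ * u * (y * y)⁻¹⁻¹ = w := fun {w} e => by
      rw [← e]; group
    rcases hE.cases8 ht ht1 hb hb1 hbt (conj_mem hy hb) (conj_ne_one hb1)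
      (hE.mover_ne ht ht1 hy hyt hyC hbt) n1 n2 huS with h | h | h | h | h | h | h | h
    · exact absurd h hu1
    · exact absurd h nu
    · exact ⟨1, one_mem _, by simp, Or.inl (by simp [h])⟩
    · exact ⟨1, one_mem _, by simp, Or.inr (by simp [h])⟩
    · exact ⟨y⁻¹, inv_mem hy, (Commute.inv_left hyt).eq, Or.inl (hy' h.symm)⟩
    · exact ⟨y⁻¹, inv_mem hy, (Commute.inv_left hyt).eq, Or.inr (hy' (by rw [conj_mul', ft, h]))⟩
    · refine ⟨(y * y)⁻¹, inv_mem (mul_mem hy hy), (Commute.inv_left (Commute.mul_left hyt hyt)).eq, ?_⟩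
      rcases ho with e | e
      · exact Or.inl (hy2 (e.trans h.symm))
      · refine Or.inr (hy2 ?_)
        rw [conj_mul' y t b, ft, conj_mul', ft, e, h, mul_assoc t b b', ← mul_assoc t t, hE.sq t ht,
          one_mul]
    · refine ⟨(y * y)⁻¹, inv_mem (mul_mem hy hy), (Commute.inv_left (Commute.mul_left hyt hyt)).eq, ?_⟩
      rcases ho with e | e
      · refine Or.inr (hy2 ?_)
        rw [conj_mul' y t b, ft, conj_mul', ft, e, h, mul_assoc]
      · exact Or.inl (hy2 (e.trans h.symm))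
  have fk := comm_iff_conj.1 hkt
  refine ⟨k * a * k⁻¹, k * z * k⁻¹, conj_mem hk ha, conj_ne_one ha1,
    mul_mem (mul_mem hk hz) (inv_mem hk), ?_, fun hc => hzC (mem_centralizer_iff.2 fun s hs => ?_),
    ?_, ?_⟩
  · calc k * z * k⁻¹ * (k * a * k⁻¹) = k * (z * a) * k⁻¹ := by group
      _ = k * (a * z) * k⁻¹ := by rw [hza]
      _ = _ := by group
  · have := mem_centralizer_iff.1 hc (k * s * k⁻¹) (conj_mem hk hs)
    rw [show k * s * k⁻¹ * (k * z * k⁻¹) = k * (s * z) * k⁻¹ by group,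
      show k * z * k⁻¹ * (k * s * k⁻¹) = k * (z * s) * k⁻¹ by group] at this
    exact conj_cancel this
  · have := hE.inV_conj hk hat
    rwa [fk] at this
  · have : k * z * k⁻¹ * t * (k * z * k⁻¹)⁻¹ = k * u * k⁻¹ := by
      conv_lhs => rw [← fk]
      rw [hu]; group
    rw [this]
    exact hku

/-- The orbit of `t` under the cyclic mover of a line is the line. -/
theorem Eight.cycle_orbit {s y t b : G} (hs : s ∈ S) (hs1 : s ≠ 1) (hy : y ∈ normalizer (S : Set G))
    (hys : y * s = s * y) (hyC : y ∉ centralizer (S : Set G)) (hst : InV S s t) (ht : t ∈ S)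
    (h : y * t * y⁻¹ = b ∨ y * t * y⁻¹ = t * b) :
    (y * t * y⁻¹ = b ∧ y * b * y⁻¹ = t * b ∧ y * (t * b) * y⁻¹ = t) ∨
      (y * t * y⁻¹ = t * b ∧ y * (t * b) * y⁻¹ = b ∧ y * b * y⁻¹ = t) := by
  have hp := hE.inV_prod hs hs1 hy hys hyC hst
  have h3 := (hE.orbit hs hs1 hy hys hyC ht hst.2.1 (hE.inV_ne hst)).2
  have e : y * (y * t * y⁻¹) * y⁻¹ = t * (y * t * y⁻¹) := by
    rw [mul_eq_one_iff_inv_eq] at hp
    rw [← hp, hE.inv_eq (mul_mem ht (conj_mem hy ht))]
  rw [e] at h3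
  rcases h with h | h
  · rw [h] at e h3; exact Or.inl ⟨h, e, h3⟩
  · rw [h] at e h3
    rw [← mul_assoc t t b, hE.sq t ht, one_mul] at e h3
    exact Or.inr ⟨h, e, h3⟩

/-- An element stabilising the line of a cyclic mover fixes the point of that mover. -/
theorem Eight.stab_line {s y t b g : G} (hs : s ∈ S) (hs1 : s ≠ 1) (hy : y ∈ normalizer (S : Set G))
    (hys : y * s = s * y) (hyC : y ∉ centralizer (S : Set G)) (hst : InV S s t) (ht : t ∈ S)
    (ht1 : t ≠ 1) (hb : b ∈ S) (hb1 : b ≠ 1) (hbt : b ≠ t)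
    (h : y * t * y⁻¹ = b ∨ y * t * y⁻¹ = t * b) (hg : g ∈ normalizer (S : Set G))
    (hgC : g ∉ centralizer (S : Set G))
    (hgt : g * t * g⁻¹ = t ∨ g * t * g⁻¹ = b ∨ g * t * g⁻¹ = t * b)
    (hgb : g * b * g⁻¹ = t ∨ g * b * g⁻¹ = b ∨ g * b * g⁻¹ = t * b) : g * s = s * g := by
  have key : ∀ k ∈ normalizer (S : Set G), k * t * k⁻¹ = t →
      (k * b * k⁻¹ = t ∨ k * b * k⁻¹ = b ∨ k * b * k⁻¹ = t * b) → k ∈ centralizer (S : Set G) := by
    intro k hk hkt hkb
    refine hE.mem_centralizer_of_two hk ht ht1 hb hb1 hbt (comm_iff_conj.2 hkt)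
      (hE.fix_line hk ht hb (comm_iff_conj.2 hkt) ?_)
    rcases hkb with e | e
    · exact absurd (conj_cancel (e.trans hkt.symm)) hbt
    · exact e
  have fin : ∀ k ∈ normalizer (S : Set G), k * s = s * k → k⁻¹ * g ∈ centralizer (S : Set G) →
      g * s = s * g := by
    intro k _ hks hkg
    have h1 : Commute (k⁻¹ * g) s := (mem_centralizer_iff.1 hkg s hs).symm
    have := Commute.mul_left (show Commute k s from hks) h1
    rwa [mul_inv_cancel_left] at this
  have conj' : ∀ k w : G, k⁻¹ * g * w * (k⁻¹ * g)⁻¹ = k⁻¹ * (g * w * g⁻¹) * k := fun k w => by group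
  have back : ∀ {k w w' : G}, k * w * k⁻¹ = w' → k⁻¹ * w' * k = w := fun {k w w'} e => by
    rw [← e]; group
  have two : ∀ {w w' w'' : G}, y * w * y⁻¹ = w' → y * w' * y⁻¹ = w'' →
      (y * y)⁻¹ * w'' * (y * y) = w := fun {w w' w''} e e' => by rw [← e', ← e]; group
  have hyy := mul_mem hy hy
  have hys2 : y * y * s = s * (y * y) := (Commute.mul_left hys hys).eq
  rcases hE.cycle_orbit hs hs1 hy hys hyC hst ht h with ⟨o1, o2, o3⟩ | ⟨o1, o2, o3⟩
  · rcases hgt with e | e | e
    · exact absurd (key g hg e hgb) hgC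
    · refine fin y hy hys (key _ (mul_mem (inv_mem hy) hg) (by rw [conj', e, back o1]) ?_)
      rcases hgb with f | f | f
      · exact Or.inr (Or.inr (by rw [conj', f, back o3]))
      · exact Or.inl (by rw [conj', f, back o1])
      · exact Or.inr (Or.inl (by rw [conj', f, back o2]))
    · refine fin _ hyy hys2 (key _ (mul_mem (inv_mem hyy) hg) (by rw [conj', e, two o1 o2]) ?_)
      rcases hgb with f | f | f
      · exact Or.inr (Or.inl (by rw [conj', f, two o2 o3]))
      · exact Or.inr (Or.inr (by rw [conj', f, two o3 o1]))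
      · exact Or.inl (by rw [conj', f, two o1 o2])
  · rcases hgt with e | e | e
    · exact absurd (key g hg e hgb) hgC
    · refine fin _ hyy hys2 (key _ (mul_mem (inv_mem hyy) hg) (by rw [conj', e, two o1 o2]) ?_)
      rcases hgb with f | f | f
      · exact Or.inr (Or.inr (by rw [conj', f, two o2 o3]))
      · exact Or.inl (by rw [conj', f, two o1 o2])
      · exact Or.inr (Or.inl (by rw [conj', f, two o3 o1]))
    · refine fin y hy hys (key _ (mul_mem (inv_mem hy) hg) (by rw [conj', e, back o1]) ?_)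
      rcases hgb with f | f | f
      · exact Or.inr (Or.inl (by rw [conj', f, back o3]))
      · exact Or.inr (Or.inr (by rw [conj', f, back o2]))
      · exact Or.inl (by rw [conj', f, back o1])

/-- A subgroup containing a mover at `a` and moving `a` is transitive. -/
theorem Eight.full {H : Subgroup G} {a y g : G} (ha : a ∈ S) (ha1 : a ≠ 1) (hyH : y ∈ H)
    (hy : y ∈ normalizer (S : Set G)) (hya : y * a = a * y) (hyC : y ∉ centralizer (S : Set G))
    (hgH : g ∈ H) (hg : g ∈ normalizer (S : Set G)) (hga : g * a ≠ a * g) {d : G} (hd : d ∈ S)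
    (hd1 : d ≠ 1) : ∃ h ∈ H, h ∈ normalizer (S : Set G) ∧ h * a * h⁻¹ = d := by
  let R : G → Prop := fun w => ∃ h ∈ H, h ∈ normalizer (S : Set G) ∧ h * a * h⁻¹ = w
  have step : ∀ {k}, k ∈ H → k ∈ normalizer (S : Set G) → ∀ {w}, R w → R (k * w * k⁻¹) := by
    rintro k hkH hk w ⟨h, hhH, hh, rfl⟩
    exact ⟨k * h, mul_mem hkH hhH, mul_mem hk hh, (conj_conj k h a).symm⟩
  have hRa : R a := ⟨1, one_mem _, one_mem _, by simp⟩
  set c := g * a * g⁻¹ with hc
  have hRc : R c := ⟨g, hgH, hg, rfl⟩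
  have hcS : c ∈ S := conj_mem hg ha
  have hc1 : c ≠ 1 := conj_ne_one ha1
  have hca : c ≠ a := fun h => hga (comm_iff_conj.2 h)
  set c' := y * c * y⁻¹ with hc'
  set c'' := y * c' * y⁻¹ with hc''
  have hc'S : c' ∈ S := conj_mem hy hcS
  have hc'1 : c' ≠ 1 := conj_ne_one hc1
  have hc''S : c'' ∈ S := conj_mem hy hc'S
  obtain ⟨n1, n2⟩ := hE.mover_not ha ha1 hy hya hyC hcS hc1 hca
  obtain ⟨ho, h3⟩ := hE.orbit ha ha1 hy hya hyC hcS hc1 hca
  replace h3 : y * c'' * y⁻¹ = c := h3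
  replace ho : c'' = c * c' ∨ c'' = a * c * c' := ho
  have hc'a : c' ≠ a := hE.mover_ne ha ha1 hy hya hyC hca
  have fa := comm_iff_conj.1 hya
  have hc''a : c'' ≠ a := hE.mover_ne ha ha1 hy hya hyC hc'a
  have hRc' : R c' := step hyH hy hRc
  have hRc'' : R c'' := step hyH hy hRc'
  have sa := hE.sq a ha
  have eac : y * (a * c) * y⁻¹ = a * c' := by rw [conj_mul', fa]
  have eac' : y * (a * c') * y⁻¹ = a * c'' := by rw [conj_mul', fa]
  have eac'' : y * (a * c'') * y⁻¹ = a * c := by rw [conj_mul', fa, h3]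
  have tr : ∀ {u v : G}, u = v → R v → R u := fun e h => e ▸ h
  suffices hnew : R (a * c) ∨ R (a * c') ∨ R (a * c'') by
    have h1 : R (a * c) := by
      rcases hnew with h | h | h
      · exact h
      · have := step hyH hy (step hyH hy h); rwa [eac', eac''] at this
      · have := step hyH hy h; rwa [eac''] at this
    have h2 : R (a * c') := eac ▸ step hyH hy h1
    have h3' : R (a * c'') := eac' ▸ step hyH hy h2
    rcases hE.cases8 ha ha1 hcS hc1 hca hc'S hc'1 hc'a n1 n2 hd with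
      h | h | h | h | h | h | h | h
    · exact absurd h hd1
    · exact tr h hRa
    · exact tr h hRc
    · exact tr h h1
    · exact tr h hRc'
    · exact tr h h2
    · rcases ho with e | e
      · exact tr (h.trans e.symm) hRc''
      · have : a * c'' = d := by
          rw [h, show c'' = a * c * c' from e, mul_assoc a c c', ← mul_assoc a a, sa, one_mul]
        exact tr this.symm h3'
    · rcases ho with e | e
      · have : a * c'' = d := by rw [h, show c'' = c * c' from e, mul_assoc a c c']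
        exact tr this.symm h3'
      · exact tr (h.trans e.symm) hRc''
  set w := g * y * g⁻¹ with hw
  have hwH : w ∈ H := mul_mem (mul_mem hgH hyH) (inv_mem hgH)
  have hwN : w ∈ normalizer (S : Set G) := mul_mem (mul_mem hg hy) (inv_mem hg)
  have hwc : w * c = c * w := by
    rw [hw, hc]
    calc g * y * g⁻¹ * (g * a * g⁻¹) = g * (y * a) * g⁻¹ := by group
      _ = g * (a * y) * g⁻¹ := by rw [hya]
      _ = _ := by group
  have hwC : w ∉ centralizer (S : Set G) := fun h => hyC (mem_centralizer_iff.2 fun s hs => by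
    have := mem_centralizer_iff.1 h (g * s * g⁻¹) (conj_mem hg hs)
    rw [hw, show g * s * g⁻¹ * (g * y * g⁻¹) = g * (s * y) * g⁻¹ by group,
      show g * y * g⁻¹ * (g * s * g⁻¹) = g * (y * s) * g⁻¹ by group] at this
    exact conj_cancel this)
  obtain ⟨p1, p2⟩ := hE.mover_not hcS hc1 hwN hwc hwC ha ha1 (Ne.symm hca)
  obtain ⟨q, -⟩ := hE.orbit hcS hc1 hwN hwc hwC ha ha1 (Ne.symm hca)
  have hR1 : R (w * a * w⁻¹) := step hwH hwN hRa
  have hR2 : R (w * (w * a * w⁻¹) * w⁻¹) := step hwH hwN hR1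
  have fc := comm_iff_conj.1 hwc
  have cc' : c * c' = c'' ∨ c * c' = a * c'' := by
    rcases ho with e | e
    · exact Or.inl e.symm
    · right; rw [show c'' = a * c * c' from e, mul_assoc a c c', ← mul_assoc a a, sa, one_mul]
  have sc := hE.sq c hcS
  have hac1 : a * c ≠ 1 := fun e2 => hca (by
    rw [mul_eq_one_iff_inv_eq, hE.inv_eq ha] at e2; exact e2.symm)
  have fix2 : ∀ {k u v : G}, k ∈ normalizer (S : Set G) → u ∈ S → u ≠ c → u ≠ a →
      k * (a * c) * k⁻¹ = a * c → k * (a * u) * k⁻¹ = a * u → k * c * k⁻¹ = v → v = c := by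
    intro k u v hk hu huc hua e1 e2 e3
    rw [← e3]
    have hau : a * u ≠ 1 := fun e => hua (by
      rw [mul_eq_one_iff_inv_eq, hE.inv_eq ha] at e; exact e.symm)
    exact comm_iff_conj.1 (mem_centralizer_iff.1 (hE.mem_centralizer_of_two hk (mul_mem ha hcS)
        hac1 (mul_mem ha hu) hau (fun e => huc (mul_left_cancel e)) (comm_iff_conj.2 e1)
        (comm_iff_conj.2 e2)) c hcS).symm
  rcases hE.cases8 ha ha1 hcS hc1 hca hc'S hc'1 hc'a n1 n2 (conj_mem hwN ha) with
    h | h | h | h | h | h | h | h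
  · exact absurd h (conj_ne_one ha1)
  · exact absurd h p1
  · exact absurd h (hE.mover_ne hcS hc1 hwN hwc hwC (Ne.symm hca))
  · exact absurd (h.trans (hE.scomm ha hcS)) p2
  · -- `w a = c'`
    rw [h] at q hR1 hR2
    rcases q with e | e
    · rw [e] at hR2
      exact Or.inr (Or.inl hR2)
    · rw [hE.scomm hcS ha, mul_assoc a c c'] at e
      rcases cc' with f | f
      · rw [e, f] at hR2
        exact Or.inr (Or.inr hR2)
      · exfalso
        have e' : w * c' * w⁻¹ = c'' := by rw [e, f, ← mul_assoc, sa, one_mul]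
        have f1 : w * (a * c) * w⁻¹ = a * c'' := by rw [conj_mul', h, fc, hE.scomm hc'S hcS, f]
        have f2 : w * c'' * w⁻¹ = a := by
          have := (hE.orbit hcS hc1 hwN hwc hwC ha ha1 (Ne.symm hca)).2
          rwa [h, e'] at this
        have f3 : w * (a * c'') * w⁻¹ = a * c' := by rw [conj_mul', h, f2, hE.scomm hc'S ha]
        refine n1 (fix2 (mul_mem hy hwN) hc''S (fun e2 => n1 ?_) hc''a ?_ ?_ ?_)
        · rw [e2] at h3
          exact h3
        · rw [← conj_conj, f1, eac'']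
        · rw [← conj_conj, f3, eac']
        · rw [← conj_conj, fc]
  · rw [h] at hR1
    exact Or.inr (Or.inl hR1)
  · -- `w a = c c'`
    rcases cc' with f | f
    · rw [f] at h
      rw [h] at q hR1 hR2
      rcases q with e | e
      · rw [e] at hR2
        exact Or.inr (Or.inr hR2)
      · have : w * c'' * w⁻¹ = a * c' := by
          rw [e, hE.scomm hcS ha, ← f]
          calc a * c * (c * c') = a * (c * c) * c' := by group
            _ = _ := by rw [sc, mul_one]
        rw [this] at hR2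
        exact Or.inr (Or.inl hR2)
    · rw [h, f] at hR1
      exact Or.inr (Or.inr hR1)
  · -- `w a = a c c'`
    rw [mul_assoc a c c'] at h
    rcases cc' with f | f
    · rw [h, f] at hR1
      exact Or.inr (Or.inr hR1)
    · rw [f, ← mul_assoc, sa, one_mul] at h
      rw [h] at q hR1 hR2
      have hcc : c * c'' = a * c' := by
        have : c'' = a * (c * c') := by rw [f, ← mul_assoc, sa, one_mul]
        rw [this, hE.scomm ha (mul_mem hcS hc'S), ← mul_assoc, ← mul_assoc, sc, one_mul,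
          hE.scomm hc'S ha]
      rcases q with e | e
      · rw [e] at hR2
        exact Or.inr (Or.inr hR2)
      · exfalso
        have e' : w * c'' * w⁻¹ = c' := by
          rw [e, hE.scomm hcS ha, mul_assoc a c c'', hcc, ← mul_assoc, sa, one_mul]
        have f1 : w * (a * c) * w⁻¹ = a * c' := by rw [conj_mul', h, fc, hE.scomm hc''S hcS, hcc]
        have f2 : w * c' * w⁻¹ = a := by
          have := (hE.orbit hcS hc1 hwN hwc hwC ha ha1 (Ne.symm hca)).2
          rwa [h, e'] at this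
        have f3 : w * (a * c') * w⁻¹ = a * c'' := by rw [conj_mul', h, f2, hE.scomm hc''S ha]
        have hne : c'' ≠ c := fun e2 => n1 (by rw [e2] at h3; exact h3)
        refine hne (fix2 (mul_mem (mul_mem hy hy) hwN) hc'S n1 hc'a ?_ ?_ ?_)
        · rw [← conj_conj, f1, ← conj_conj, eac', eac'']
        · rw [← conj_conj, f3, ← conj_conj, eac'', eac]
        · rw [← conj_conj, fc, ← conj_conj]

end Cfsg.Agent.Walter8
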