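import Cfsg.Agent.Lib.Walter8.Quot
import Cfsg.Agent.Lib.Signalizer.SFT.Equivariant
import Cfsg.Agent.Lib.SEMain.Kernel
import Cfsg.Agent.Lib.OddChar.OddTheorem
import Cfsg.Agent.Lib.Solvable.Coprime

/-!
# An elementary Sylow 2-subgroup of order eight

The odd cores of the involution centralisers, odd subgroups normalised by the Sylow subgroup, and the
condition `Small`: modulo `⟨t⟩ O(C(t))` every element commuting with an involution squares to one.
-/

set_option autoImplicit false
set_option linter.style.haveILetI false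
set_option linter.unusedSectionVars false

namespace Cfsg.Agent.Walter8

open Subgroup Cfsg.Agent.Signalizer Cfsg.Agent.Signalizer.SFT
open Cfsg.Agent.ClosedAbelian (core)
open scoped Pointwise

universe u

variable {G : Type u} [Group G] [Finite G]

/-- Elementary Sylow 2-subgroup of order eight, one class of involutions, trivial odd core and a
non-solvable centraliser. -/
structure Hyp8 (S : Sylow 2 G) : Prop where
  card : Nat.card (S : Subgroup G) = 8
  sq : ∀ s ∈ (S : Subgroup G), s * s = 1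
  conj : ∀ a b : G, orderOf a = 2 → orderOf b = 2 → IsConj a b
  oddCore : Cfsg.oddCore G = ⊥
  nonsolv : ∃ t : G, orderOf t = 2 ∧ ¬ Group.IsSolvable ↥(centralizer ({t} : Set G))

/-- Modulo `⟨t⟩ O(C(t))` what commutes with an involution squares to one. -/
def Small (t : G) : Prop :=
  ∀ x y : G, x * t = t * x → y * t = t * y → x * x = 1 → x ≠ 1 → x ≠ t → y * x = x * y →
    y * y ∈ core (cen t) ⊔ zpowers t

theorem core_eq (t : G) : core (cen t) = Cfsg.centralizerPPrimeCore 2 t := by
  have h0 := Components.centralizerPPrimeCore_props (p := 2) t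
  have ho : Odd (Nat.card (Cfsg.centralizerPPrimeCore 2 t)) := Nat.coprime_two_right.1 h0.2.2
  have hn : cen t ≤ normalizer (Cfsg.centralizerPPrimeCore 2 t : Set G) := by
    refine le_trans (le_of_eq ?_) h0.2.1
    rw [zpowers_eq_closure, centralizer_closure]
  refine le_antisymm (fun y hy => ?_) (ClosedAbelian.le_core (map_subtype_le _) hn fun h =>
    Nat.not_even_iff_odd.2 ho (even_iff_two_dvd.2 h))
  have h := SEBrick.le_oddCore (G := ↥(cen t))
    ((normal_subgroupOf_iff_le_normalizer (ClosedAbelian.core_le _)).2 (ClosedAbelian.core_normalized _))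
    (by
      rw [Nat.card_congr (subgroupOfEquivOfLe (ClosedAbelian.core_le _)).toEquiv,
        ← Nat.not_even_iff_odd, even_iff_two_dvd]
      exact ClosedAbelian.core_odd _)
  exact ⟨⟨y, ClosedAbelian.core_le _ hy⟩, h (mem_subgroupOf.2 hy), rfl⟩

theorem core_card_odd (t : G) : Odd (Nat.card (core (cen t))) := by
  rw [← Nat.not_even_iff_odd, even_iff_two_dvd]
  exact ClosedAbelian.core_odd _

theorem core_solvable (t : G) : Group.IsSolvable (core (cen t)) := OddChar.oddSolvable _ (core_card_odd t)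

theorem core_conj (g t : G) :
    core (cen (g * t * g⁻¹)) = (core (cen t)).map (MulAut.conj g).toMonoidHom := by
  rw [core_eq, core_eq]
  exact (Components.centralizerPPrimeCore_map_equiv (MulAut.conj g) t).symm

theorem Small.conj {t : G} (h : Small t) (g : G) : Small (g * t * g⁻¹) := by
  intro x y hx hy hx2 hx1 hxt hyx
  set c := (MulAut.conj g).symm with hc
  have hct : c (g * t * g⁻¹) = t := by simp [hc, mul_assoc]
  have hmul : ∀ {a b : G}, a * b = b * a → c a * c b = c b * c a := fun e => by rw [← map_mul, e, map_mul]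
  have := h (c x) (c y) (by rw [← hct]; exact hmul hx) (by rw [← hct]; exact hmul hy)
    (by rw [← map_mul, hx2, map_one]) (fun e => hx1 (c.injective (e.trans (map_one c).symm)))
    (fun e => hxt (c.injective (e.trans hct.symm))) (hmul hyx)
  have h2 := mem_map_of_mem (MulAut.conj g).toMonoidHom this
  rw [← map_mul, Subgroup.map_sup, MonoidHom.map_zpowers, ← core_conj] at h2
  simpa [hc, mul_assoc] using h2

variable {S : Sylow 2 G} (hS : Hyp8 S)
include hS

theorem Hyp8.order {s : G} (hs : s ∈ (S : Subgroup G)) (h1 : s ≠ 1) : orderOf s = 2 :=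
  Invol.order_two_of_sq (hS.sq s hs) h1

theorem Hyp8.comm {s t : G} (hs : s ∈ (S : Subgroup G)) (ht : t ∈ (S : Subgroup G)) : s * t = t * s := by
  calc s * t = (s * t)⁻¹ := (inv_eq_of_mul_eq_one_right (hS.sq _ (mul_mem hs ht))).symm
    _ = t * s := by
      rw [mul_inv_rev, inv_eq_of_mul_eq_one_right (hS.sq s hs), inv_eq_of_mul_eq_one_right (hS.sq t ht)]

theorem Hyp8.ea : Cfsg.IsElementaryAbelian 2 (S : Subgroup G) :=
  ⟨.of_setLike_mul_comm fun _ ha _ hb => hS.comm ha hb, fun s hs => by rw [pow_two]; exact hS.sq s hs⟩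

theorem Hyp8.le_centralizer {a : G} (ha : a ∈ (S : Subgroup G)) :
    (S : Subgroup G) ≤ centralizer ({a} : Set G) := fun _ hs =>
  mem_centralizer_singleton_iff.2 (hS.comm hs ha)

/-- A four-group of the Sylow subgroup avoiding a given involution. -/
theorem Hyp8.exists_four_avoid {a : G} (ha : a ∈ (S : Subgroup G)) :
    ∃ E : Subgroup G, E ≤ (S : Subgroup G) ∧ SEBrick.IsFour E ∧ (a ≠ 1 → a ∉ E) := by
  classical
  have key : ∀ T : Set G, T.ncard < 8 → ∃ s ∈ (S : Subgroup G), s ∉ T := fun T hT => by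
    by_contra hno
    push Not at hno
    have h := Set.ncard_le_ncard (show ((S : Subgroup G) : Set G) ⊆ T from hno) (Set.toFinite _)
    rw [← Nat.card_coe_set_eq] at h
    change Nat.card (S : Subgroup G) ≤ _ at h
    rw [hS.card] at h
    omega
  obtain ⟨v, hv, hv'⟩ := key {1, a} ((Set.ncard_insert_le _ _).trans_lt (by rw [Set.ncard_singleton]; norm_num))
  obtain ⟨w, hw, hw'⟩ := key {1, a, v, a * v}
    (by
      have h1 := Set.ncard_insert_le (1 : G) {a, v, a * v}
      have h2 := Set.ncard_insert_le a ({v, a * v} : Set G)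
      have h3 := Set.ncard_insert_le v ({a * v} : Set G)
      rw [Set.ncard_singleton] at h3
      omega)
  simp only [Set.mem_insert_iff, Set.mem_singleton_iff, not_or] at hv' hw'
  have hvo := hS.order hv hv'.1
  have hwo := hS.order hw hw'.1
  obtain ⟨E, hE, hvE, hwE⟩ := BrauerSuzuki.exists_klein hvo hwo (hS.comm hv hw) (Ne.symm hw'.2.2.1)
  haveI := hE
  have h4 : Nat.card E = 4 := IsKleinFour.card_four
  have hset : ∀ e ∈ E, e = 1 ∨ e = v ∨ e = w ∨ e = v * w := by
    have hsub : ({1, v, w, v * w} : Set G) ⊆ (E : Set G) := by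
      rintro x (rfl | rfl | rfl | rfl)
      exacts [one_mem _, hvE, hwE, mul_mem hvE hwE]
    have h1 : v ≠ v * w := fun h => hw'.1 (mul_eq_left.1 h.symm)
    have h3 : w ≠ v * w := fun h => hv'.1 (mul_eq_right.1 h.symm)
    have h5 : (1 : G) ≠ v * w := fun h => hw'.2.2.1 (by
      have e := eq_inv_of_mul_eq_one_right h.symm
      rwa [inv_eq_of_mul_eq_one_right (hS.sq v hv)] at e)
    have hc : ({1, v, w, v * w} : Set G).ncard = 4 := by
      rw [Set.ncard_insert_of_notMem (by simp [Ne.symm hv'.1, Ne.symm hw'.1, h5]),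
        Set.ncard_insert_of_notMem (by simp [Ne.symm hw'.2.2.1, h1]), Set.ncard_pair h3]
    have heq := Set.eq_of_subset_of_ncard_le hsub (by
      rw [hc, ← Nat.card_coe_set_eq]; exact h4.le) (Set.toFinite _)
    intro e he
    have : e ∈ ({1, v, w, v * w} : Set G) := heq ▸ he
    simpa using this
  have hES : E ≤ (S : Subgroup G) := fun e he => by
    rcases hset e he with rfl | rfl | rfl | rfl
    exacts [one_mem _, hv, hw, mul_mem hv hw]
  refine ⟨E, hES, ⟨ea_mono hS.ea hES, h4.ge⟩, fun ha1 haE => ?_⟩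
  rcases hset a haE with h | h | h | h
  · exact ha1 h
  · exact hv'.2 h.symm
  · exact hw'.2.1 h.symm
  · exact hw'.2.2.2 (by rw [h, hS.comm hv hw, mul_assoc, hS.sq v hv, mul_one])

theorem Hyp8.exists_ne : ∃ a ∈ (S : Subgroup G), a ≠ 1 := by
  obtain ⟨E, hES, hE, -⟩ := hS.exists_four_avoid (one_mem _)
  obtain ⟨e, he, he1⟩ := SESolv.IsFour.exists_ne hE
  exact ⟨e, hES he, he1⟩

/-- A 2-subgroup has a conjugate in the Sylow subgroup. -/
theorem Hyp8.exists_conj {P : Subgroup G} (hP : IsPGroup 2 P) :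
    ∃ g : G, ∀ x ∈ P, g * x * g⁻¹ ∈ (S : Subgroup G) := by
  haveI : Fact (Nat.Prime 2) := ⟨Nat.prime_two⟩
  obtain ⟨R, hR⟩ := hP.exists_le_sylow
  obtain ⟨g, hg⟩ := MulAction.exists_smul_eq G R S
  refine ⟨g, fun x hx => ?_⟩
  rw [← hg, Sylow.coe_subgroup_smul]
  exact ⟨x, hR hx, rfl⟩

theorem Hyp8.small_all {a : G} (ha : orderOf a = 2) (h : Small a) {t : G} (ht : orderOf t = 2) :
    Small t := by
  obtain ⟨g, hg⟩ := isConj_iff.1 (hS.conj a t ha ht)
  exact hg ▸ h.conj g

theorem Hyp8.nonsolv_at {a : G} (ha : orderOf a = 2) :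
    ¬ Group.IsSolvable ↥(centralizer ({a} : Set G)) := by
  obtain ⟨t, ht, hts⟩ := hS.nonsolv
  obtain ⟨g, hg⟩ := isConj_iff.1 (hS.conj t a ht ha)
  intro hsol
  have hmem : ∀ x ∈ centralizer ({t} : Set G), g * x * g⁻¹ ∈ centralizer ({a} : Set G) := fun x hx => by
    refine mem_centralizer_singleton_iff.2 ?_
    have hxt := mem_centralizer_singleton_iff.1 hx
    rw [← hg]
    calc g * x * g⁻¹ * (g * t * g⁻¹) = g * (x * t) * g⁻¹ := by group
      _ = g * (t * x) * g⁻¹ := by rw [hxt]
      _ = _ := by group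
  haveI := hsol
  let f : centralizer ({t} : Set G) →* centralizer ({a} : Set G) :=
    { toFun := fun x => ⟨g * x * g⁻¹, hmem x x.2⟩
      map_one' := Subtype.ext (by simp)
      map_mul' := fun x y => Subtype.ext (by simp) }
  exact hts (Group.isSolvable_of_isSolvable_injective (f := f) fun x y e => Subtype.ext (by
    have e' : g * (x : G) * g⁻¹ = g * y * g⁻¹ := congrArg Subtype.val e
    exact mul_left_cancel (mul_right_cancel e')))

/-- `Small` puts odd subgroups of `C(a)` normalised by the Sylow subgroup into the core. -/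
theorem Hyp8.le_core_of_small {a : G} (ha : a ∈ (S : Subgroup G)) (ha1 : a ≠ 1) (hsm : Small a)
    {Y : Subgroup G} (hY : Y ≤ centralizer ({a} : Set G)) (ho : Odd (Nat.card Y))
    (hn : (S : Subgroup G) ≤ normalizer (Y : Set G)) : Y ≤ core (cen a) := by
  obtain ⟨E, hES, hE, haE⟩ := hS.exists_four_avoid ha
  haveI := hE.1.1
  have hcop : (Nat.card E).Coprime (Nat.card Y) := by
    obtain ⟨n, hn'⟩ := (IsPGroup.iff_card (p := 2)).1 hE.isPGroup
    rw [hn']; exact (Nat.coprime_two_left.2 ho).pow_left n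
  rw [← CoprimeAct.generated_by_centralizers hE.not_isCyclic (hES.trans hn) hcop]
  refine iSup₂_le fun v hv => fun y hy => ?_
  have hyo := SEBrick.odd_order ho hy.1
  have h2 := hsm v y (hS.comm (hES hv.1) ha) (mem_centralizer_singleton_iff.1 (hY hy.1)) (hS.sq v (hES hv.1)) hv.2
    (fun e => haE ha1 (e ▸ hv.1)) (mem_centralizer_singleton_iff.1 hy.2)
  have h3 := mem_core_of_odd (hS.sq a ha) (pow_two y ▸ h2) (hyo.of_dvd_nat (orderOf_pow_dvd 2))
  obtain ⟨k, hk⟩ := Invol.exists_sqrt hyo
  have h4 := pow_mem h3 k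
  rwa [← pow_mul, mul_comm, pow_mul, hk] at h4

/-- Balance on the Sylow subgroup gives an equivariant functor. -/
theorem Hyp8.equivariant
    (hbal : ∀ a ∈ (S : Subgroup G), ∀ b ∈ (S : Subgroup G), a ≠ 1 → b ≠ 1 →
      core (cen a) ⊓ centralizer ({b} : Set G) ≤ core (cen b)) :
    Equivariant 2 (fun t : G => core (cen t)) := by
  refine ⟨fun a _ => ⟨core_le_cen a, fun h => ?_, core_solvable a⟩, fun a g _ => core_conj g a,
    fun a b ha hb hab => ?_⟩
  · exact Nat.not_even_iff_odd.2 (core_card_odd a) (even_iff_two_dvd.2 h)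
  haveI : Fact (Nat.Prime 2) := ⟨Nat.prime_two⟩
  have hz : ∀ x : G, orderOf x = 2 → IsPGroup 2 (zpowers x) := fun x hx =>
    IsPGroup.of_card (n := 1) (by rw [Nat.card_zpowers, hx, pow_one])
  have hn : zpowers a ≤ normalizer ((zpowers b : Subgroup G) : Set G) := zpowers_le.2
    (SEBrick.mem_normalizer_of fun z hz' => by
      obtain ⟨i, rfl⟩ := mem_zpowers_iff.1 hz'
      rw [((show Commute a b from hab).zpow_right i).eq, mul_inv_cancel_right]
      exact zpow_mem (mem_zpowers b) i)
  obtain ⟨g, hg⟩ := hS.exists_conj ((hz a ha.1).to_sup_of_normal_right' (hz b hb.1) hn)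
  have hga := hg a (mem_sup_left (mem_zpowers a))
  have hgb := hg b (mem_sup_right (mem_zpowers b))
  have hne : ∀ x : G, orderOf x = 2 → g * x * g⁻¹ ≠ 1 := fun x hx e =>
    Invol.ne_one hx (conj_eq_one_iff.1 e)
  intro x hx
  obtain ⟨hx1, hx2⟩ := mem_inf.1 hx
  have h := hbal _ hga _ hgb (hne a ha.1) (hne b hb.1) (mem_inf.2 (show g * x * g⁻¹ ∈ _ ∧ g * x * g⁻¹ ∈ _ from
    ⟨by rw [core_conj]; exact ⟨x, hx1, rfl⟩, by
      rw [mem_centralizer_singleton_iff] at hx2 ⊢
      calc g * x * g⁻¹ * (g * b * g⁻¹) = g * (x * b) * g⁻¹ := by group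
        _ = g * (b * x) * g⁻¹ := by rw [hx2]
        _ = _ := by group⟩))
  rw [core_conj] at h
  obtain ⟨z, hz', he⟩ := h
  have he' : g * z * g⁻¹ = g * x * g⁻¹ := he
  rwa [← mul_left_cancel (mul_right_cancel he')]

/-- `Small` gives balance. -/
theorem Hyp8.balance_of_small (hsm : ∀ t : G, orderOf t = 2 → Small t) :
    ∀ a ∈ (S : Subgroup G), ∀ b ∈ (S : Subgroup G), a ≠ 1 → b ≠ 1 →
      core (cen a) ⊓ centralizer ({b} : Set G) ≤ core (cen b) := fun a ha b hb _ hb1 =>
  hS.le_core_of_small hb hb1 (hsm b (hS.order hb hb1)) inf_le_right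
    (SEBrick.odd_of_le (core_card_odd a) inf_le_left)
    ((le_inf ((hS.le_centralizer ha).trans (ClosedAbelian.core_normalized (cen a)))
      ((hS.le_centralizer hb).trans le_normalizer)).trans inf_normalizer_le_normalizer_inf)

end Cfsg.Agent.Walter8
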