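import Cfsg.Agent.Lib.ClosedAbelian.Basic
import Mathlib.LinearAlgebra.Matrix.SpecialLinearGroup
import Mathlib.FieldTheory.Finite.Basic

/-!
Abelian Sylow 2-subgroups of order 8 with a Frobenius group of order 21 of automorphisms: the
vocabulary for the signalizer argument and for the shape of the centralisers of the involutions.
-/

set_option autoImplicit false
set_option linter.style.haveILetI false
set_option linter.unusedSectionVars false

namespace Cfsg.Agent.Walter8

open Subgroup
open Cfsg.Agent.ClosedAbelian (core)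

universe u

variable {G : Type u} [Group G]

/-- The centraliser of an element. -/
abbrev cen (a : G) : Subgroup G := centralizer ({a} : Set G)

/-- An elementary abelian Sylow 2-subgroup of order 8 whose normaliser is transitive on its involutions,
every involution being fixed by an element which moves the subgroup. -/
structure Eight (S : Subgroup G) : Prop where
  card : Nat.card S = 8
  sq : ∀ x ∈ S, x * x = 1
  sixteen : ¬ 16 ∣ Nat.card G
  trans : ∀ a ∈ S, a ≠ 1 → ∀ b ∈ S, b ≠ 1 → ∃ g ∈ normalizer (S : Set G), g * a * g⁻¹ = b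
  moves : ∀ a ∈ S, a ≠ 1 → ∃ y ∈ normalizer (S : Set G),
    y * a = a * y ∧ y ∉ centralizer (S : Set G)

/-- Inverted by an element of `S`. -/
def InvBy (S : Subgroup G) (x : G) : Prop := ∃ u ∈ S, u * x * u⁻¹ = x⁻¹

/-- An odd `S`-invariant subgroup of `C(a)` has inverted elements outside `O(C(a))` on at most one line
of `S` through `a`. -/
def OneLine (S : Subgroup G) : Prop :=
  ∀ a ∈ S, a ≠ 1 → ∀ b ∈ S, b ≠ 1 → b ≠ a → ∀ c ∈ S, c ≠ 1 → c ≠ a → c ≠ b → c ≠ a * b →
    ∀ R : Subgroup G, R ≤ cen a → ¬ 2 ∣ Nat.card R → S ≤ normalizer (R : Set G) →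
      ∀ x ∈ R, ∀ y ∈ R, x * b = b * x → y * c = c * y → InvBy S x → InvBy S y →
        x ∈ core (cen a) ∨ y ∈ core (cen a)

/-- A subgroup of `C(a)` containing `S` and an inverted `r`-element of the line `⟨a, b⟩` outside
`O(C(a))` has a Sylow `r`-subgroup centralising `b` modulo `O(C(a))`. -/
def TorusSylow (S : Subgroup G) : Prop :=
  ∀ a ∈ S, a ≠ 1 → ∀ b ∈ S, b ≠ 1 → b ≠ a → ∀ K : Subgroup G, K ≤ cen a → S ≤ K →
    ∀ r : ℕ, r.Prime → ∀ z ∈ K, (∃ k, orderOf z = r ^ k) → z * b = b * z → InvBy S z →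
      z ∉ core (cen a) →
        ∃ Q : Subgroup G, Q ≤ K ∧ IsPGroup r Q ∧ ¬ r ∣ Q.relIndex K ∧
          Q ≤ core (cen a) ⊔ (cen a ⊓ cen b)

/-- Balance on the inverted elements. -/
def Balanced (S : Subgroup G) : Prop :=
  ∀ a ∈ S, a ≠ 1 → ∀ b ∈ S, b ≠ 1 → ∀ x ∈ core (cen a), x * b = b * x → InvBy S x →
    x ∈ core (cen b)

/-- The shape of the centralisers of the involutions: modulo its odd core, `C(a)` has a normal
`PSL₂(q)`, `q > 3` odd, whose centraliser is the image of `⟨a⟩`. -/
def LType (S : Subgroup G) : Prop :=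
  ∀ a ∈ S, a ≠ 1 → ∃ (L : Subgroup G) (F : Type) (_ : Field F) (_ : Fintype F)
    (φ : L →* Matrix.ProjectiveSpecialLinearGroup (Fin 2) F),
    Odd (Fintype.card F) ∧ 3 < Fintype.card F ∧ L ≤ cen a ∧ cen a ≤ normalizer (L : Set G) ∧
      Function.Surjective φ ∧ core (cen a) ≤ L ∧ φ.ker = (core (cen a)).subgroupOf L ∧
      ∀ g ∈ cen a, (∀ l ∈ L, g * l * g⁻¹ * l⁻¹ ∈ core (cen a)) → g ∈ core (cen a) ⊔ zpowers a

/-- The signalizer theorem: one line and the torus Sylow property give balance. -/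
def ThetaStmt : Prop :=
  ∀ (G : Type u) [Group G] [Finite G] (S : Subgroup G),
    Eight S → OneLine S → TorusSylow S → Balanced S

end Cfsg.Agent.Walter8
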