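import Cfsg.Agent.Lib.Walter8.Setup
import Cfsg.Agent.Lib.SEMain.Main
import Cfsg.Agent.Lib.SolvCores.Main

/-!
# The closure of the cores and strong embedding

If the normaliser of the closure holds the centralisers of the involutions of the Sylow subgroup, it is
strongly embedded, which contradicts the main statement on strongly embedded subgroups.
-/

set_option autoImplicit false
set_option linter.style.haveILetI false
set_option linter.unusedSectionVars false

namespace Cfsg.Agent.Walter8

open Subgroup Cfsg.Agent.Signalizer Cfsg.Agent.Signalizer.SFT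
open Cfsg.Agent.ClosedAbelian (core)

universe u

variable {G : Type u} [Group G] [Finite G] {S : Sylow 2 G}

/-- The closure over the Sylow subgroup. -/
abbrev closureCore (S : Sylow 2 G) : Subgroup G := thetaClosure (fun t : G => core (cen t)) (S : Subgroup G)

theorem core_le_closure {a : G} (ha : a ∈ (S : Subgroup G)) (ha1 : a ≠ 1) : core (cen a) ≤ closureCore S :=
  le_iSup (fun b : {b : G // b ∈ (S : Subgroup G) ∧ b ≠ 1} => core (cen b.1)) ⟨a, ha, ha1⟩

variable (hS : Hyp8 S) (Θ : Equivariant 2 (fun t : G => core (cen t)))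
include hS Θ

theorem closure_family :
    closureCore S ∈ Cfsg.signalizerFamily 2 (S : Subgroup G) (fun t : G => core (cen t)) :=
  haveI : Fact (Nat.Prime 2) := ⟨Nat.prime_two⟩
  (iSup_props hS.ea hS.card.ge (Θ.functor hS.ea hS.card.ge)).1

theorem closure_odd : Odd (Nat.card (closureCore S)) := by
  rw [← Nat.not_even_iff_odd, even_iff_two_dvd]
  exact (closure_family hS Θ).2.1

theorem closure_inf {a : G} (ha : a ∈ (S : Subgroup G)) (ha1 : a ≠ 1) :
    closureCore S ⊓ centralizer ({a} : Set G) ≤ core (cen a) :=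
  (closure_family hS Θ).2.2.2 a ha ha1

theorem normalizer_four_le {E : Subgroup G} (hE : SEBrick.IsFour E) (hES : E ≤ (S : Subgroup G)) :
    normalizer (E : Set G) ≤ normalizer (closureCore S : Set G) := by
  haveI : Fact (Nat.Prime 2) := ⟨Nat.prime_two⟩
  intro g hg
  rw [mem_normalizer_iff_map_conj_eq]
  have hgE : E.map (MulAut.conj g).toMonoidHom = E := (mem_normalizer_iff_map_conj_eq).1 hg
  set S' := (S : Subgroup G).map (MulAut.conj g).toMonoidHom with hS'
  have hS'ea : Cfsg.IsElementaryAbelian 2 S' := SolvCores.ea_map _ hS.ea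
  have hS'8 : 2 ^ 3 ≤ Nat.card S' := by
    rw [hS', card_map_of_injective (MulAut.conj g).injective, hS.card]; norm_num
  have h1 := Θ.closure_conj hS.ea (hS.card.ge : 2 ^ 3 ≤ _) g
  refine h1.symm.trans ((Θ.closure_eq hE.2 ?_ hS'ea hS'8).trans
    (Θ.closure_eq hE.2 hES hS.ea (hS.card.ge : 2 ^ 3 ≤ _)).symm)
  intro x hx
  rw [← hgE] at hx
  exact map_mono hES hx

theorem normalizer_sylow_le :
    normalizer ((S : Subgroup G) : Set G) ≤ normalizer (closureCore S : Set G) :=
  normalizer_four_le hS Θ ⟨hS.ea, hS.card ▸ (by norm_num : 4 ≤ 8)⟩ le_rfl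

theorem sylow_le_normalizer_closure : (S : Subgroup G) ≤ normalizer (closureCore S : Set G) :=
  le_normalizer.trans (normalizer_sylow_le hS Θ)

theorem normalizer_closure_ne_top (hne : closureCore S ≠ ⊥) : normalizer (closureCore S : Set G) ≠ ⊤ :=
  fun e => hne (le_bot_iff.1 ((SEBrick.le_oddCore (normalizer_eq_top_iff.1 e) (closure_odd hS Θ)).trans
    hS.oddCore.le))

omit Θ in
/-- A proper subgroup holding `N(S)` and the centralisers of the involutions of `S` does not exist. -/
theorem false_of_centralizer_le (h : SEMain.Stmt.{u}) {M : Subgroup G} (hM : M ≠ ⊤)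
    (hN : normalizer ((S : Subgroup G) : Set G) ≤ M)
    (hC : ∀ a ∈ (S : Subgroup G), a ≠ 1 → centralizer ({a} : Set G) ≤ M) : False := by
  haveI : Fact (Nat.Prime 2) := ⟨Nat.prime_two⟩
  have hSM : (S : Subgroup G) ≤ M := le_normalizer.trans hN
  obtain ⟨s, hs, hs1⟩ := hS.exists_ne
  have hso := hS.order hs hs1
  have hse : Cfsg.IsStronglyEmbedded M := by
    refine Invol.se_of_centralizers hM (S.subtype hSM) (Invol.even_of_invol_mem hso (hSM hs)) ?_ ?_
    · rwa [Sylow.coe_subtype, subgroupOf_map_subtype, inf_eq_left.2 hSM]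
    · intro t htM ht
      obtain ⟨g, hgM, hg⟩ := SolvCores.exists_conj_le hSM (IsPGroup.of_card (n := 1) (p := 2)
        (by rw [Nat.card_zpowers, ht, pow_one] : Nat.card (zpowers t) = 2 ^ 1)) (zpowers_le.2 htM)
      have hgt : g * t * g⁻¹ ∈ (S : Subgroup G) := hg ⟨t, mem_zpowers t, rfl⟩
      intro x hx
      have hx' : g * x * g⁻¹ ∈ M := hC _ hgt (fun e => Invol.ne_one ht (conj_eq_one_iff.1 e))
        (mem_centralizer_singleton_iff.2 (by
          have hxt := mem_centralizer_singleton_iff.1 hx
          calc g * x * g⁻¹ * (g * t * g⁻¹) = g * (x * t) * g⁻¹ := by group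
            _ = g * (t * x) * g⁻¹ := by rw [hxt]
            _ = _ := by group))
      have := mul_mem (mul_mem (inv_mem hgM) hx') hgM
      rwa [show g⁻¹ * (g * x * g⁻¹) * g = x by group] at this
  have hcore : M.normalCore = ⊥ := by
    rw [eq_bot_iff, ← hS.oddCore]
    exact SEBrick.le_oddCore M.normalCore_normal (SEBender.odd_normalCore hse)
  obtain ⟨E, hES, hE, -⟩ := hS.exists_four_avoid (one_mem _)
  obtain ⟨Q, hQ⟩ := SEMain.exists_reg h hse hcore
    (SEMain.HasPair.of_four ⟨E, hES.trans hSM, hE⟩)
  haveI := hQ.isSolvable hse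
  exact hS.nonsolv_at hso (Group.isSolvable_of_isSolvable_injective
    (f := inclusion (hC s hs hs1)) (inclusion_injective _))

end Cfsg.Agent.Walter8
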