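import Cfsg.Agent.Lib.Walter8.Climb

/-!
Transfer of the hypotheses of the signalizer theorem to subgroups and to quotients by odd normal
subgroups.
-/

set_option autoImplicit false
set_option linter.style.haveILetI false
set_option linter.unusedSectionVars false

namespace Cfsg.Agent.Walter8

open Subgroup
open Cfsg.Agent.ClosedAbelian (core core_le core_odd core_normalized le_core mem_of_sq_mem)

universe u

variable {G : Type u} [Group G] [Finite G] {S : Subgroup G}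

/-! ### Subgroups -/

section Sub

variable {H : Subgroup G} (hSH : S ≤ H)

theorem mem_cen_sub {a x : H} : x ∈ cen a ↔ (x : G) ∈ cen (a : G) := by
  rw [mem_centralizer_singleton_iff, mem_centralizer_singleton_iff]
  exact ⟨fun h => congrArg Subtype.val h, fun h => Subtype.ext h⟩

theorem mem_core_sub {a x : H} (h : (x : G) ∈ core (cen (a : G))) : x ∈ core (cen a) := by
  set N := (core (cen (a : G))).comap H.subtype with hN
  refine le_core (N := N) (fun v hv => mem_cen_sub.2 (core_le _ hv)) ?_ ?_ h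
  · intro v hv
    refine mem_normalizer_iff.2 fun w => ?_
    exact (mem_normalizer_iff.1 (core_normalized _ (mem_cen_sub.1 hv)) (w : G) :)
  · intro hd
    refine core_odd (cen (a : G)) (hd.trans ?_)
    rw [← card_map_of_injective (f := H.subtype) H.subtype_injective]
    exact card_dvd_of_le (map_comap_le _ _)

theorem invBy_sub {x : H} (h : InvBy (S.subgroupOf H) x) : InvBy S (x : G) := by
  obtain ⟨u, hu, e⟩ := h
  exact ⟨u, hu, congrArg Subtype.val e⟩

theorem coe_comm {x y : H} (h : x * y = y * x) : (x : G) * y = y * x := congrArg Subtype.val h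

theorem mem_normalizer_sub {g : H} (hg : (g : G) ∈ normalizer (S : Set G)) :
    g ∈ normalizer (S.subgroupOf H : Set H) :=
  mem_normalizer_iff.2 fun w => mem_normalizer_iff.1 hg (w : G)

include hSH

theorem normalizer_sub_le {R : Subgroup H} (hR : S.subgroupOf H ≤ normalizer (R : Set H)) :
    S ≤ normalizer ((R.map H.subtype : Subgroup G) : Set G) := fun s hs =>
  le_normalizer_map H.subtype ⟨⟨s, hSH hs⟩, hR hs, rfl⟩

theorem Eight.sub (hE : Eight S)
    (htr : ∀ p ∈ S, p ≠ 1 → ∀ q ∈ S, q ≠ 1 →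
      ∃ g ∈ H, g ∈ normalizer (S : Set G) ∧ g * p * g⁻¹ = q)
    (hmv : ∀ p ∈ S, p ≠ 1 → ∃ y ∈ H, y ∈ normalizer (S : Set G) ∧ y * p = p * y ∧
      y ∉ centralizer (S : Set G)) : Eight (S.subgroupOf H) where
  card := by rw [Nat.card_congr (subgroupOfEquivOfLe hSH).toEquiv, hE.card]
  sq x hx := Subtype.ext (hE.sq x hx)
  sixteen h := hE.sixteen (h.trans (card_subgroup_dvd_card H))
  trans a ha ha1 b hb hb1 := by
    obtain ⟨g, hgH, hg, e⟩ := htr a ha (fun h => ha1 (Subtype.ext h)) b hb (fun h => hb1 (Subtype.ext h))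
    exact ⟨⟨g, hgH⟩, mem_normalizer_sub hg, Subtype.ext e⟩
  moves a ha ha1 := by
    obtain ⟨y, hyH, hy, hya, hyC⟩ := hmv a ha (fun h => ha1 (Subtype.ext h))
    refine ⟨⟨y, hyH⟩, mem_normalizer_sub hy, Subtype.ext hya, fun h => hyC ?_⟩
    exact mem_centralizer_iff.2 fun s hs =>
      congrArg Subtype.val (mem_centralizer_iff.1 h ⟨s, hSH hs⟩ hs)

theorem OneLine.sub (hO : OneLine S) : OneLine (S.subgroupOf H) := by
  intro a ha ha1 b hb hb1 hba c hc hc1 hca hcb hcab R hR hRodd hSR x hx y hy hxb hyc hxi hyi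
  rcases hO a ha (fun h => ha1 (Subtype.ext h)) b hb (fun h => hb1 (Subtype.ext h))
    (fun h => hba (Subtype.ext h)) c hc (fun h => hc1 (Subtype.ext h)) (fun h => hca (Subtype.ext h))
    (fun h => hcb (Subtype.ext h)) (fun h => hcab (Subtype.ext h)) (R.map H.subtype)
    (by rintro _ ⟨v, hv, rfl⟩; exact mem_cen_sub.1 (hR hv))
    (by rwa [card_map_of_injective H.subtype_injective]) (normalizer_sub_le hSH hSR)
    x ⟨x, hx, rfl⟩ y ⟨y, hy, rfl⟩ (coe_comm hxb) (coe_comm hyc) (invBy_sub hxi) (invBy_sub hyi) with h | h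
  · exact Or.inl (mem_core_sub h)
  · exact Or.inr (mem_core_sub h)

theorem TorusSylow.sub (hE : Eight S) (hT : TorusSylow S) : TorusSylow (S.subgroupOf H) := by
  intro a ha ha1 b hb hb1 hba K hK hSK r hr z hz hzr hzb hzi hzc
  haveI := Fact.mk hr
  set K' := K.map H.subtype with hK'
  have hSK' : S ≤ K' := fun s hs => ⟨⟨s, hSH hs⟩, hSK hs, rfl⟩
  have ha1' : (a : G) ≠ 1 := fun h => ha1 (Subtype.ext h)
  have hb1' : (b : G) ≠ 1 := fun h => hb1 (Subtype.ext h)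
  have hba' : (b : G) ≠ a := fun h => hba (Subtype.ext h)
  by_cases hr2 : r = 2
  · subst hr2
    refine ⟨S.subgroupOf H, hSK, hE.isTwo.comap_subtype, ?_, le_sup_of_le_right fun v hv =>
      ⟨mem_cen_sub.2 (hE.le_cenS ha hv), mem_cen_sub.2 (hE.le_cenS hb hv)⟩⟩
    rw [show (S.subgroupOf H).relIndex K = S.relIndex K' by
      rw [hK', ← relIndex_map_map_of_injective (S.subgroupOf H) K H.subtype_injective,
        map_subgroupOf_eq_of_le hSH]]
    exact hE.relIndex_odd hSK'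
  obtain ⟨Q, hQK, hQp, hQidx, hQle⟩ := hT a ha ha1' b hb hb1' hba' K'
    (by rintro _ ⟨v, hv, rfl⟩; exact mem_cen_sub.1 (hK hv)) hSK' r hr z ⟨z, hz, rfl⟩
    (by simpa using hzr) (coe_comm hzb) (invBy_sub hzi) (fun h => hzc (mem_core_sub h))
  have hQH : Q ≤ H := hQK.trans (map_subtype_le _)
  refine ⟨Q.subgroupOf H, fun v hv => ?_, hQp.comap_subtype, ?_, ?_⟩
  · obtain ⟨w, hw, e⟩ := hQK hv
    exact (Subtype.ext e : w = v) ▸ hw
  · have e : (Q.subgroupOf H).relIndex K = Q.relIndex K' := by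
      rw [hK', ← relIndex_map_map_of_injective (Q.subgroupOf H) K H.subtype_injective,
        map_subgroupOf_eq_of_le hQH]
    rwa [e]
  · have hparts := hE.parts_le hSH hQH (odd_pgroup hr2 hQp) ha ha1' hb hb1' hba' hQle
    refine (comap_mono hparts).trans ?_
    rw [← subgroupOf, subgroupOf_sup inf_le_right inf_le_right]
    refine sup_le (le_sup_of_le_left fun v hv => mem_core_sub hv.1) (le_sup_of_le_right fun v hv => ?_)
    exact ⟨mem_cen_sub.2 ((core_le _) hv.1).1, mem_cen_sub.2 ((core_le _) hv.1).2⟩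

end Sub

/-! ### Quotients by odd normal subgroups -/

section Quot

variable {O : Subgroup G} [O.Normal] (hO : ¬ 2 ∣ Nat.card O) (hE : Eight S)

theorem eq_of_sq_eq {x y : G} (hx : Odd (orderOf x)) (hy : Odd (orderOf y)) (h : x * x = y * y) :
    x = y := by
  obtain ⟨n, hn⟩ := hx.mul hy
  have e : ∀ {v : G}, orderOf v ∣ orderOf x * orderOf y → v = (v * v) ^ (n + 1) := fun {v} hv => by
    rw [← pow_two, ← pow_mul, show 2 * (n + 1) = orderOf x * orderOf y + 1 by omega, pow_succ,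
      orderOf_dvd_iff_pow_eq_one.1 hv, one_mul]
  rw [e (Dvd.intro _ rfl : orderOf x ∣ _), e (Dvd.intro_left _ rfl : orderOf y ∣ _), h]

include hE in
theorem exists_lift_S {v : G ⧸ O} (hv : v ∈ S.map (QuotientGroup.mk' O)) :
    ∃ s ∈ S, (s : G ⧸ O) = v := by
  obtain ⟨s, hs, rfl⟩ := hv
  exact ⟨s, hs, rfl⟩

include hO hE in
theorem mk_ne_one {s : G} (hs : s ∈ S) (hs1 : s ≠ 1) : (s : G ⧸ O) ≠ 1 := fun h => hs1
  (eq_one_of_sq (odd_of_mem hO ((QuotientGroup.eq_one_iff s).1 h)) (hE.sq s hs))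

include hO hE in
theorem mk_inj {s s' : G} (hs : s ∈ S) (hs' : s' ∈ S) (h : (s : G ⧸ O) = (s' : G ⧸ O)) : s = s' :=
  inv_mul_eq_one.1 (by
    by_contra h1
    refine mk_ne_one hO hE (mul_mem (inv_mem hs) hs') h1 ?_
    rw [QuotientGroup.mk_mul, QuotientGroup.mk_inv, h, inv_mul_cancel])

include hO hE in
theorem exists_cen_lift {a : G} (ha : a ∈ S) (ha1 : a ≠ 1) {v : G ⧸ O} (hv : v ∈ cen (a : G ⧸ O)) :
    ∃ g ∈ cen a, (g : G ⧸ O) = v := by
  obtain ⟨g, rfl⟩ := QuotientGroup.mk_surjective v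
  haveI : Fact (Nat.Prime 2) := ⟨Nat.prime_two⟩
  have hao : orderOf a = 2 := orderOf_eq_prime (by rw [pow_two]; exact hE.sq a ha) ha1
  have h1 : g * a * g⁻¹ * a⁻¹ ∈ O := by
    rw [← QuotientGroup.eq_one_iff]
    have h2 := mem_centralizer_singleton_iff.1 hv
    rw [QuotientGroup.mk_mul, QuotientGroup.mk_mul, QuotientGroup.mk_mul, h2, QuotientGroup.mk_inv,
      QuotientGroup.mk_inv]
    group
  obtain ⟨o, ho, hoa⟩ := DGroup.conj_in_odd (X := O)
    (by rw [← Nat.not_even_iff_odd, even_iff_two_dvd]; exact hO) hao ((orderOf_cj g a).trans hao) h1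
  refine ⟨o⁻¹ * g, mem_centralizer_singleton_iff.2 (comm_iff_conj.2 ?_), ?_⟩
  · rw [← conj_conj, ← hoa]; group
  · rw [QuotientGroup.mk_mul, (QuotientGroup.eq_one_iff o⁻¹).2 (inv_mem ho), one_mul]

theorem mk_mem_cen {a g : G} (h : g ∈ cen a) : (g : G ⧸ O) ∈ cen (a : G ⧸ O) := by
  rw [mem_centralizer_singleton_iff] at h ⊢
  rw [← QuotientGroup.mk_mul, ← QuotientGroup.mk_mul, h]

include hO in
theorem odd_comap {M : Subgroup (G ⧸ O)} (hM : ¬ 2 ∣ Nat.card M) :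
    ¬ 2 ∣ Nat.card (M.comap (QuotientGroup.mk' O)) := by
  have hle : O ≤ M.comap (QuotientGroup.mk' O) := fun v hv => by
    rw [mem_comap, QuotientGroup.mk'_apply, (QuotientGroup.eq_one_iff v).2 hv]
    exact one_mem M
  rw [← PBasic.card_mul_relIndex hle]
  have e := relIndex_ker (K := M.comap (QuotientGroup.mk' O)) (QuotientGroup.mk' O)
  rw [QuotientGroup.ker_mk', map_comap_eq_self_of_surjective (QuotientGroup.mk'_surjective O)] at e
  rw [e]
  exact fun hd => (Nat.prime_two.dvd_mul.1 hd).elim hO hM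

include hO hE in
theorem mk_mem_core_iff {a x : G} (ha : a ∈ S) (ha1 : a ≠ 1) (hx : x ∈ cen a) :
    (x : G ⧸ O) ∈ core (cen (a : G ⧸ O)) ↔ x ∈ core (cen a) := by
  refine ⟨fun h => ?_, fun h => ?_⟩
  · refine le_core (N := (core (cen (a : G ⧸ O))).comap (QuotientGroup.mk' O) ⊓ cen a) inf_le_right ?_ ?_
      ⟨h, hx⟩
    · exact Signalizer.le_normalizer_inf (fun v hv => mem_normalizer_iff.2 fun w => by
        rw [mem_comap, mem_comap, map_mul, map_mul, map_inv]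
        exact mem_normalizer_iff.1 (core_normalized _ (mk_mem_cen hv)) _) le_normalizer
    · exact fun hd => odd_comap hO (core_odd _) (hd.trans (card_dvd_of_le inf_le_left))
  · refine le_core (N := (core (cen a)).map (QuotientGroup.mk' O)) ?_ ?_ ?_ ⟨x, h, rfl⟩
    · rintro _ ⟨v, hv, rfl⟩; exact mk_mem_cen (core_le _ hv)
    · intro v hv
      obtain ⟨g, hg, rfl⟩ := exists_cen_lift hO hE ha ha1 hv
      exact le_normalizer_map (QuotientGroup.mk' O) ⟨g, core_normalized _ hg, rfl⟩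
    · exact fun hd => core_odd (cen a) (hd.trans (Subgroup.card_map_dvd _ _))

include hO hE in
theorem Eight.quot : Eight (S.map (QuotientGroup.mk' O)) where
  card := by
    rw [← hE.card]
    rw [← SetLike.coe_sort_coe, ← SetLike.coe_sort_coe, coe_map]
    exact Nat.card_image_of_injOn (fun s hs s' hs' h => mk_inj hO hE hs hs' h)
  sq v hv := by
    obtain ⟨s, hs, rfl⟩ := exists_lift_S hE hv
    rw [← QuotientGroup.mk_mul, hE.sq s hs, QuotientGroup.mk_one]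
  sixteen h := hE.sixteen (h.trans (card_quotient_dvd_card O))
  trans v hv hv1 w hw hw1 := by
    obtain ⟨p, hp, rfl⟩ := exists_lift_S hE hv
    obtain ⟨q, hq, rfl⟩ := exists_lift_S hE hw
    obtain ⟨g, hg, e⟩ := hE.trans p hp (fun h => hv1 (by rw [h]; rfl)) q hq (fun h => hw1 (by rw [h]; rfl))
    exact ⟨g, le_normalizer_map (QuotientGroup.mk' O) ⟨g, hg, rfl⟩, by rw [← e]; rfl⟩
  moves v hv hv1 := by
    obtain ⟨p, hp, rfl⟩ := exists_lift_S hE hv
    obtain ⟨y, hy, hya, hyC⟩ := hE.moves p hp (fun h => hv1 (by rw [h]; rfl))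
    refine ⟨y, le_normalizer_map (QuotientGroup.mk' O) ⟨y, hy, rfl⟩,
      by rw [← QuotientGroup.mk_mul, hya]; rfl, fun h => hyC (mem_centralizer_iff.2 fun s hs => ?_)⟩
    refine (comm_iff_conj.2 (mk_inj hO hE (conj_mem hy hs) hs ?_)).symm
    have := mem_centralizer_iff.1 h (s : G ⧸ O) ⟨s, hs, rfl⟩
    rw [QuotientGroup.mk_mul, QuotientGroup.mk_mul, ← this, QuotientGroup.mk_inv, mul_inv_cancel_right]

include hO hE in
/-- An inverted element of the quotient lifts. -/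
theorem exists_lift {a b u : G} (ha : a ∈ S) (ha1 : a ≠ 1) (hb : b ∈ S) (hu : u ∈ S)
    {R : Subgroup (G ⧸ O)} (hR : ¬ 2 ∣ Nat.card R) (hSR : S.map (QuotientGroup.mk' O) ≤ normalizer (R : Set (G ⧸ O)))
    {v : G ⧸ O} (hv : v ∈ R) (hva : v * a = a * v) (hvb : v * b = b * v) (hvu : u * v * (u : G ⧸ O)⁻¹ = v⁻¹) :
    ∃ x : G, (x : G ⧸ O) = v ∧ x ∈ R.comap (QuotientGroup.mk' O) ∧ x * a = a * x ∧ x * b = b * x ∧
      u * x * u⁻¹ = x⁻¹ := by
  obtain ⟨g, hg, rfl⟩ := exists_cen_lift hO hE ha ha1 (mem_centralizer_singleton_iff.2 hva)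
  set W := R.comap (QuotientGroup.mk' O) ⊓ cen a with hW
  have hWodd : ¬ 2 ∣ Nat.card W := fun hd => odd_comap hO hR (hd.trans (card_dvd_of_le inf_le_left))
  have hSW : S ≤ normalizer (W : Set G) := Signalizer.le_normalizer_inf (fun s hs =>
    mem_normalizer_iff.2 fun w => by
      rw [mem_comap, mem_comap, map_mul, map_mul, map_inv]
      exact mem_normalizer_iff.1 (hSR ⟨s, hs, rfl⟩) _) ((hE.le_cenS ha).trans le_normalizer)
  have oddimg : ∀ {w : G}, w ∈ W → Odd (orderOf (w : G ⧸ O)) := fun hw =>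
    Odd.of_dvd_nat (odd_of_mem hWodd hw) (orderOf_map_dvd (QuotientGroup.mk' O) _)
  obtain ⟨c0, hc0, i, hi, hgc, hbc, hbi, -⟩ := exists_inv_part hWodd (hE.sq b hb) (hSW hb) ⟨hv, hg⟩
  have hvi : (i : G ⧸ O) = 1 := by
    refine eq_one_of_inv (u := (b : G ⧸ O)) (oddimg hi) ?_ (by
      rw [← QuotientGroup.mk_inv, ← QuotientGroup.mk_mul, ← QuotientGroup.mk_mul, hbi, QuotientGroup.mk_inv])
    have e1 : (b : G ⧸ O) * g * (b : G ⧸ O)⁻¹ = g := comm_iff_conj.1 hvb.symm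
    rw [hgc, QuotientGroup.mk_mul, conj_mul',
      comm_iff_conj.1 (show (b : G ⧸ O) * c0 = c0 * b by rw [← QuotientGroup.mk_mul, hbc]; rfl)] at e1
    exact mul_left_cancel e1
  have hc0v : (c0 : G ⧸ O) = g := by rw [hgc, QuotientGroup.mk_mul, hvi, mul_one]
  obtain ⟨c, hc, j, hj, hcj, huc, huj, hcomm⟩ := exists_inv_part hWodd (hE.sq u hu) (hSW hu) hc0
  have hjv : (j : G ⧸ O) = g := by
    refine eq_of_sq_eq (oddimg hj) (oddimg ⟨hv, hg⟩) ?_
    have e2 := hvu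
    have f : (u : G ⧸ O) * j * (u : G ⧸ O)⁻¹ = (j : G ⧸ O)⁻¹ := by
      rw [← QuotientGroup.mk_inv, ← QuotientGroup.mk_mul, ← QuotientGroup.mk_mul, huj, QuotientGroup.mk_inv]
    rw [← hc0v, hcj, QuotientGroup.mk_mul, conj_mul',
      comm_iff_conj.1 (show (u : G ⧸ O) * c = c * u by rw [← QuotientGroup.mk_mul, huc]; rfl),
      f, mul_inv_rev] at e2
    rw [← hc0v, hcj, QuotientGroup.mk_mul]
    calc (j : G ⧸ O) * j = ((c : G ⧸ O) * (j : G ⧸ O)⁻¹)⁻¹ * c * j := by group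
      _ = ((j : G ⧸ O)⁻¹ * (c : G ⧸ O)⁻¹)⁻¹ * c * j := by rw [e2]
      _ = _ := by group
  refine ⟨j, hjv, hj.1, mem_centralizer_singleton_iff.1 hj.2, (hcomm b (hE.scomm hb hu) hbc).2.symm, huj⟩

include hO hE in
theorem OneLine.quot (hOL : OneLine S) : OneLine (S.map (QuotientGroup.mk' O)) := by
  intro a' ha' ha1' b' hb' hb1' hba' c' hc' hc1' hca' hcb' hcab' R hR hRodd hSR x' hx y' hy hxb hyc hxi hyi
  obtain ⟨a, ha, rfl⟩ := exists_lift_S hE ha'
  obtain ⟨b, hb, rfl⟩ := exists_lift_S hE hb'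
  obtain ⟨c, hc, rfl⟩ := exists_lift_S hE hc'
  obtain ⟨u', hu', exu⟩ := hxi
  obtain ⟨w', hw', eyw⟩ := hyi
  obtain ⟨u, hu, rfl⟩ := exists_lift_S hE hu'
  obtain ⟨w, hw, rfl⟩ := exists_lift_S hE hw'
  have ha1 : a ≠ 1 := fun h => ha1' (by rw [h]; rfl)
  obtain ⟨x, rfl, hxR, hxa, hxb0, hxu⟩ := exists_lift hO hE ha ha1 hb hu hRodd hSR hx
    (mem_centralizer_singleton_iff.1 (hR hx)) hxb exu
  obtain ⟨y, rfl, hyR, hya, hyc0, hyw⟩ := exists_lift hO hE ha ha1 hc hw hRodd hSR hy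
    (mem_centralizer_singleton_iff.1 (hR hy)) hyc eyw
  set W := R.comap (QuotientGroup.mk' O) ⊓ cen a with hW
  rcases hOL a ha ha1 b hb (fun h => hb1' (by rw [h]; rfl)) (fun h => hba' (by rw [h])) c hc
    (fun h => hc1' (by rw [h]; rfl)) (fun h => hca' (by rw [h])) (fun h => hcb' (by rw [h]))
    (fun h => hcab' (by rw [h]; rfl)) W inf_le_right
    (fun hd => odd_comap hO hRodd (hd.trans (card_dvd_of_le inf_le_left)))
    (Signalizer.le_normalizer_inf (fun s hs => mem_normalizer_iff.2 fun z => by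
      rw [mem_comap, mem_comap, map_mul, map_mul, map_inv]
      exact mem_normalizer_iff.1 (hSR ⟨s, hs, rfl⟩) _) ((hE.le_cenS ha).trans le_normalizer))
    x ⟨hxR, mem_centralizer_singleton_iff.2 hxa⟩ y ⟨hyR, mem_centralizer_singleton_iff.2 hya⟩
    hxb0 hyc0 ⟨u, hu, hxu⟩ ⟨w, hw, hyw⟩ with h | h
  · exact Or.inl ((mk_mem_core_iff hO hE ha ha1 (mem_centralizer_singleton_iff.2 hxa)).2 h)
  · exact Or.inr ((mk_mem_core_iff hO hE ha ha1 (mem_centralizer_singleton_iff.2 hya)).2 h)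

include hO hE in
theorem TorusSylow.quot (hT : TorusSylow S) : TorusSylow (S.map (QuotientGroup.mk' O)) := by
  intro a' ha' ha1' b' hb' hb1' hba' K hK hSK r hr z' hz hzr hzb hzi hzc
  haveI := Fact.mk hr
  obtain ⟨a, ha, rfl⟩ := exists_lift_S hE ha'
  obtain ⟨b, hb, rfl⟩ := exists_lift_S hE hb'
  have ha1 : a ≠ 1 := fun h => ha1' (by rw [h]; rfl)
  have hb1 : b ≠ 1 := fun h => hb1' (by rw [h]; rfl)
  set π := QuotientGroup.mk' O with hπ
  set K0 := K.comap π ⊓ cen a with hK0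
  have hSK0 : S ≤ K0 := fun s hs => ⟨hSK ⟨s, hs, rfl⟩, hE.le_cenS ha hs⟩
  have hK0map : K0.map π = K := by
    refine le_antisymm (fun v hv => ?_) fun v hv => ?_
    · obtain ⟨w, hw, rfl⟩ := hv; exact hw.1
    · obtain ⟨g, hg, rfl⟩ := exists_cen_lift hO hE ha ha1 (hK hv)
      exact ⟨g, ⟨hv, hg⟩, rfl⟩
  have hres : ∀ Q : Subgroup G, Q ≤ K0 → ¬ r ∣ Q.relIndex K0 → ¬ r ∣ (Q.map π).relIndex K := by
    intro Q hQ hidx hd
    refine hidx (hd.trans ?_)
    rw [← hK0map]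
    have e : (Q.subgroupOf K0).map (π.subgroupMap K0) = (Q.map π).subgroupOf (K0.map π) := by
      ext ⟨v, hv⟩
      constructor
      · rintro ⟨w, hw, e⟩
        exact ⟨w, hw, congrArg Subtype.val e⟩
      · rintro ⟨w, hw, e⟩
        exact ⟨⟨w, hQ hw⟩, hw, Subtype.ext e⟩
    rw [relIndex, relIndex, ← e]
    exact index_map_dvd _ (π.subgroupMap_surjective K0)
  by_cases hr2 : r = 2
  · subst hr2
    refine ⟨S.map π, fun v hv => hSK hv, hE.isTwo.map π, hres S hSK0 (hE.relIndex_odd hSK0),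
      le_sup_of_le_right ?_⟩
    rintro _ ⟨s, hs, rfl⟩
    exact ⟨mk_mem_cen (hE.le_cenS ha hs), mk_mem_cen (hE.le_cenS hb hs)⟩
  obtain ⟨k, hk⟩ := hzr
  obtain ⟨u', hu', ezu⟩ := hzi
  obtain ⟨u, hu, rfl⟩ := exists_lift_S hE hu'
  have hzodd : ¬ 2 ∣ Nat.card (zpowers z') := by
    rw [Nat.card_zpowers, hk]
    exact fun h => hr2 ((Nat.prime_dvd_prime_iff_eq Nat.prime_two hr).1 (Nat.prime_two.dvd_of_dvd_pow h)).symm
  have hSz : S.map π ≤ normalizer (zpowers z' : Set (G ⧸ O)) := by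
    rintro _ ⟨s, hs, rfl⟩
    have hab : b ≠ a := fun h => hba' (by rw [h])
    have hz1 : z' ≠ 1 := fun h => hzc (h ▸ one_mem _)
    have hza := mem_centralizer_singleton_iff.1 (hK hz)
    have ho : Odd (orderOf z') := by
      rw [← Nat.not_even_iff_odd, even_iff_two_dvd, ← Nat.card_zpowers]; exact hzodd
    have hmem : ∀ v : G ⧸ O, (π s * z' * (π s)⁻¹ = v) → v ∈ zpowers z' → π s ∈ normalizer (zpowers z' : Set (G ⧸ O)) := by
      intro v e hv
      rw [← LEBasic.map_conj_eq_iff_mem_normalizer]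
      refine eq_of_le_of_card_ge ?_ (LEBasic.card_map_conj _ _).ge
      rw [MonoidHom.map_zpowers, zpowers_le]
      show π s * z' * (π s)⁻¹ ∈ zpowers z'
      rwa [e]
    rcases (Eight.quot hO hE).dich ⟨a, ha, rfl⟩ ha1' ⟨b, hb, rfl⟩ hb1' hba' ho hz1 hza hzb
      ⟨π u, ⟨u, hu, rfl⟩, ezu⟩ (c := π s) ⟨s, hs, rfl⟩ with ⟨-, e⟩ | ⟨e, -⟩
    · exact hmem _ e (mem_zpowers _)
    · exact hmem _ e (inv_mem (mem_zpowers _))
  obtain ⟨z1, e1, -, hza1, hzb1, hzu1⟩ := exists_lift hO hE ha ha1 hb hu hzodd hSz (mem_zpowers z')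
    (mem_centralizer_singleton_iff.1 (hK hz)) hzb ezu
  obtain ⟨p, q, hpq, hp, hq, ⟨j, hj⟩, hq'⟩ := PBasic.exists_pPart_mul (p := r) z1
  have hqim : (q : G ⧸ O) = 1 := by
    have h1 : (q : G ⧸ O) ∈ zpowers z' := by
      obtain ⟨i, rfl⟩ := mem_zpowers_iff.1 hq
      exact ⟨i, by rw [← e1]; rfl⟩
    have h2 := orderOf_dvd_natCard (⟨_, h1⟩ : zpowers z')
    rw [orderOf_mk, Nat.card_zpowers, hk] at h2
    exact orderOf_eq_one_iff.1 (Nat.eq_one_of_dvd_coprimes (Nat.Coprime.pow_right k hq')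
      (orderOf_map_dvd π q) h2)
  have hpim : (p : G ⧸ O) = z' := by rw [← e1, ← hpq, QuotientGroup.mk_mul, hqim, mul_one]
  obtain ⟨i, hi⟩ := mem_zpowers_iff.1 hp
  have hpa : p * a = a * p := hi ▸ ((show Commute z1 a from hza1).zpow_left i).eq
  obtain ⟨Q, hQK, hQp, hQidx, hQle⟩ := hT a ha ha1 b hb hb1 (fun h => hba' (by rw [h])) K0 inf_le_right
    hSK0 r hr p ⟨(show (p : G ⧸ O) ∈ K from hpim ▸ hz), mem_centralizer_singleton_iff.2 hpa⟩ ⟨j, hj⟩
    (hi ▸ ((show Commute z1 b from hzb1).zpow_left i).eq)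
    ⟨u, hu, by rw [← hi, ← conj_zpow, hzu1, inv_zpow]⟩ (fun h => hzc (hpim ▸
      (mk_mem_core_iff hO hE ha ha1 (mem_centralizer_singleton_iff.2 hpa)).2 h))
  refine ⟨Q.map π, (map_mono hQK).trans hK0map.le, hQp.map π, hres Q hQK hQidx, ?_⟩
  refine (map_mono hQle).trans ?_
  rw [Subgroup.map_sup]
  refine sup_le (le_sup_of_le_left ?_) (le_sup_of_le_right ?_)
  · rintro _ ⟨v, hv, rfl⟩
    exact (mk_mem_core_iff hO hE ha ha1 (core_le _ hv)).2 hv
  · rintro _ ⟨v, hv, rfl⟩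
    exact ⟨mk_mem_cen hv.1, mk_mem_cen hv.2⟩

include hO hE in
theorem balanced_of_quot (h : Balanced (S.map (QuotientGroup.mk' O))) : Balanced S := by
  intro a ha ha1 b hb hb1 x hx hxb hxi
  have hxb' : x ∈ cen b := mem_centralizer_singleton_iff.2 hxb
  refine (mk_mem_core_iff hO hE hb hb1 hxb').1 ?_
  obtain ⟨u, hu, e⟩ := hxi
  refine h _ ⟨a, ha, rfl⟩ (mk_ne_one hO hE ha ha1) _ ⟨b, hb, rfl⟩ (mk_ne_one hO hE hb hb1) _
    ((mk_mem_core_iff hO hE ha ha1 (core_le _ hx)).2 hx) (show (x : G ⧸ O) * b = b * x by rw [← QuotientGroup.mk_mul, hxb]; rfl)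
    ⟨_, ⟨u, hu, rfl⟩, ?_⟩
  show (u : G ⧸ O) * x * (u : G ⧸ O)⁻¹ = _
  rw [← QuotientGroup.mk_inv, ← QuotientGroup.mk_mul, ← QuotientGroup.mk_mul, e, QuotientGroup.mk_inv]

end Quot

end Cfsg.Agent.Walter8
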