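import Cfsg.Agent.Lib.Walter8.Closure
import Cfsg.Agent.Lib.Components.PComponent
import Cfsg.Agent.Lib.JankoRee.Transfer
import Cfsg.Agent.Lib.BrauerSuzuki.ZStar
import Cfsg.Agent.Lib.SEMain.LocalTools

/-!
# Small centralisers have trivial cores

By induction on the order: the greatest odd subgroup normalised by the Sylow subgroup has, for each prime, a
Sylow subgroup whose normaliser covers `C(a)` modulo the core, so it is normalised by `C(a)`.
-/

set_option autoImplicit false
set_option linter.style.haveILetI false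
set_option linter.unusedSectionVars false

namespace Cfsg.Agent.Walter8

open Subgroup Cfsg.Agent.Signalizer Cfsg.Agent.Signalizer.SFT
open Cfsg.Agent.ClosedAbelian (core)
open scoped Pointwise

universe u

variable {G : Type u} [Group G] [Finite G] {S : Sylow 2 G}

section Closure

variable (hS : Hyp8 S) (hsm : ∀ t : G, orderOf t = 2 → Small t)
include hS hsm

theorem Hyp8.functor : Equivariant 2 (fun t : G => core (cen t)) :=
  hS.equivariant (hS.balance_of_small hsm)

/-- The closure is the greatest odd subgroup normalised by the Sylow subgroup. -/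
theorem le_closure {Y : Subgroup G} (ho : Odd (Nat.card Y))
    (hn : (S : Subgroup G) ≤ normalizer (Y : Set G)) : Y ≤ closureCore S := by
  obtain ⟨E, hES, hE, -⟩ := hS.exists_four_avoid (one_mem _)
  haveI := hE.1.1
  have hcop : (Nat.card E).Coprime (Nat.card Y) := by
    obtain ⟨n, hn'⟩ := (IsPGroup.iff_card (p := 2)).1 hE.isPGroup
    rw [hn']; exact (Nat.coprime_two_left.2 ho).pow_left n
  rw [← CoprimeAct.generated_by_centralizers hE.not_isCyclic (hES.trans hn) hcop]
  refine iSup₂_le fun v hv => ?_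
  exact (hS.le_core_of_small (hES hv.1) hv.2 (hsm v (hS.order (hES hv.1) hv.2)) inf_le_right
    (SEBrick.odd_of_le ho inf_le_left)
    ((le_inf hn ((hS.le_centralizer (hES hv.1)).trans le_normalizer)).trans
      inf_normalizer_le_normalizer_inf)).trans (core_le_closure (hES hv.1) hv.2)

end Closure

/-- The induction statement. -/
def SmallStmt (n : ℕ) : Prop :=
  ∀ (K : Type u) [Group K] [Finite K], Nat.card K ≤ n → ∀ T : Sylow 2 K, Hyp8 T →
    (∀ t : K, orderOf t = 2 → Small t) → ∀ t : K, orderOf t = 2 → core (cen t) = ⊥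

/-- An element fusing all three fours through `a` fixes only `⟨a⟩` in the Sylow subgroup. -/
theorem Hyp8.fix_mem_zpowers (hS : Hyp8 S) {a r : G} (ha : a ∈ (S : Subgroup G)) (ha1 : a ≠ 1)
    (hr : r ∈ normalizer ((S : Subgroup G) : Set G)) (hra : r * a = a * r)
    (hrS : r ∉ centralizer ((S : Subgroup G) : Set G)) {u : G} (hu : u ∈ (S : Subgroup G))
    (hru : r * u = u * r) : u ∈ zpowers a := by
  by_contra hua
  set P := (S : Subgroup G) ⊓ centralizer ({r} : Set G) with hP
  have hPS : P ≤ (S : Subgroup G) := inf_le_left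
  have hmemP : ∀ x ∈ (S : Subgroup G), r * x = x * r → x ∈ P := fun x hx hrx =>
    mem_inf.2 ⟨hx, mem_centralizer_singleton_iff.2 hrx.symm⟩
  have hlt : zpowers a < P := lt_of_le_of_ne (zpowers_le.2 (hmemP a ha hra))
    fun e => hua (e ▸ hmemP u hu hru)
  have hne : P ≠ (S : Subgroup G) := fun e => hrS (mem_centralizer_iff.2 fun x hx =>
    mem_centralizer_singleton_iff.1 (mem_inf.1 (e.symm ▸ hx : x ∈ P)).2)
  have hcard : Nat.card P = 4 := by
    obtain ⟨k, hk, he⟩ := (Nat.dvd_prime_pow Nat.prime_two).1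
      (show Nat.card P ∣ 2 ^ 3 from (hS.card ▸ card_dvd_of_le hPS : Nat.card P ∣ 8))
    have h2 : 2 < Nat.card P := by
      have h := card_le_of_le hlt.le
      rw [Nat.card_zpowers, hS.order ha ha1] at h
      refine lt_of_le_of_ne h fun e => hlt.ne (eq_of_le_of_card_ge hlt.le ?_)
      rw [Nat.card_zpowers, hS.order ha ha1, ← e]
    have h8 : Nat.card P ≠ 8 := fun e => hne (eq_of_le_of_card_ge hPS (by rw [e, hS.card]))
    interval_cases k <;> simp_all
  have hidx : (P.subgroupOf (S : Subgroup G)).index = 2 := by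
    have h := card_mul_index (P.subgroupOf (S : Subgroup G))
    rw [Nat.card_congr (subgroupOfEquivOfLe hPS).toEquiv, hcard, hS.card] at h
    omega
  refine hrS (JankoRee.centralizes_of_sq S ⟨⟨fun x y => Subtype.ext (hS.comm x.2 y.2)⟩⟩ hr
    (mem_centralizer_iff.2 fun x hx => ?_))
  have hxS : x ∈ (S : Subgroup G) := hx
  have hrx := SEBrick.conj_mem_of hr hxS
  set f := x⁻¹ * (r * x * r⁻¹) with hf
  have hfP : f ∈ P := by
    have h := (mul_mem_iff_of_index_two hidx (a := (⟨x⁻¹, inv_mem hxS⟩ : (S : Subgroup G)))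
      (b := ⟨r * x * r⁻¹, hrx⟩)).2 ?_
    · exact mem_subgroupOf.1 h
    simp only [mem_subgroupOf, inv_mem_iff]
    refine ⟨fun hxP => ?_, fun hxP => ?_⟩
    · rwa [(mem_centralizer_singleton_iff.1 (mem_inf.1 hxP).2).symm, mul_inv_cancel_right]
    · have hxe : r * (r * x * r⁻¹) = (r * x * r⁻¹) * r :=
        (mem_centralizer_singleton_iff.1 (mem_inf.1 hxP).2).symm
      have e : r * x * r⁻¹ = x := by
        rw [inv_mul_cancel_right] at hxe
        calc r * x * r⁻¹ = r⁻¹ * (r * (r * x * r⁻¹)) := by group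
          _ = x := by rw [hxe]; group
      rwa [e] at hxP
  have hfr : f * r = r * f := mem_centralizer_singleton_iff.1 (mem_inf.1 hfP).2
  have hff : f * f = 1 := hS.sq f (hPS hfP)
  have e1 : r * x * r⁻¹ = x * f := by rw [hf, mul_inv_cancel_left]
  have e2 : r * r * x * (r * r)⁻¹ = x := by
    calc r * r * x * (r * r)⁻¹ = r * (r * x * r⁻¹) * r⁻¹ := by group
      _ = r * x * (f * r⁻¹) := by rw [e1]; group
      _ = r * x * (r⁻¹ * f) := by
        congr 1
        calc f * r⁻¹ = r⁻¹ * (r * f) * r⁻¹ := by group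
          _ = r⁻¹ * (f * r) * r⁻¹ := by rw [hfr]
          _ = r⁻¹ * f := by group
      _ = r * x * r⁻¹ * f := by group
      _ = x := by rw [e1, mul_assoc, hff, mul_one]
  exact (mul_inv_eq_iff_eq_mul.1 e2).symm

/-- A non-solvable part of `C(a)` contains an element acting on the Sylow subgroup non-trivially. -/
theorem Hyp8.exists_moving (hS : Hyp8 S) {X : Subgroup G} (hSX : (S : Subgroup G) ≤ X)
    (hns : ¬ Group.IsSolvable X) :
    ∃ r ∈ X, r ∈ normalizer ((S : Subgroup G) : Set G) ∧ r ∉ centralizer ((S : Subgroup G) : Set G) := by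
  haveI : Fact (Nat.Prime 2) := ⟨Nat.prime_two⟩
  by_contra hno
  push Not at hno
  set T := S.subtype hSX with hT
  have hTmem : ∀ z : X, z ∈ (T : Subgroup X) ↔ (z : G) ∈ (S : Subgroup G) := fun z => by
    rw [hT, Sylow.coe_subtype, mem_subgroupOf]
  have hTc : normalizer ((T : Subgroup X) : Set X) ≤ centralizer ((T : Subgroup X) : Set X) := by
    intro r hr
    refine mem_centralizer_iff.2 fun z hz => Subtype.ext ?_
    have h1 : (r : G) ∈ normalizer ((S : Subgroup G) : Set G) := SEBrick.mem_normalizer_of fun x hx =>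
      (hTmem _).1 (SEBrick.conj_mem_of (G := X) hr ((hTmem ⟨x, hSX hx⟩).2 hx))
    exact mem_centralizer_iff.1 (hno r r.2 h1) (z : G) ((hTmem z).1 hz)
  set φ := MonoidHom.transferSylow T hTc with hφ
  haveI : Group.IsSolvable φ.ker := OddChar.oddSolvable _ (by
    rw [← Nat.not_even_iff_odd, even_iff_two_dvd]
    exact MonoidHom.not_dvd_card_ker_transferSylow T hTc)
  haveI : Group.IsSolvable (T : Subgroup X) := Group.isSolvable_of_comm fun x y =>
    Subtype.ext (Subtype.ext (hS.comm ((hTmem x).1 x.2) ((hTmem y).1 y.2)))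
  exact hns (Group.isSolvable_of_ker_le_range φ.ker.subtype φ (by simp))

section Fusion

variable (hS : Hyp8 S) {a : G} (ha : a ∈ (S : Subgroup G)) (ha1 : a ≠ 1) {X : Subgroup G}
include hS ha ha1

/-- In a subgroup with a non-solvable part in `C(a)`, the involution is isolated or conjugate to all. -/
theorem Hyp8.isolated_or_fused (hSX : (S : Subgroup G) ≤ X)
    (hns : ¬ Group.IsSolvable ↥(X ⊓ centralizer ({a} : Set G))) :
    (∀ g ∈ X, g * a * g⁻¹ ∈ (S : Subgroup G) → g * a * g⁻¹ = a) ∨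
      ∀ s ∈ (S : Subgroup G), s ≠ 1 → ∃ g ∈ X, g * a * g⁻¹ = s := by
  classical
  haveI : Fact (Nat.Prime 2) := ⟨Nat.prime_two⟩
  obtain ⟨r, hrX, hrN, hrS⟩ := hS.exists_moving
    (le_inf hSX (hS.le_centralizer ha)) hns
  have hra : r * a = a * r := mem_centralizer_singleton_iff.1 hrX.2
  have hr2 : r * r ∉ centralizer ((S : Subgroup G) : Set G) := fun h =>
    hrS (JankoRee.centralizes_of_sq S ⟨⟨fun x y => Subtype.ext (hS.comm x.2 y.2)⟩⟩ hrN h)
  set N := X ⊓ normalizer ((S : Subgroup G) : Set G) with hN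
  set Ω : Set G := {s | ∃ g ∈ N, g * a * g⁻¹ = s} with hΩ
  have hΩS : Ω ⊆ (S : Subgroup G) := by
    rintro _ ⟨g, hg, rfl⟩
    exact SEBrick.conj_mem_of hg.2 ha
  have haΩ : a ∈ Ω := ⟨1, one_mem _, by simp⟩
  have h1Ω : (1 : G) ∉ Ω := fun ⟨g, _, hg⟩ => ha1 (conj_eq_one_iff.1 hg)
  -- the orbit is odd
  have hodd : Odd Ω.ncard := by
    let f : N → G := fun g => (g : G) * a * (g : G)⁻¹
    set K := (centralizer ({a} : Set G)).subgroupOf N with hK
    have hcard : Ω.ncard = K.index := by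
      rw [index_eq_card, ← Nat.card_coe_set_eq]
      refine (Nat.card_congr (Equiv.ofBijective (fun q : N ⧸ K => (⟨f q.out, q.out, q.out.2, rfl⟩ : Ω)) ⟨?_, ?_⟩)).symm
      · intro q q' e
        have e' : ((q.out : N) : G) * a * ((q.out : N) : G)⁻¹ =
            ((q'.out : N) : G) * a * ((q'.out : N) : G)⁻¹ := congrArg Subtype.val e
        refine (q.out_eq'.symm.trans (QuotientGroup.eq.2 ?_)).trans q'.out_eq'
        show _ ∈ (centralizer ({a} : Set G)).subgroupOf N
        rw [mem_subgroupOf, mem_centralizer_singleton_iff, Subgroup.coe_mul, Subgroup.coe_inv]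
        set x := ((q.out : N) : G)
        set y := ((q'.out : N) : G)
        calc x⁻¹ * y * a = x⁻¹ * (y * a * y⁻¹) * y := by group
          _ = x⁻¹ * (x * a * x⁻¹) * y := by rw [e']
          _ = _ := by group
      · rintro ⟨_, g, hg, rfl⟩
        refine ⟨QuotientGroup.mk ⟨g, hg⟩, Subtype.ext ?_⟩
        obtain ⟨k, hk⟩ := QuotientGroup.mk_out_eq_mul K (⟨g, hg⟩ : N)
        show f _ = g * a * g⁻¹
        rw [hk]
        have hka := mem_centralizer_singleton_iff.1 (mem_subgroupOf.1 k.2)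
        show g * ((k : N) : G) * a * (g * ((k : N) : G))⁻¹ = g * a * g⁻¹
        rw [mul_assoc g, hka]
        group
    have hSN : (S : Subgroup G) ≤ N := le_inf hSX le_normalizer
    have hdvd : K.index ∣ (S : Subgroup G).index := by
      have h1 : ((S : Subgroup G).subgroupOf N).index * N.index = (S : Subgroup G).index :=
        relIndex_mul_index hSN
      refine (index_dvd_of_le (show (S : Subgroup G).subgroupOf N ≤ K from fun x hx =>
        hS.le_centralizer ha hx)).trans ⟨N.index, h1.symm⟩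
    rw [hcard, ← Nat.not_even_iff_odd, even_iff_two_dvd]
    exact fun h => S.not_dvd_index (h.trans hdvd)
  set U : Set G := ((S : Subgroup G) : Set G) \ {1, a} with hU
  set Ω' : Set G := Ω \ {a} with hΩ'
  have hU6 : U.ncard = 6 := by
    rw [hU, Set.ncard_sdiff (by rintro x (rfl | rfl); exacts [one_mem _, ha]) (Set.toFinite _),
      Set.ncard_pair (Ne.symm ha1), ← Nat.card_coe_set_eq]
    change Nat.card (S : Subgroup G) - 2 = 6
    rw [hS.card]
  have hsub : Ω' ⊆ U := fun x hx => ⟨hΩS hx.1, fun h => by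
    rcases h with rfl | rfl
    · exact h1Ω hx.1
    · exact hx.2 rfl⟩
  -- no two-element set is invariant
  have hno2 : ∀ P : Set G, P ⊆ U → P.ncard = 2 → (∀ x ∈ P, r * x * r⁻¹ ∈ P) → False := by
    intro P hPU hP2 hinv
    obtain ⟨u, w, huw, rfl⟩ := Set.ncard_eq_two.1 hP2
    have huU := hPU (Set.mem_insert u {w})
    have hz : ∀ x, r * x = x * r → x ∈ (S : Subgroup G) → x ∈ ({1, a} : Set G) := fun x hx hxS => by
      have h := hS.fix_mem_zpowers ha ha1 hrN hra hrS hxS hx
      obtain ⟨i, rfl⟩ := mem_zpowers_iff.1 h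
      rcases Int.even_or_odd i with ⟨j, rfl⟩ | ⟨j, rfl⟩
      · left; rw [← two_mul, zpow_mul, zpow_two, hS.sq a ha, one_zpow]
      · right; rw [zpow_add, zpow_mul, zpow_two, hS.sq a ha, one_zpow, one_mul, zpow_one]; rfl
    have hne : r * u * r⁻¹ ≠ u := fun e => huU.2 (hz u (mul_inv_eq_iff_eq_mul.1 e) huU.1)
    have hru : r * u * r⁻¹ = w := (hinv u (Set.mem_insert u {w})).resolve_left hne
    have hrw : r * w * r⁻¹ = u := (hinv w (Or.inr rfl)).resolve_right fun e => huw (by
      have : r * u * r⁻¹ = r * w * r⁻¹ := hru.trans (Set.mem_singleton_iff.1 e).symm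
      exact mul_left_cancel (mul_right_cancel this))
    have h2 : r * r * u = u * (r * r) := mul_inv_eq_iff_eq_mul.1 (by
      calc r * r * u * (r * r)⁻¹ = r * (r * u * r⁻¹) * r⁻¹ := by group
        _ = u := by rw [hru, hrw])
    have h := hS.fix_mem_zpowers ha ha1 (mul_mem hrN hrN)
      (by rw [mul_assoc, hra, ← mul_assoc, hra, mul_assoc]) hr2 huU.1 h2
    obtain ⟨i, hi⟩ := mem_zpowers_iff.1 h
    refine huU.2 ?_
    rw [← hi]
    rcases Int.even_or_odd i with ⟨j, rfl⟩ | ⟨j, rfl⟩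
    · left; rw [← two_mul, zpow_mul, zpow_two, hS.sq a ha, one_zpow]
    · right; rw [zpow_add, zpow_mul, zpow_two, hS.sq a ha, one_zpow, one_mul, zpow_one]; rfl
  have hinvΩ : ∀ x ∈ Ω', r * x * r⁻¹ ∈ Ω' := by
    rintro _ ⟨⟨g, hg, rfl⟩, hne⟩
    refine ⟨⟨r * g, mul_mem (mem_inf.2 ⟨hrX.1, hrN⟩) hg, by group⟩, fun e => hne ?_⟩
    have e' : r * (g * a * g⁻¹) * r⁻¹ = a := e
    show g * a * g⁻¹ = a
    calc g * a * g⁻¹ = r⁻¹ * (r * (g * a * g⁻¹) * r⁻¹) * r := by group
      _ = r⁻¹ * (r * a) := by rw [e', mul_assoc, ← hra]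
      _ = a := by group
  have hUinv : ∀ x ∈ U, r * x * r⁻¹ ∈ U := fun x hx => ⟨SEBrick.conj_mem_of hrN hx.1, fun h => hx.2 (by
    rcases h with h | h
    · exact Or.inl (conj_eq_one_iff.1 h)
    · refine Or.inr (Set.mem_singleton_iff.2 ?_)
      calc x = r⁻¹ * (r * x * r⁻¹) * r := by group
        _ = r⁻¹ * (r * a) := by rw [Set.mem_singleton_iff.1 h, mul_assoc, ← hra]
        _ = a := by group)⟩
  have hc : (U \ Ω').ncard = 6 - Ω'.ncard := by
    rw [Set.ncard_sdiff hsub (Set.toFinite _), hU6]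
  have hcinv : ∀ x ∈ U \ Ω', r * x * r⁻¹ ∈ U \ Ω' := fun x hx => ⟨hUinv x hx.1, fun h => hx.2 (by
    -- the map is injective on the finite invariant set
    have hinj : Function.Injective fun z : Ω' => (⟨r * z * r⁻¹, hinvΩ z z.2⟩ : Ω') := fun z z' e => by
      have e' : r * (z : G) * r⁻¹ = r * z' * r⁻¹ := congrArg Subtype.val e
      exact Subtype.ext (mul_left_cancel (mul_right_cancel e'))
    obtain ⟨z, hz⟩ := Finite.surjective_of_injective hinj ⟨_, h⟩
    have e' : r * (z : G) * r⁻¹ = r * x * r⁻¹ := congrArg Subtype.val hz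
    rw [← mul_left_cancel (mul_right_cancel e')]
    exact z.2)⟩
  have heven : Even Ω'.ncard := by
    rw [hΩ', Set.ncard_sdiff_singleton_of_mem haΩ]
    obtain ⟨k, hk⟩ := hodd
    exact ⟨k, by omega⟩
  have hle : Ω'.ncard ≤ 6 := hU6 ▸ Set.ncard_le_ncard hsub (Set.toFinite _)
  have hburn : ∀ g ∈ X, g * a * g⁻¹ ∈ (S : Subgroup G) → g * a * g⁻¹ ∈ Ω := by
    intro g hg hgS
    set T := S.subtype hSX with hT
    have hTmem : ∀ z : X, z ∈ (T : Subgroup X) ↔ (z : G) ∈ (S : Subgroup G) := fun z => by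
      rw [hT, Sylow.coe_subtype, mem_subgroupOf]
    haveI : IsMulCommutative (T : Subgroup X) :=
      ⟨⟨fun x y => Subtype.ext (Subtype.ext (hS.comm ((hTmem x).1 x.2) ((hTmem y).1 y.2)))⟩⟩
    obtain ⟨n, hn, he⟩ := T.conj_eq_normalizer_conj_of_mem (⟨a, hSX ha⟩ : X) (⟨g, hg⟩⁻¹)
      ((hTmem _).2 ha) ((hTmem _).2 (by simpa using hgS))
    have hnN : (n : G)⁻¹ ∈ N := inv_mem (mem_inf.2 ⟨n.2, SEBrick.mem_normalizer_of fun x hx =>
      (hTmem _).1 (SEBrick.conj_mem_of (G := X) hn ((hTmem ⟨x, hSX hx⟩).2 hx))⟩)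
    refine ⟨_, hnN, ?_⟩
    have e := congrArg Subtype.val he
    simp only [inv_inv, Subgroup.coe_mul, Subgroup.coe_inv] at e ⊢
    exact e.symm
  have hcases : Ω'.ncard = 0 ∨ Ω'.ncard = 6 := by
    obtain ⟨k, hk⟩ := heven
    rcases (by omega : k = 0 ∨ k = 1 ∨ k = 2 ∨ k = 3) with rfl | rfl | rfl | rfl
    · exact Or.inl hk
    · exact (hno2 Ω' hsub (by omega) hinvΩ).elim
    · exact (hno2 _ Set.sdiff_subset (by omega) hcinv).elim
    · exact Or.inr (by omega)
  rcases hcases with h0 | h6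
  · left
    intro g hg hgS
    by_contra hne
    have := (Set.ncard_eq_zero (Set.toFinite Ω')).1 h0
    have hm : g * a * g⁻¹ ∈ Ω' := ⟨hburn g hg hgS, hne⟩
    rw [this] at hm
    exact Set.notMem_empty _ hm
  · right
    intro s hs hs1
    by_cases hsa : s = a
    · exact ⟨1, one_mem _, by rw [hsa]; group⟩
    have heq := Set.eq_of_subset_of_ncard_le hsub (by rw [hU6, h6]) (Set.toFinite _)
    have hsU : s ∈ U := ⟨hs, fun h => h.elim hs1 fun h => hsa h⟩
    rw [← heq] at hsU
    obtain ⟨g, hg, he⟩ := hsU.1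
    exact ⟨g, hg.1, he⟩

end Fusion

end Cfsg.Agent.Walter8
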