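import Cfsg.Agent.Lib.Walter8.Small

/-!
# Small centralisers have trivial cores: the induction

For each prime a Sylow subgroup of the closure has a normaliser covering the centraliser of every
involution of the Sylow 2-subgroup modulo its core, so the closure is normalised by these centralisers.
-/

set_option autoImplicit false
set_option linter.style.haveILetI false
set_option linter.unusedSectionVars false

namespace Cfsg.Agent.Walter8

open Subgroup Cfsg.Agent.Signalizer Cfsg.Agent.Signalizer.SFT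
open Cfsg.Agent.ClosedAbelian (core)
open scoped Pointwise

universe u

section Tools

variable {G : Type u} [Group G] [Finite G]

theorem exists_lift_centralizer {A O : Subgroup G} {y : G} (hA : IsPGroup 2 A) (hO : Odd (Nat.card O))
    (hAO : A ≤ normalizer (O : Set G)) (hy : ∀ a ∈ A, y * a * y⁻¹ * a⁻¹ ∈ O) :
    ∃ o ∈ O, o * y ∈ centralizer (A : Set G) := by
  obtain ⟨o, ho, hn⟩ := exists_lift_normalizer hA hO hAO fun a ha => by
    rw [show y * a * y⁻¹ = y * a * y⁻¹ * a⁻¹ * a by group]
    exact mul_mem (mem_sup_left (hy a ha)) (mem_sup_right ha)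
  have hcop : (Nat.card A).Coprime (Nat.card O) := by
    obtain ⟨j, hj⟩ := IsPGroup.iff_card.1 hA
    rw [hj]
    exact (Nat.coprime_two_left.2 hO).pow_left j
  refine ⟨o, ho, mem_centralizer_iff.2 fun a ha => ?_⟩
  have haA : a ∈ A := ha
  have h1 : o * y * a * (o * y)⁻¹ * a⁻¹ ∈ O ⊓ A := by
    refine mem_inf.2 ⟨?_, mul_mem ((mem_normalizer_iff.1 hn a).1 haA) (inv_mem haA)⟩
    rw [show o * y * a * (o * y)⁻¹ * a⁻¹ = o * (y * a * y⁻¹ * a⁻¹) * (a * o⁻¹ * a⁻¹) by group]
    exact mul_mem (mul_mem ho (hy a haA)) ((mem_normalizer_iff.1 (hAO haA) _).1 (inv_mem ho))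
  rw [SchurZ.inf_eq_bot hcop, mem_bot, mul_inv_eq_one, mul_inv_eq_iff_eq_mul] at h1
  exact h1.symm

theorem isPGroup_zpowers {a : G} (ha : orderOf a = 2) : IsPGroup 2 (zpowers a) :=
  IsPGroup.of_card (n := 1) (by rw [Nat.card_zpowers, ha, pow_one])

theorem oddCore_card (G : Type u) [Group G] [Finite G] : Odd (Nat.card (Cfsg.oddCore G)) :=
  Nat.coprime_two_right.1 (PBasic.pPrimeCore_coprime 2 G)

/-- A solvable complement of the core makes the centraliser solvable. -/
theorem solvable_of_cover {a : G} {H : Subgroup G} (hH : H ≤ cen a) (hs : Group.IsSolvable H)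
    (hcov : cen a ≤ core (cen a) ⊔ H) : Group.IsSolvable (cen a) := by
  haveI : ((core (cen a)).subgroupOf (cen a)).Normal :=
    normal_subgroupOf_of_le_normalizer (ClosedAbelian.core_normalized _)
  set N := (core (cen a)).subgroupOf (cen a)
  have h1 : Group.IsSolvable N := by
    haveI := core_solvable a
    exact Group.isSolvable_of_isSolvable_injective
      (f := (subgroupOfEquivOfLe (core_le_cen a)).toMonoidHom) (MulEquiv.injective _)
  have hsurj : Function.Surjective ((QuotientGroup.mk' N).comp (inclusion hH)) := by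
    intro q
    obtain ⟨c, rfl⟩ := QuotientGroup.mk'_surjective N q
    obtain ⟨o, ho, h, hh, he⟩ := (SolvBasic.mem_sup_iff_of_le_normalizer
      (hH.trans (ClosedAbelian.core_normalized _))).1 (hcov c.2)
    refine ⟨⟨h, hh⟩, ?_⟩
    show QuotientGroup.mk' N ⟨h, hH hh⟩ = QuotientGroup.mk' N c
    rw [QuotientGroup.mk'_eq_mk']
    refine ⟨⟨h, hH hh⟩⁻¹ * ⟨o, core_le_cen a ho⟩ * ⟨h, hH hh⟩, ?_, ?_⟩
    · rw [mem_subgroupOf]
      have := ClosedAbelian.conj_mem_core (inv_mem (hH hh)) ho
      simpa using this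
    · refine Subtype.ext ?_
      simp only [Subgroup.coe_mul, Subgroup.coe_inv]
      rw [he]
      group
  haveI : Group.IsSolvable (cen a ⧸ N) := Group.isSolvable_of_surjective hsurj
  exact Group.isSolvable_of_ker_le_range N.subtype (QuotientGroup.mk' N) (by simp)

end Tools

variable {G : Type u} [Group G] [Finite G] {S : Sylow 2 G}

section Subgroup

variable (hS : Hyp8 S) (hsm : ∀ t : G, orderOf t = 2 → Small t) {a : G} (ha : a ∈ (S : Subgroup G))
  (ha1 : a ≠ 1) {X : Subgroup G}
include hS hsm ha ha1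

/-- In a proper subgroup covering `C(a)` modulo its core the closure lies in the odd core. -/
theorem closure_inf_le_core
    (ih : ∀ (K : Type u) [Group K] [Finite K], Nat.card K < Nat.card G → ∀ T : Sylow 2 K, Hyp8 T →
      (∀ t : K, orderOf t = 2 → Small t) → ∀ t : K, orderOf t = 2 → core (cen t) = ⊥)
    (hX : X ≠ ⊤) (hSX : (S : Subgroup G) ≤ X) (hcov : cen a ≤ core (cen a) ⊔ (X ⊓ cen a)) :
    closureCore S ⊓ X ≤ core X := by
  classical
  haveI : Fact (Nat.Prime 2) := ⟨Nat.prime_two⟩
  have Θ := hS.functor hsm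
  have hao := hS.order ha ha1
  have hns : ¬ Group.IsSolvable ↥(X ⊓ cen a) := fun h =>
    hS.nonsolv_at hao (solvable_of_cover inf_le_right h hcov)
  set Y := closureCore S ⊓ X with hY
  have hYo : Odd (Nat.card Y) := SEBrick.odd_of_le (closure_odd hS Θ) inf_le_left
  have hSY : (S : Subgroup G) ≤ normalizer (Y : Set G) :=
    (le_inf (sylow_le_normalizer_closure hS Θ) (hSX.trans le_normalizer)).trans
      inf_normalizer_le_normalizer_inf
  have hodd2 : ∀ {H : Subgroup G}, Odd (Nat.card H) → ¬ 2 ∣ Nat.card H := fun h h' =>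
    Nat.not_even_iff_odd.2 h (even_iff_two_dvd.2 h')
  rcases hS.isolated_or_fused ha ha1 hSX hns with hiso | hfus
  · set T := S.subtype hSX with hT
    have hTmem : ∀ z : X, z ∈ (T : Subgroup X) ↔ (z : G) ∈ (S : Subgroup G) := fun z => by
      rw [hT, Sylow.coe_subtype, mem_subgroupOf]
    set u : X := ⟨a, hSX ha⟩ with hu
    have huo : orderOf u = 2 := by rw [hu, Subgroup.orderOf_mk, hao]
    have hz := BrauerSuzuki.zStar X u huo (BrauerSuzuki.isIsolated_of_sylow huo ((hTmem u).2 ha)
      (fun g hg => Subtype.ext (by simpa using hiso g g.2 (by simpa using (hTmem _).1 hg))))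
    intro y hy
    have hyX : y ∈ X := (mem_inf.1 hy).2
    have hc1 : y * a * y⁻¹ * a⁻¹ ∈ core X := by
      have h1 := hz ⟨y, hyX⟩
      exact ⟨_, h1, by simp [hu, mul_assoc]⟩
    obtain ⟨o, ho, hoy⟩ := exists_lift_centralizer (A := zpowers a) (O := core X) (y := y)
      (isPGroup_zpowers hao) (by rw [← Nat.not_even_iff_odd, even_iff_two_dvd]; exact ClosedAbelian.core_odd _)
      (zpowers_le.2 (ClosedAbelian.core_normalized X (hSX ha)))
      (fun b hb => by
        obtain ⟨i, rfl⟩ := mem_zpowers_iff.1 hb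
        rcases Int.even_or_odd i with ⟨j, rfl⟩ | ⟨j, rfl⟩
        · rw [← two_mul, zpow_mul, zpow_two, hS.sq a ha, one_zpow]; simp
        · rw [zpow_add, zpow_mul, zpow_two, hS.sq a ha, one_zpow, one_mul, zpow_one]; exact hc1)
    set c := o * y with hc
    have hcC : c ∈ cen a := mem_centralizer_singleton_iff.2
      (mem_centralizer_iff.1 hoy a (mem_zpowers a)).symm
    set Y' := (Y ⊔ core X) ⊓ cen a with hY'
    have hY'o : Odd (Nat.card Y') := SEBrick.odd_of_le (by
      rw [← Nat.not_even_iff_odd, even_iff_two_dvd]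
      exact ClosedAbelian.sup_core_odd inf_le_right (hodd2 hYo)) inf_le_left
    have hcY : c ∈ core (cen a) := hS.le_core_of_small ha ha1 (hsm a hao) inf_le_right hY'o
      ((le_inf ((le_inf hSY (hSX.trans (ClosedAbelian.core_normalized X))).trans
        (fun g hg => SEBrick.mem_normalizer_of fun z hz => by
          have hmap : (Y ⊔ core X).map (MulAut.conj g).toMonoidHom = Y ⊔ core X :=
            (Subgroup.map_sup _ _ _).trans (congrArg₂ (· ⊔ ·)
              ((mem_normalizer_iff_map_conj_eq).1 (mem_inf.1 hg).1)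
              ((mem_normalizer_iff_map_conj_eq).1 (mem_inf.1 hg).2))
          rw [← hmap]
          exact ⟨z, hz, rfl⟩))
        ((hS.le_centralizer ha).trans le_normalizer)).trans inf_normalizer_le_normalizer_inf)
      (mem_inf.2 ⟨mul_mem (mem_sup_right ho) (mem_sup_left hy), hcC⟩)
    set N := core (cen a) ⊓ X with hN
    have hNle : N ≤ core X := by
      have hle : N ⊔ core X ≤ X := sup_le inf_le_right (ClosedAbelian.core_le X)
      refine le_sup_left.trans (ClosedAbelian.le_core hle ?_
        (ClosedAbelian.sup_core_odd inf_le_right (hodd2 (SEBrick.odd_of_le (core_card_odd a) inf_le_left))))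
      intro g hg
      have hg1 : g * a * g⁻¹ * a⁻¹ ∈ core X := by
        exact ⟨_, hz ⟨g, hg⟩, by simp [hu, mul_assoc]⟩
      obtain ⟨o', ho', hog⟩ := exists_lift_centralizer (A := zpowers a) (O := core X) (y := g)
        (isPGroup_zpowers hao) (by rw [← Nat.not_even_iff_odd, even_iff_two_dvd]; exact ClosedAbelian.core_odd _)
        (zpowers_le.2 (ClosedAbelian.core_normalized X (hSX ha)))
        (fun b hb => by
          obtain ⟨i, rfl⟩ := mem_zpowers_iff.1 hb
          rcases Int.even_or_odd i with ⟨j, rfl⟩ | ⟨j, rfl⟩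
          · rw [← two_mul, zpow_mul, zpow_two, hS.sq a ha, one_zpow]; simp
          · rw [zpow_add, zpow_mul, zpow_two, hS.sq a ha, one_zpow, one_mul, zpow_one]; exact hg1)
      have hoX : o' ∈ normalizer ((N ⊔ core X : Subgroup G) : Set G) := le_normalizer (mem_sup_right ho')
      have hgC : o' * g ∈ cen a := mem_centralizer_singleton_iff.2
        (mem_centralizer_iff.1 hog a (mem_zpowers a)).symm
      have hgX : o' * g ∈ X := mul_mem (ClosedAbelian.core_le X ho') hg
      have hog' : o' * g ∈ normalizer ((N ⊔ core X : Subgroup G) : Set G) := by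
        refine SEBrick.mem_normalizer_of fun z hz => ?_
        have hmap : (N ⊔ core X).map (MulAut.conj (o' * g)).toMonoidHom = N ⊔ core X :=
          (Subgroup.map_sup _ _ _).trans (congrArg₂ (· ⊔ ·)
            ((mem_normalizer_iff_map_conj_eq).1 (inf_normalizer_le_normalizer_inf
              (mem_inf.2 ⟨ClosedAbelian.core_normalized _ hgC, le_normalizer hgX⟩)))
            ((mem_normalizer_iff_map_conj_eq).1 (ClosedAbelian.core_normalized X hgX)))
        rw [← hmap]
        exact ⟨z, hz, rfl⟩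
      rw [show g = o'⁻¹ * (o' * g) by group]
      exact mul_mem (inv_mem hoX) hog'
    have hcX : c ∈ X := mul_mem (ClosedAbelian.core_le X ho) hyX
    rw [show y = o⁻¹ * c by rw [hc]; group]
    exact mul_mem (inv_mem ho) (hNle (mem_inf.2 ⟨hcY, hcX⟩))
  -- the fused case: the quotient by the odd core
  haveI : (Cfsg.oddCore ↥X).Normal := inferInstance
  set q := QuotientGroup.mk' (Cfsg.oddCore ↥X) with hq
  have hqs : Function.Surjective q := QuotientGroup.mk'_surjective _
  have hqO : ∀ z : X, q z = 1 ↔ z ∈ Cfsg.oddCore ↥X := fun z => QuotientGroup.eq_one_iff z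
  have hlift : ∀ (A : Subgroup X), IsPGroup 2 A → ∀ y : X, (∀ b ∈ A, q y * q b = q b * q y) →
      ∃ y' : X, q y' = q y ∧ y' ∈ centralizer (A : Set X) := by
    intro A hA y hy
    obtain ⟨o, ho, hoy⟩ := exists_lift_centralizer (y := y) hA (oddCore_card _) le_normalizer_of_normal
      (fun b hb => (hqO _).1 (by
        rw [map_mul, map_mul, map_mul, map_inv, map_inv, hy b hb, mul_inv_cancel_right, mul_inv_cancel]))
    exact ⟨o * y, by rw [map_mul, (hqO o).2 ho, one_mul], hoy⟩
  have hinjS : ∀ z : X, (z : G) ∈ (S : Subgroup G) → q z = 1 → z = 1 := fun z hz h => by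
    refine Subtype.ext (ClosedAbelian.TwoEl.eq_one_of_odd (ClosedAbelian.twoEl_of_sq (hS.sq _ hz)) ?_)
    rw [Subgroup.orderOf_coe]
    exact (oddCore_card _).of_dvd_nat (orderOf_dvd_natCard _ ((hqO z).1 h))
  set T := (S.subtype hSX).mapSurjective hqs with hT
  have hTcoe : (T : Subgroup (X ⧸ Cfsg.oddCore ↥X)) = ((S : Subgroup G).subgroupOf X).map q := by
    rw [hT, Sylow.coe_mapSurjective, Sylow.coe_subtype]
  have hTcard : Nat.card (T : Subgroup (X ⧸ Cfsg.oddCore ↥X)) = 8 := by
    rw [hTcoe, ← hS.card, ← Nat.card_congr (subgroupOfEquivOfLe hSX).toEquiv]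
    refine (Nat.card_congr (Equiv.ofBijective
      (fun z : ((S : Subgroup G).subgroupOf X) => (⟨q z, ⟨z, z.2, rfl⟩⟩ :
        ((S : Subgroup G).subgroupOf X).map q)) ⟨?_, ?_⟩)).symm
    · intro z z' e
      have e' : q (z : X) = q z' := congrArg Subtype.val e
      refine Subtype.ext (inv_mul_eq_one.1 (hinjS _ ?_ ?_))
      · exact mul_mem (inv_mem (mem_subgroupOf.1 z.2)) (mem_subgroupOf.1 z'.2)
      · rw [map_mul, map_inv, e', inv_mul_cancel]
    · rintro ⟨_, z, hz, rfl⟩
      exact ⟨⟨z, hz⟩, rfl⟩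
  set a' : X := ⟨a, hSX ha⟩ with ha'
  have hqa : orderOf (q a') = 2 := Invol.order_two_of_sq
    (by rw [← map_mul, show a' * a' = 1 from Subtype.ext (hS.sq a ha), map_one])
    fun e => ha1 (congrArg Subtype.val (hinjS a' ha e))
  have hall : ∀ x : X ⧸ Cfsg.oddCore ↥X, orderOf x = 2 → IsConj (q a') x := by
    intro x hx
    obtain ⟨R, hR⟩ := (isPGroup_zpowers hx).exists_le_sylow
    obtain ⟨g, hg⟩ := MulAction.exists_smul_eq (X ⧸ Cfsg.oddCore ↥X) R T
    have hmem : g * x * g⁻¹ ∈ (T : Subgroup _) := by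
      rw [← hg, Sylow.coe_subgroup_smul]
      exact ⟨x, hR (mem_zpowers x), rfl⟩
    rw [hTcoe] at hmem
    obtain ⟨s, hs, he⟩ := hmem
    obtain ⟨h, hh, hsa⟩ := hfus s hs (fun e => Invol.ne_one hx (conj_eq_one_iff.1 (by
      rw [← he, show s = 1 from Subtype.ext e, map_one] : g * x * g⁻¹ = 1)))
    refine isConj_iff.2 ⟨g⁻¹ * q ⟨h, hh⟩, ?_⟩
    have h1 : q ⟨h, hh⟩ * q a' * (q ⟨h, hh⟩)⁻¹ = g * x * g⁻¹ := by
      rw [← he, ← map_mul, ← map_inv, ← map_mul]
      exact congrArg q (Subtype.ext hsa)
    calc g⁻¹ * q ⟨h, hh⟩ * q a' * (g⁻¹ * q ⟨h, hh⟩)⁻¹ = g⁻¹ * (q ⟨h, hh⟩ * q a' * (q ⟨h, hh⟩)⁻¹) * g := by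
          group
      _ = x := by rw [h1]; group
  -- the image of a core lies in the core
  have hcore : ∀ b (hb : b ∈ (S : Subgroup G)), b ≠ 1 → ∀ z : X, (z : G) ∈ core (cen b) →
      q z ∈ core (cen (q ⟨b, hSX hb⟩)) := by
    intro b hb hb1 z hz
    set N := ((core (cen b)).subgroupOf X).map q with hN
    refine ClosedAbelian.le_core (N := N) ?_ ?_ ?_ ⟨z, hz, rfl⟩
    · rintro _ ⟨w, hw, rfl⟩
      refine mem_centralizer_singleton_iff.2 ?_
      rw [← map_mul, ← map_mul]
      exact congrArg q (Subtype.ext (mem_centralizer_singleton_iff.1 (core_le_cen b hw)))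
    · intro x hx
      obtain ⟨w, rfl⟩ := hqs x
      obtain ⟨w', hw', hwc⟩ := hlift (zpowers (⟨b, hSX hb⟩ : X))
        (isPGroup_zpowers (by rw [Subgroup.orderOf_mk, hS.order hb hb1])) w (fun e he => by
          obtain ⟨i, rfl⟩ := mem_zpowers_iff.1 he
          rw [map_zpow]
          exact ((show Commute (q w) _ from mem_centralizer_singleton_iff.1 hx).zpow_right i).eq)
      rw [← hw']
      refine le_normalizer_map q (mem_map_of_mem q (SEBrick.mem_normalizer_of fun e he => ?_))
      have hwb : (w' : G) ∈ cen b := mem_centralizer_singleton_iff.2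
        (congrArg Subtype.val (mem_centralizer_iff.1 hwc _ (mem_zpowers _)).symm)
      exact ClosedAbelian.conj_mem_core hwb (mem_subgroupOf.1 he)
    · intro h
      refine hodd2 (core_card_odd b) (h.trans ((card_map_dvd _ _).trans ?_))
      exact card_comap_dvd_of_injective _ _ X.subtype_injective
  have hT8 : Hyp8 T := by
    refine ⟨hTcard, ?_, fun x y hx hy => (hall x hx).symm.trans (hall y hy),
      PBasic.pPrimeCore_quotient_pPrimeCore 2 ↥X, ⟨q a', hqa, fun h => hns ?_⟩⟩
    · rw [hTcoe]
      rintro _ ⟨z, hz, rfl⟩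
      rw [← map_mul, show z * z = 1 from Subtype.ext (hS.sq _ hz), map_one]
    · let f : ↥(X ⊓ cen a) →* ↥(centralizer ({q a'} : Set (X ⧸ Cfsg.oddCore ↥X))) :=
        { toFun := fun z => ⟨q ⟨z, z.2.1⟩, mem_centralizer_singleton_iff.2 (by
            rw [← map_mul, ← map_mul]
            exact congrArg q (Subtype.ext (mem_centralizer_singleton_iff.1 z.2.2)))⟩
          map_one' := Subtype.ext (map_one q)
          map_mul' := fun z w => Subtype.ext (map_mul q ⟨z, z.2.1⟩ ⟨w, w.2.1⟩) }
      haveI := h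
      haveI : Group.IsSolvable (Cfsg.oddCore ↥X) := OddChar.oddSolvable _ (oddCore_card _)
      haveI : Group.IsSolvable f.ker := by
        refine Group.isSolvable_of_isSolvable_injective (f := ({
          toFun := fun z => ⟨⟨(z : ↥(X ⊓ cen a)), z.1.2.1⟩, (hqO _).1 (congrArg Subtype.val z.2)⟩
          map_one' := rfl
          map_mul' := fun _ _ => rfl } : f.ker →* Cfsg.oddCore ↥X)) fun z w e => ?_
        exact Subtype.ext (Subtype.ext (congrArg (fun v : Cfsg.oddCore ↥X => ((v : X) : G)) e))
      exact Group.isSolvable_of_ker_le_range f.ker.subtype f (by simp)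
  have hsmall : Small (q a') := by
    intro x y hx hy hx2 hx1 hxa hyx
    obtain ⟨x0, rfl⟩ := hqs x
    obtain ⟨x1, hx1', hxc⟩ := hlift (zpowers a') (isPGroup_zpowers (by rw [Subgroup.orderOf_mk, hao])) x0
      (fun e he => by
        obtain ⟨i, rfl⟩ := mem_zpowers_iff.1 he
        rw [map_zpow]
        exact ((show Commute (q x0) _ from hx).zpow_right i).eq)
    -- an involution over the image
    set m := orderOf (x1 * x1) with hm
    have hmo : Odd m := (oddCore_card _).of_dvd_nat (orderOf_dvd_natCard _ ((hqO _).1 (by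
      rw [map_mul, hx1', hx2])))
    set x2 := x1 ^ m with hx2'
    have hx2q : q x2 = q x0 := by
      obtain ⟨k, hk⟩ := hmo
      rw [hx2', map_pow, hx1', hk, pow_succ, pow_mul, pow_two, hx2, one_pow, one_mul]
    have hx22 : x2 * x2 = 1 := by
      rw [hx2', ← (Commute.refl x1).mul_pow, hm, pow_orderOf_eq_one]
    have hx2c : x2 * a' = a' * x2 := by
      rw [hx2']
      exact ((show Commute x1 a' from (mem_centralizer_iff.1 hxc a' (mem_zpowers a')).symm).pow_left m).eq
    have hx2ne : x2 ≠ 1 := fun e => hx1 (by rw [← hx2q, e, map_one])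
    set A := zpowers a' ⊔ zpowers x2 with hA
    have hA2 : IsPGroup 2 A :=
      (isPGroup_zpowers (by rw [Subgroup.orderOf_mk, hao])).to_sup_of_normal_right'
        (isPGroup_zpowers (Invol.order_two_of_sq hx22 hx2ne))
        (zpowers_le.2 (SEBrick.mem_normalizer_of fun e he => by
          obtain ⟨i, rfl⟩ := mem_zpowers_iff.1 he
          rw [((show Commute a' x2 from hx2c.symm).zpow_right i).eq, mul_inv_cancel_right]
          exact zpow_mem (mem_zpowers x2) i))
    obtain ⟨y0, rfl⟩ := hqs y
    obtain ⟨y1, hy1, hyc⟩ := hlift A hA2 y0 (fun e he => by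
      have hle : A ≤ (centralizer ({q y0} : Set (X ⧸ Cfsg.oddCore ↥X))).comap q := by
        rw [hA, sup_le_iff, zpowers_le, zpowers_le, mem_comap, mem_comap, mem_centralizer_singleton_iff,
          mem_centralizer_singleton_iff, hx2q]
        exact ⟨hy.symm, hyx.symm⟩
      exact (mem_centralizer_singleton_iff.1 (hle he)).symm)
    have hya : y1 * a' = a' * y1 := (mem_centralizer_iff.1 hyc a' (mem_sup_left (mem_zpowers a'))).symm
    have hyx2 : y1 * x2 = x2 * y1 := (mem_centralizer_iff.1 hyc x2 (mem_sup_right (mem_zpowers x2))).symm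
    have h := hsm a hao x2 y1 (congrArg Subtype.val hx2c) (congrArg Subtype.val hya)
      (congrArg Subtype.val hx22) (fun e => hx2ne (Subtype.ext e))
      (fun e => hxa (by rw [← hx2q, show x2 = a' from Subtype.ext e])) (congrArg Subtype.val hyx2)
    rcases mem_sup_cases (hS.sq a ha) h with h' | ⟨o, ho, he⟩
    · refine mem_sup_left ?_
      rw [← hy1, ← map_mul]
      exact hcore a ha ha1 (y1 * y1) h'
    · have hoX : o ∈ X := by
        have := mul_mem (mul_mem y1.2 y1.2) (hSX ha)
        rwa [he, mul_assoc, hS.sq a ha, mul_one] at this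
      rw [← hy1, ← map_mul, show y1 * y1 = (⟨o, hoX⟩ : X) * a' from Subtype.ext he, map_mul]
      exact mul_mem (mem_sup_left (hcore a ha ha1 ⟨o, hoX⟩ ho)) (mem_sup_right (mem_zpowers _))
  have hlt : Nat.card (X ⧸ Cfsg.oddCore ↥X) < Nat.card G :=
    (Nat.le_of_dvd Nat.card_pos (card_quotient_dvd_card _)).trans_lt (lt_of_le_of_ne
      (Nat.le_of_dvd Nat.card_pos (card_subgroup_dvd_card X)) fun e => hX (eq_top_of_card_eq X e))
  have hbot := ih _ hlt T hT8 (fun t ht => hT8.small_all hqa hsmall ht)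
  obtain ⟨E, hES, hE, -⟩ := hS.exists_four_avoid ha
  haveI := hE.1.1
  have hcop : (Nat.card E).Coprime (Nat.card Y) := by
    obtain ⟨n, hn'⟩ := (IsPGroup.iff_card (p := 2)).1 hE.isPGroup
    rw [hn']; exact (Nat.coprime_two_left.2 hYo).pow_left n
  show Y ≤ core X
  rw [← CoprimeAct.generated_by_centralizers hE.not_isCyclic (hES.trans hSY) hcop]
  refine iSup₂_le fun v hv w hw => ?_
  obtain ⟨hw1, hw2⟩ := mem_inf.1 hw
  have hvo : orderOf (q ⟨v, hSX (hES hv.1)⟩) = 2 := Invol.order_two_of_sq
    (by rw [← map_mul, ← map_one q]; exact congrArg q (Subtype.ext (hS.sq v (hES hv.1))))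
    fun e => hv.2 (congrArg Subtype.val (hinjS ⟨v, hSX (hES hv.1)⟩ (hES hv.1) e))
  have h1 := hcore v (hES hv.1) hv.2 ⟨w, (mem_inf.1 hw1).2⟩
    (closure_inf hS Θ (hES hv.1) hv.2 (mem_inf.2 ⟨(mem_inf.1 hw1).1, hw2⟩))
  rw [hbot _ hvo, mem_bot, hqO] at h1
  exact ⟨_, h1, rfl⟩

end Subgroup

/-- `Small` centralisers have trivial odd cores. -/
theorem small_cores (h : SEMain.Stmt.{u}) :
    ∀ n, ∀ (K : Type u) [Group K] [Finite K], Nat.card K = n → ∀ T : Sylow 2 K, Hyp8 T →
      (∀ t : K, orderOf t = 2 → Small t) → ∀ t : K, orderOf t = 2 → core (cen t) = ⊥ := by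
  intro n
  induction n using Nat.strong_induction_on with
  | _ n ih =>
  intro K _ _ hn S hS hsm t0 ht0
  subst hn
  classical
  haveI : Fact (Nat.Prime 2) := ⟨Nat.prime_two⟩
  by_contra hne
  have Θ := hS.functor hsm
  set W := closureCore S with hW
  have hcard : ∀ b : K, orderOf b = 2 → Nat.card (core (cen b)) = Nat.card (core (cen t0)) := fun b hb => by
    obtain ⟨g, rfl⟩ := isConj_iff.1 (hS.conj t0 b ht0 hb)
    rw [core_conj, card_map_of_injective (MulAut.conj g).injective]
  obtain ⟨s, hs, hs1⟩ := hS.exists_ne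
  have hWne : W ≠ ⊥ := fun e => hne (by
    have hc : Nat.card (core (cen s)) = 1 := by
      rw [le_bot_iff.1 ((core_le_closure hs hs1).trans e.le), card_bot]
    rw [hcard s (hS.order hs hs1)] at hc
    exact eq_bot_of_card_eq _ hc)
  have hWo := closure_odd hS Θ
  have hSW := sylow_le_normalizer_closure hS Θ
  have hM := normalizer_closure_ne_top hS Θ hWne
  refine false_of_centralizer_le hS h hM (normalizer_sylow_le hS Θ) fun a ha ha1 => ?_
  have hao := hS.order ha ha1
  set O := core (cen a) with hO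
  have hOW : O ≤ W := core_le_closure ha ha1
  -- a large invariant subgroup for each prime
  have hclimb : ∀ r : ℕ, r.Prime → r ∣ Nat.card W → ∃ R : Subgroup K, R ≤ W ∧ IsPGroup r R ∧
      ¬ r ∣ R.relIndex W ∧ cen a ≤ O ⊔ (normalizer (R : Set K) ⊓ cen a) := by
    intro r hr hrW
    haveI : Fact r.Prime := ⟨hr⟩
    have hr0 : r ∣ Nat.card O := by
      by_contra hno
      obtain ⟨E, hES, hE, -⟩ := hS.exists_four_avoid ha
      haveI := hE.1.1
      have hcopW : (Nat.card (S : Subgroup K)).Coprime (Nat.card W) := by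
        rw [hS.card, show (8 : ℕ) = 2 ^ 3 by norm_num]
        exact (Nat.coprime_two_left.2 hWo).pow_left 3
      obtain ⟨P, hP⟩ := CoprimeAct.exists_invariant_sylow hSW hcopW
        (Or.inr (OddChar.oddSolvable _ hWo)) r
      set P' := (P : Subgroup W).map W.subtype with hP'
      have hcopE : (Nat.card E).Coprime (Nat.card P') :=
        (hcopW.coprime_dvd_left (card_dvd_of_le hES)).coprime_dvd_right
          (card_dvd_of_le (map_subtype_le _))
      have hbot : P' = ⊥ := by
        rw [← CoprimeAct.generated_by_centralizers hE.not_isCyclic (hES.trans hP) hcopE, eq_bot_iff]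
        refine iSup₂_le fun v hv x hx => ?_
        obtain ⟨hx1, hx2⟩ := mem_inf.1 hx
        have hxc := closure_inf hS Θ (hES hv.1) hv.2 (mem_inf.2 ⟨map_subtype_le _ hx1, hx2⟩)
        obtain ⟨j, hj⟩ := IsPGroup.iff_orderOf.1 (P.isPGroup'.map W.subtype) ⟨x, hx1⟩
        rw [Subgroup.orderOf_mk] at hj
        have hd := orderOf_dvd_natCard _ hxc
        rw [hj, hcard v (hS.order (hES hv.1) hv.2), ← hcard a hao] at hd
        rcases j with _ | j
        · rw [pow_zero] at hj; exact mem_bot.2 (orderOf_eq_one_iff.1 hj)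
        · exact absurd ((dvd_pow_self r j.succ_ne_zero).trans hd) hno
      have h0 := P.not_dvd_index
      rw [(map_eq_bot_iff_of_injective _ W.subtype_injective).1 hbot, index_bot] at h0
      exact h0 hrW
    have hSO : (S : Subgroup K) ≤ normalizer (O : Set K) :=
      (hS.le_centralizer ha).trans (ClosedAbelian.core_normalized _)
    have hcopO : (Nat.card (S : Subgroup K)).Coprime (Nat.card O) := by
      rw [hS.card, show (8 : ℕ) = 2 ^ 3 by norm_num]
      exact (Nat.coprime_two_left.2 (core_card_odd a)).pow_left 3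
    obtain ⟨P0, hP0⟩ := CoprimeAct.exists_invariant_sylow hSO hcopO (Or.inr (core_solvable a)) r
    let C : Subgroup K → Prop := fun R => R ≤ W ∧ IsPGroup r R ∧ (S : Subgroup K) ≤ normalizer (R : Set K) ∧
      R ≠ ⊥ ∧ cen a ≤ O ⊔ (normalizer (R : Set K) ⊓ cen a)
    have hC0 : C ((P0 : Subgroup O).map O.subtype) := by
      refine ⟨(map_subtype_le _).trans hOW, P0.isPGroup'.map _, hP0, fun e => ?_, fun g hg => ?_⟩
      · have h0 := P0.not_dvd_index
        rw [(map_eq_bot_iff_of_injective _ O.subtype_injective).1 e, index_bot] at h0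
        exact h0 hr0
      · obtain ⟨k, hk, hkn⟩ := SEMain.frattini_local (ClosedAbelian.core_normalized (cen a)) P0 hg
        rw [show g = k * (k⁻¹ * g) by group]
        exact mul_mem (mem_sup_left hk)
          (mem_sup_right (mem_inf.2 ⟨hkn, mul_mem (inv_mem (core_le_cen a hk)) hg⟩))
    haveI : Nonempty {R : Subgroup K // C R} := ⟨⟨_, hC0⟩⟩
    obtain ⟨⟨R, hRW, hRp, hRS, hRne, hRcov⟩, hmax⟩ :=
      Finite.exists_max fun R : {R : Subgroup K // C R} => Nat.card R.1
    refine ⟨R, hRW, hRp, fun hdvd => ?_, hRcov⟩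
    set X := normalizer (R : Set K) with hXdef
    have hX : X ≠ ⊤ := fun e => hRne (le_bot_iff.1
      ((SEBrick.le_oddCore (normalizer_eq_top_iff.1 e) (SEBrick.odd_of_le hWo hRW)).trans hS.oddCore.le))
    have hkey := closure_inf_le_core hS hsm ha ha1 (fun K' _ _ hlt => ih _ hlt K' rfl) hX hRS hRcov
    set D := core X with hD
    have hDo := ClosedAbelian.core_odd X
    have hDo' : Odd (Nat.card D) := by rw [← Nat.not_even_iff_odd, even_iff_two_dvd]; exact hDo
    -- a larger subgroup in the normaliser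
    obtain ⟨P, hP⟩ := (hRp.comap_subtype (K := W)).exists_le_sylow
    set P' := (P : Subgroup W).map W.subtype with hP'
    have hP'p : IsPGroup r P' := P.isPGroup'.map _
    have hRP : R ≤ P' := fun x hx => ⟨⟨x, hRW hx⟩, hP hx, rfl⟩
    have hlt : R < P' := lt_of_le_of_ne hRP fun e => P.not_dvd_index (by
      have := hdvd
      rw [e, hP', relIndex, subgroupOf, comap_map_eq_self_of_injective W.subtype_injective] at this
      exact this)
    have hlt' : R.subgroupOf P' < ⊤ := lt_of_le_of_ne le_top fun e =>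
      hlt.not_ge (subgroupOf_eq_top.1 e)
    haveI : Group.IsNilpotent P' := hP'p.isNilpotent
    obtain ⟨x, hxn, hxR⟩ := SetLike.exists_of_lt (Group.normalizerCondition_of_isNilpotent _ hlt')
    have hxX : (x : K) ∈ X := SEBrick.mem_normalizer_of fun z hz =>
      mem_subgroupOf.1 (SEBrick.conj_mem_of (G := P') (x := (⟨z, hRP hz⟩ : P')) hxn hz)
    have hxD : (x : K) ∈ D := hkey (mem_inf.2 ⟨map_subtype_le _ x.2, hxX⟩)
    have hRD : R ≤ D := fun z hz => hkey (mem_inf.2 ⟨hRW hz, le_normalizer hz⟩)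
    have hSD : (S : Subgroup K) ≤ normalizer (D : Set K) := hRS.trans (ClosedAbelian.core_normalized X)
    obtain ⟨P1, hR1, hP1⟩ := CoprimeAct.exists_invariant_sylow_ge hSD (by
      rw [hS.card, show (8 : ℕ) = 2 ^ 3 by norm_num]
      exact (Nat.coprime_two_left.2 hDo').pow_left 3) (Or.inr (OddChar.oddSolvable _ hDo')) hRD hRp hRS
    set R1 := (P1 : Subgroup D).map D.subtype with hR1def
    have hR1W : R1 ≤ W := le_closure hS hsm (SEBrick.odd_of_le hDo' (map_subtype_le _)) hP1
    have hcov1 : cen a ≤ O ⊔ (normalizer (R1 : Set K) ⊓ cen a) := by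
      intro g hg
      obtain ⟨o, ho, w, hw, rfl⟩ := (SolvBasic.mem_sup_iff_of_le_normalizer
        (inf_le_right.trans (ClosedAbelian.core_normalized (cen a)))).1 (hRcov hg)
      obtain ⟨hwX, hwa⟩ := mem_inf.1 hw
      have hwD : w ∈ normalizer (D : Set K) := ClosedAbelian.core_normalized X hwX
      have hzD : zpowers a ≤ normalizer (D : Set K) := zpowers_le.2 (hSD ha)
      -- the conjugate Sylow subgroup
      set R2 := R1.map (MulAut.conj w).toMonoidHom with hR2
      have hR2D : R2 ≤ D := by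
        rw [← (mem_normalizer_iff_map_conj_eq).1 hwD]
        exact map_mono (map_subtype_le _)
      obtain ⟨P2, hP2⟩ := ((P1.isPGroup'.map D.subtype).map (MulAut.conj w).toMonoidHom).comap_subtype
        (K := D) |>.exists_le_sylow
      have hP2eq : (P2 : Subgroup D).map D.subtype = R2 := by
        have hle2 : R2 ≤ (P2 : Subgroup D).map D.subtype := fun z hz => ⟨⟨z, hR2D hz⟩, hP2 hz, rfl⟩
        refine (eq_of_le_of_card_ge hle2 ?_).symm
        rw [card_map_of_injective D.subtype_injective]
        show _ ≤ Nat.card (R1.map (MulAut.conj w).toMonoidHom)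
        rw [card_map_of_injective (MulAut.conj w).injective, hR1def,
          card_map_of_injective D.subtype_injective]
        exact (Nat.card_congr (P2.equiv P1).toEquiv).le
      have haw : w * a = a * w := mem_centralizer_singleton_iff.1 hwa
      have haR2 : zpowers a ≤ normalizer (R2 : Set K) := zpowers_le.2 (SEBrick.mem_normalizer_of (by
        rintro _ ⟨z, hz, rfl⟩
        refine ⟨a * z * a⁻¹, SEBrick.conj_mem_of (hP1 ha) hz, ?_⟩
        show w * (a * z * a⁻¹) * w⁻¹ = a * (w * z * w⁻¹) * a⁻¹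
        calc w * (a * z * a⁻¹) * w⁻¹ = w * a * z * (w * a)⁻¹ := by group
          _ = a * w * z * (a * w)⁻¹ := by rw [haw]
          _ = _ := by group))
      obtain ⟨c, hcC, hc⟩ := CoprimeAct.invariant_sylow_conj hzD (by
        rw [Nat.card_zpowers, hao]; exact Nat.coprime_two_left.2 hDo')
        (Or.inr (OddChar.oddSolvable _ hDo')) P1 P2 (zpowers_le.2 (hP1 ha)) (by rw [hP2eq]; exact haR2)
      have hca : (c : K) ∈ cen a :=
        mem_centralizer_singleton_iff.2 (mem_centralizer_iff.1 hcC a (mem_zpowers a)).symm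
      have hcO : (c : K) ∈ O :=
        hS.le_core_of_small ha ha1 (hsm a hao) inf_le_right (SEBrick.odd_of_le hDo' inf_le_left)
          ((le_inf hSD ((hS.le_centralizer ha).trans le_normalizer)).trans
            inf_normalizer_le_normalizer_inf) (mem_inf.2 ⟨c.2, hca⟩)
      have hR2c : R1.map (MulAut.conj (c : K)).toMonoidHom = R2 := by
        rw [← hP2eq, ← hc, hR1def, Sylow.pointwise_smul_def, map_map]
        show _ = Subgroup.map D.subtype (Subgroup.map (MulAut.conj c).toMonoidHom (P1 : Subgroup D))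
        rw [map_map]
        exact congrArg (fun f => Subgroup.map f (P1 : Subgroup D)) (MonoidHom.ext fun z => rfl)
      have hn : (c : K)⁻¹ * w ∈ normalizer (R1 : Set K) := by
        rw [mem_normalizer_iff_map_conj_eq, map_mul]
        show R1.map ((MulAut.conj (c : K)⁻¹).toMonoidHom.comp (MulAut.conj w).toMonoidHom) = R1
        rw [← map_map, ← hR2, ← hR2c, map_map]
        convert map_id R1 using 2
        exact MonoidHom.ext fun z => by simp [mul_assoc]
      rw [show o * w = o * (c : K) * ((c : K)⁻¹ * w) by group]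
      exact mul_mem (mem_sup_left (mul_mem ho hcO))
        (mem_sup_right (mem_inf.2 ⟨hn, mul_mem (inv_mem hca) hwa⟩))
    have h1 := hmax ⟨R1, hR1W, P1.isPGroup'.map _, hP1, fun e => hRne (le_bot_iff.1 (hR1.trans e.le)), hcov1⟩
    change Nat.card R1 ≤ Nat.card R at h1
    have hRR : R = R1 := eq_of_le_of_card_ge hR1 h1
    -- the enlargement is inside a Sylow subgroup of the core
    set J := R ⊔ zpowers (x : K) with hJ
    have hJP : J ≤ P' := sup_le hRP (zpowers_le.2 x.2)
    have hJD : J ≤ D := sup_le hRD (zpowers_le.2 hxD)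
    obtain ⟨P3, hP3⟩ := ((hP'p.to_le hJP).comap_subtype (K := D)).exists_le_sylow
    have hle : Nat.card J ≤ Nat.card R := by
      refine le_trans ?_ h1
      rw [hR1def, card_map_of_injective D.subtype_injective, Nat.card_congr (P1.equiv P3).toEquiv,
        ← card_map_of_injective D.subtype_injective (K := (P3 : Subgroup D))]
      exact card_le_of_le fun z hz => ⟨⟨z, hJD hz⟩, hP3 hz, rfl⟩
    have hxR' : (x : K) ∈ R := by
      rw [eq_of_le_of_card_ge (le_sup_left : R ≤ J) hle]
      exact mem_sup_right (mem_zpowers _)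
    exact hxR hxR'
  -- the closure is normalised
  intro g hg
  set V := W.map (MulAut.conj g).toMonoidHom with hV
  have hVc : Nat.card V = Nat.card W := card_map_of_injective (MulAut.conj g).injective
  have hdvd : Nat.card W ∣ Nat.card (W ⊓ V : Subgroup K) := by
    refine (Nat.dvd_iff_prime_pow_dvd_dvd _ _).2 fun p k hp hpk => ?_
    rcases Nat.eq_zero_or_pos k with rfl | hk
    · simp
    obtain ⟨R, hRW, hRp, hRi, hcov⟩ := hclimb p hp ((dvd_pow_self p hk.ne').trans hpk)
    obtain ⟨o, ho, w, hw, rfl⟩ := (SolvBasic.mem_sup_iff_of_le_normalizer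
      (inf_le_right.trans (ClosedAbelian.core_normalized (cen a)))).1 (hcov hg)
    have hoW : o ∈ normalizer (W : Set K) := le_normalizer (hOW ho)
    set R' := R.map (MulAut.conj (o * w)).toMonoidHom with hR'
    have hR'W : R' ≤ W ⊓ V := by
      refine le_inf ?_ (map_mono hRW)
      rw [hR', map_mul]
      show R.map ((MulAut.conj o).toMonoidHom.comp (MulAut.conj w).toMonoidHom) ≤ W
      rw [← map_map]
      refine (le_of_eq (congrArg (Subgroup.map _)
        ((mem_normalizer_iff_map_conj_eq).1 (mem_inf.1 hw).1))).trans ?_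
      exact (map_mono hRW).trans ((mem_normalizer_iff_map_conj_eq).1 hoW).le
    refine (dvd_trans ?_ (card_dvd_of_le hR'W))
    rw [hR', card_map_of_injective (MulAut.conj (o * w)).injective]
    have hmul : Nat.card R * R.relIndex W = Nat.card W := by
      rw [← Nat.card_congr (subgroupOfEquivOfLe hRW).toEquiv]
      exact card_mul_index _
    rw [← hmul] at hpk
    exact (Nat.Coprime.pow_left k (hp.coprime_iff_not_dvd.2 hRi)).dvd_of_dvd_mul_right hpk
  rw [mem_normalizer_iff_map_conj_eq]
  have h1 : W ⊓ V = W := eq_of_le_of_card_ge inf_le_left (Nat.le_of_dvd Nat.card_pos hdvd)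
  exact (eq_of_le_of_card_ge (h1 ▸ inf_le_right : W ≤ V) hVc.le).symm

end Cfsg.Agent.Walter8
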